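import Mathlib

/-!
Dihedral 2-subgroups described by a rotation and a reflection (order at least 4, four-groups included).
-/

set_option autoImplicit false
set_option linter.unusedSectionVars false

namespace CfsgLib.DihProduct

open Subgroup

variable {G : Type*} [Group G]

/-- `D` is dihedral of order `2 ^ (k + 2)`, with rotation `r` and reflection `a`. -/
structure Dih (D : Subgroup G) where
  k : ℕ
  r : G
  a : G
  order : orderOf r = 2 ^ (k + 1)
  sq : a * a = 1
  inv : a * r * a⁻¹ = r⁻¹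
  r_mem : r ∈ D
  a_mem : a ∈ D
  a_notMem : a ∉ zpowers r
  cases : ∀ x ∈ D, x ∈ zpowers r ∨ x * a ∈ zpowers r

namespace Dih

variable {D : Subgroup G} (d : Dih D)

/-- The central involution. -/
def z : G := d.r ^ (2 ^ d.k)

theorem rot_le : zpowers d.r ≤ D := zpowers_le.2 d.r_mem

theorem z_mem : d.z ∈ D := D.pow_mem d.r_mem _

theorem z_rot : d.z ∈ zpowers d.r := pow_mem (mem_zpowers _) _

theorem z_sq : d.z * d.z = 1 := by
  rw [z, ← pow_add, show 2 ^ d.k + 2 ^ d.k = orderOf d.r by rw [d.order, pow_succ]; omega, pow_orderOf_eq_one]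

theorem z_ne_one : d.z ≠ 1 :=
  pow_ne_one_of_lt_orderOf (by positivity) (by rw [d.order, pow_succ]; have := Nat.two_pow_pos d.k; omega)

theorem inv_z : d.z⁻¹ = d.z := inv_eq_of_mul_eq_one_right d.z_sq

/-- The only rotations squaring to `1`. -/
theorem rot_sq_eq_one {x : G} (hx : x ∈ zpowers d.r) (h : x * x = 1) : x = 1 ∨ x = d.z := by
  obtain ⟨i, rfl⟩ := hx
  simp only at h ⊢
  rw [← zpow_add, ← orderOf_dvd_iff_zpow_eq_one, d.order] at h
  obtain ⟨j, hj⟩ := h
  push_cast [pow_succ] at hj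
  have hi : i = (2 : ℤ) ^ d.k * j := by linarith
  have hz : d.r ^ i = d.z ^ j := by
    rw [hi, zpow_mul, z, ← zpow_natCast]; norm_cast
  rw [hz]
  rcases Int.even_or_odd j with ⟨l, rfl⟩ | ⟨l, rfl⟩
  · left
    rw [← two_mul, zpow_mul, zpow_two, d.z_sq, one_zpow]
  · right
    rw [zpow_add, zpow_mul, zpow_two, d.z_sq, one_zpow, one_mul, zpow_one]

theorem a_inv : d.a⁻¹ = d.a := inv_eq_of_mul_eq_one_right d.sq

/-- An element of `D` outside the rotations inverts every rotation. -/
theorem refl_inv {x y : G} (hx : x ∈ D) (hxr : x ∉ zpowers d.r) (hy : y ∈ zpowers d.r) :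
    x * y * x⁻¹ = y⁻¹ := by
  have ha : ∀ w ∈ zpowers d.r, d.a * w * d.a⁻¹ = w⁻¹ := by
    rintro _ ⟨i, rfl⟩
    simp only
    rw [← MulAut.conj_apply d.a, map_zpow, MulAut.conj_apply, d.inv, inv_zpow]
  obtain ⟨i, hi⟩ := (d.cases x hx).resolve_left hxr
  simp only at hi
  obtain ⟨j, rfl⟩ := hy
  simp only
  have e : x = d.r ^ i * d.a⁻¹ := by rw [hi, mul_inv_cancel_right]
  rw [e, d.a_inv, show d.r ^ i * d.a * d.r ^ j * (d.r ^ i * d.a)⁻¹ =
    d.r ^ i * (d.a * d.r ^ j * d.a⁻¹) * (d.r ^ i)⁻¹ by group, ha _ ⟨j, rfl⟩]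
  group

theorem refl_sq {x : G} (hx : x ∈ D) (hxr : x ∉ zpowers d.r) : x * x = 1 := by
  obtain ⟨i, hi⟩ := (d.cases x hx).resolve_left hxr
  simp only at hi
  have e : x = d.r ^ i * d.a := by rw [← d.a_inv, hi, mul_inv_cancel_right]
  have h := d.refl_inv d.a_mem d.a_notMem (zpow_mem (mem_zpowers d.r) i)
  rw [e, show d.r ^ i * d.a * (d.r ^ i * d.a) =
    d.r ^ i * (d.a * d.r ^ i * d.a⁻¹) * (d.a * d.a) by group, h, d.sq, mul_one, mul_inv_cancel]

theorem refl_mul_refl {x y : G} (hx : x ∈ D) (hxr : x ∉ zpowers d.r) (hy : y ∈ D)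
    (hyr : y ∉ zpowers d.r) : x * y ∈ zpowers d.r := by
  have h1 := (d.cases x hx).resolve_left hxr
  have h2 := (d.cases y hy).resolve_left hyr
  have e : x * y = (x * d.a) * ((y * d.a)⁻¹) := by
    rw [mul_inv_rev, d.a_inv, inv_eq_of_mul_eq_one_right (d.refl_sq hy hyr)]
    rw [show x * d.a * (d.a * y) = x * (d.a * d.a) * y by group, d.sq, mul_one]
  rw [e]
  exact mul_mem h1 (inv_mem h2)

theorem mul_refl {x y : G} (hx : x ∈ zpowers d.r) (hyr : y ∉ zpowers d.r) :
    x * y ∉ zpowers d.r := fun h => hyr ((mul_mem_cancel_left hx).1 h)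

theorem conj_rot_mem {x y : G} (hx : x ∈ D) (hy : y ∈ zpowers d.r) : x * y * x⁻¹ ∈ zpowers d.r := by
  by_cases hxr : x ∈ zpowers d.r
  · exact mul_mem (mul_mem hxr hy) (inv_mem hxr)
  · rw [d.refl_inv hx hxr hy]; exact inv_mem hy

theorem rot_comm {x y : G} (hx : x ∈ zpowers d.r) (hy : y ∈ zpowers d.r) : x * y = y * x := by
  obtain ⟨i, rfl⟩ := hx
  obtain ⟨j, rfl⟩ := hy
  exact ((Commute.refl d.r).zpow_zpow i j).eq

theorem z_central {x : G} (hx : x ∈ D) : x * d.z = d.z * x := by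
  by_cases hxr : x ∈ zpowers d.r
  · exact d.rot_comm hxr d.z_rot
  · have h := d.refl_inv hx hxr d.z_rot
    rw [d.inv_z] at h
    exact mul_inv_eq_iff_eq_mul.1 h

/-- For a four-group the rotations are `1` and `z`. -/
theorem rot_cases (hk : d.k = 0) {x : G} (hx : x ∈ zpowers d.r) : x = 1 ∨ x = d.z := by
  refine d.rot_sq_eq_one hx ?_
  obtain ⟨i, rfl⟩ := hx
  simp only
  rw [← zpow_add, ← orderOf_dvd_iff_zpow_eq_one, d.order, hk]
  exact ⟨i, by push_cast; ring⟩

theorem comm_of_four (hk : d.k = 0) {x y : G} (hx : x ∈ D) (hy : y ∈ D) : x * y = y * x := by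
  have key : ∀ w ∈ D, w * w = 1 := fun w hw => by
    by_cases hwr : w ∈ zpowers d.r
    · rcases d.rot_cases hk hwr with rfl | rfl
      · rw [one_mul]
      · exact d.z_sq
    · exact d.refl_sq hw hwr
  calc x * y = (x * y)⁻¹ := (inv_eq_of_mul_eq_one_right (key _ (D.mul_mem hx hy))).symm
    _ = y * x := by
      rw [mul_inv_rev, inv_eq_of_mul_eq_one_right (key x hx), inv_eq_of_mul_eq_one_right (key y hy)]

theorem sq_eq_one_of_four (hk : d.k = 0) {x : G} (hx : x ∈ D) : x * x = 1 := by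
  by_cases hxr : x ∈ zpowers d.r
  · rcases d.rot_cases hk hxr with rfl | rfl
    · rw [one_mul]
    · exact d.z_sq
  · exact d.refl_sq hx hxr

theorem r_sq_ne_one (hk : 1 ≤ d.k) : d.r * d.r ≠ 1 := by
  intro h
  rcases d.rot_sq_eq_one (mem_zpowers _) h with h1 | h1
  · have := d.order; rw [h1, orderOf_one] at this
    have := Nat.one_lt_two_pow (n := d.k + 1) (by omega); omega
  · have h2 : d.r ^ 1 = d.r ^ (2 ^ d.k) := by rw [pow_one]; exact h1
    have := pow_inj_mod.1 h2
    have e1 : 2 ^ d.k < orderOf d.r := by rw [d.order, pow_succ]; have := Nat.two_pow_pos d.k; omega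
    have e2 : 1 < 2 ^ d.k := Nat.one_lt_two_pow (by omega)
    rw [Nat.mod_eq_of_lt (by omega : 1 < orderOf d.r), Nat.mod_eq_of_lt e1] at this
    omega

/-- The centre of a dihedral group of order at least 8. -/
theorem central_cases (hk : 1 ≤ d.k) {x : G} (hx : x ∈ D) (h : ∀ y ∈ D, x * y = y * x) :
    x = 1 ∨ x = d.z := by
  by_cases hxr : x ∈ zpowers d.r
  · refine d.rot_sq_eq_one hxr ?_
    have h1 := d.refl_inv d.a_mem d.a_notMem hxr
    rw [← h d.a d.a_mem, mul_inv_cancel_right] at h1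
    nth_rewrite 2 [h1]
    rw [mul_inv_cancel]
  · exfalso
    have h1 := d.refl_inv hx hxr (mem_zpowers d.r)
    rw [h d.r d.r_mem, mul_inv_cancel_right] at h1
    apply d.r_sq_ne_one hk
    nth_rewrite 2 [h1]
    rw [mul_inv_cancel]

theorem z_mem_sq (hk : 1 ≤ d.k) : d.z ∈ zpowers (d.r * d.r) := by
  rw [z, ← pow_two, show 2 ^ d.k = 2 * 2 ^ (d.k - 1) by rw [← pow_succ', Nat.sub_add_cancel hk], pow_mul]
  exact pow_mem (mem_zpowers _) _

/-- The rotation of order 4. -/
def t : G := d.r ^ (2 ^ (d.k - 1))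

theorem t_rot : d.t ∈ zpowers d.r := pow_mem (mem_zpowers _) _

theorem t_mem : d.t ∈ D := d.rot_le d.t_rot

theorem t_sq (hk : 1 ≤ d.k) : d.t * d.t = d.z := by
  rw [t, z, ← pow_add, ← two_mul, ← pow_succ', Nat.sub_add_cancel hk]

theorem t_conj_refl (hk : 1 ≤ d.k) {x : G} (hx : x ∈ D) (hxr : x ∉ zpowers d.r) :
    d.t * x * d.t⁻¹ = x * d.z := by
  have h := d.refl_inv hx hxr d.t_rot
  have hxi := inv_eq_of_mul_eq_one_right (d.refl_sq hx hxr)
  have e : d.t * x = x * d.t⁻¹ := by
    rw [← h, show x * (x * d.t * x⁻¹) = (x * x) * d.t * x⁻¹ by group, d.refl_sq hx hxr, one_mul, hxi]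
  rw [e, mul_assoc, ← mul_inv_rev, d.t_sq hk, d.inv_z]

/-- The four-group through a reflection. -/
def four (b : G) : Subgroup G := zpowers d.z ⊔ zpowers b

theorem four_le {b : G} (hb : b ∈ D) : d.four b ≤ D := sup_le (zpowers_le.2 d.z_mem) (zpowers_le.2 hb)

theorem mem_four_left (b : G) : d.z ∈ d.four b := mem_sup_left (mem_zpowers _)

theorem mem_four_right (b : G) : b ∈ d.four b := mem_sup_right (mem_zpowers _)

theorem mem_four {b x : G} (hb : b ∈ D) (hbr : b ∉ zpowers d.r) :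
    x ∈ d.four b ↔ x = 1 ∨ x = d.z ∨ x = b ∨ x = b * d.z := by
  constructor
  · intro hx
    have hcl : d.four b = closure ({d.z, b} : Set G) := by
      rw [four, zpowers_eq_closure, zpowers_eq_closure, ← Subgroup.closure_union, Set.singleton_union]
    rw [hcl] at hx
    have hzb := d.z_central hb
    have hbb := d.refl_sq hb hbr
    induction hx using closure_induction with
    | mem y hy => rcases hy with rfl | rfl <;> simp
    | one => simp
    | mul u v _ _ hu hv =>
      have e1 : d.z * b = b * d.z := hzb.symm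
      have e2 : ∀ w, b * (b * w) = w := fun w => by rw [← mul_assoc, hbb, one_mul]
      have e3 : ∀ w, d.z * (d.z * w) = w := fun w => by rw [← mul_assoc, d.z_sq, one_mul]
      have e4 : ∀ w, d.z * (b * w) = b * (d.z * w) := fun w => by rw [← mul_assoc, e1, mul_assoc]
      rcases hu with rfl | rfl | rfl | rfl <;> rcases hv with rfl | rfl | rfl | rfl <;>
        simp [mul_assoc, hbb, d.z_sq, e1, e2, e3, e4]
    | inv u _ hu =>
      have hbi : b⁻¹ = b := inv_eq_of_mul_eq_one_right hbb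
      rcases hu with rfl | rfl | rfl | rfl <;> simp [d.inv_z, hbi, hzb]
  · rintro (rfl | rfl | rfl | rfl)
    · exact one_mem _
    · exact d.mem_four_left b
    · exact d.mem_four_right x
    · exact mul_mem (d.mem_four_right b) (d.mem_four_left b)

theorem four_comm {b x y : G} (hb : b ∈ D) (hbr : b ∉ zpowers d.r) (hx : x ∈ d.four b)
    (hy : y ∈ d.four b) : x * y = y * x := by
  have hzb : Commute b d.z := d.z_central hb
  rcases (d.mem_four hb hbr).1 hx with rfl | rfl | rfl | rfl <;>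
    rcases (d.mem_four hb hbr).1 hy with rfl | rfl | rfl | rfl <;>
    first
      | exact (Commute.one_left _).eq
      | exact (Commute.one_right _).eq
      | rfl
      | exact hzb.eq
      | exact hzb.symm.eq
      | exact ((Commute.refl _).mul_right hzb).eq
      | exact ((Commute.refl _).mul_right hzb).symm.eq
      | exact (hzb.symm.mul_right (Commute.refl _)).eq
      | exact (hzb.symm.mul_right (Commute.refl _)).symm.eq

theorem four_sq {b x : G} (hb : b ∈ D) (hbr : b ∉ zpowers d.r) (hx : x ∈ d.four b) : x * x = 1 := by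
  have hzb := d.z_central hb
  rcases (d.mem_four hb hbr).1 hx with rfl | rfl | rfl | rfl
  · rw [one_mul]
  · exact d.z_sq
  · exact d.refl_sq hb hbr
  · rw [show b * d.z * (b * d.z) = b * (d.z * b) * d.z by group, ← hzb,
      show b * (b * d.z) * d.z = (b * b) * (d.z * d.z) by group, d.refl_sq hb hbr, d.z_sq, one_mul]

theorem four_eq_of_k (hk : d.k = 0) {b : G} (hb : b ∈ D) (hbr : b ∉ zpowers d.r) : d.four b = D := by
  refine le_antisymm (d.four_le hb) fun x hx => ?_
  by_cases hxr : x ∈ zpowers d.r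
  · rcases d.rot_cases hk hxr with rfl | rfl
    · exact one_mem _
    · exact d.mem_four_left b
  · rcases d.rot_cases hk (d.refl_mul_refl hx hxr hb hbr) with h | h
    · have : x = b := by rw [eq_inv_of_mul_eq_one_left h, inv_eq_of_mul_eq_one_right (d.refl_sq hb hbr)]
      exact this ▸ d.mem_four_right b
    · have : x = d.z * b := by rw [← h, mul_assoc, d.refl_sq hb hbr, mul_one]
      exact this ▸ mul_mem (d.mem_four_left b) (d.mem_four_right b)

/-- An element of `D` normalising a four-group is in it or in its translate by `t`. -/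
theorem normalizes_four (hk : 1 ≤ d.k) {b c : G} (hb : b ∈ D) (hbr : b ∉ zpowers d.r) (hc : c ∈ D)
    (h : c * b * c⁻¹ ∈ d.four b) : c ∈ d.four b ⊔ zpowers d.t := by
  have key : ∀ c ∈ zpowers d.r, c * b * c⁻¹ ∈ d.four b → c ∈ d.four b ⊔ zpowers d.t := by
    intro c hc h
    have hbi := inv_eq_of_mul_eq_one_right (d.refl_sq hb hbr)
    have h1 : b * c⁻¹ = c * b := by
      have e := d.refl_inv hb hbr (inv_mem hc)
      rw [inv_inv] at e
      conv_rhs => rw [← e]
      group
    have h2 : c * b * c⁻¹ = c * c * b := by rw [mul_assoc, h1, ← mul_assoc]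
    rw [h2] at h
    have h3 : c * c ∈ d.four b := by
      have := mul_mem h (d.mem_four_right b)
      rwa [mul_assoc, d.refl_sq hb hbr, mul_one] at this
    have h4 : c * c = 1 ∨ c * c = d.z := by
      have hr : c * c ∈ zpowers d.r := mul_mem hc hc
      refine d.rot_sq_eq_one hr (d.four_sq hb hbr h3)
    rcases h4 with h4 | h4
    · rcases d.rot_sq_eq_one hc h4 with rfl | rfl
      · exact one_mem _
      · exact mem_sup_left (d.mem_four_left b)
    · have h5 : c * d.t⁻¹ = 1 ∨ c * d.t⁻¹ = d.z := by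
        refine d.rot_sq_eq_one (mul_mem hc (inv_mem d.t_rot)) ?_
        have hcm : Commute c d.t⁻¹ := d.rot_comm hc (inv_mem d.t_rot)
        rw [show c * d.t⁻¹ * (c * d.t⁻¹) = c * (d.t⁻¹ * c) * d.t⁻¹ by group, ← hcm.eq,
          show c * (c * d.t⁻¹) * d.t⁻¹ = c * c * (d.t * d.t)⁻¹ by group, h4, d.t_sq hk, mul_inv_cancel]
      rcases h5 with h5 | h5
      · rw [mul_inv_eq_one] at h5
        exact h5 ▸ mem_sup_right (mem_zpowers _)
      · rw [mul_inv_eq_iff_eq_mul] at h5
        exact h5 ▸ mul_mem (mem_sup_left (d.mem_four_left b)) (mem_sup_right (mem_zpowers _))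
  by_cases hcr : c ∈ zpowers d.r
  · exact key c hcr h
  · have hcb : c * b ∈ zpowers d.r := d.refl_mul_refl hc hcr hb hbr
    have hb' : b ∈ d.four b ⊔ zpowers d.t := mem_sup_left (d.mem_four_right b)
    have h6 : c * b ∈ d.four b ⊔ zpowers d.t := by
      refine key _ hcb ?_
      rwa [mul_inv_rev, show c * b * b * (b⁻¹ * c⁻¹) = c * b * c⁻¹ by group]
    have := mul_mem h6 hb'
    rwa [mul_assoc, d.refl_sq hb hbr, mul_one] at this

end Dih

/-- A dihedral 2-group with at least four elements has such a description. -/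
theorem nonempty_dih [Finite G] {D : Subgroup G} (hD : IsPGroup 2 D) {m : ℕ} (hm : 2 ≤ m)
    (e : D ≃* DihedralGroup m) : Nonempty (Dih D) := by
  haveI : NeZero m := ⟨by omega⟩
  haveI : Fact (Nat.Prime 2) := ⟨Nat.prime_two⟩
  obtain ⟨n, hn⟩ := IsPGroup.iff_card.1 hD
  rw [Nat.card_congr e.toEquiv, DihedralGroup.nat_card] at hn
  obtain ⟨j, -, hj⟩ := (Nat.dvd_prime_pow Nat.prime_two).1 (⟨2, by rw [← hn]; ring⟩ : m ∣ 2 ^ n)
  obtain ⟨k, rfl⟩ : ∃ k, j = k + 1 := ⟨j - 1, by rcases j with _ | j <;> simp_all⟩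
  have hinj : Function.Injective (D.subtype.comp e.symm.toMonoidHom) :=
    D.subtype_injective.comp e.symm.injective
  set f := D.subtype.comp e.symm.toMonoidHom with hf
  have hmem : ∀ x, f x ∈ D := fun x => (e.symm x).2
  have hrot : ∀ i : ZMod m, f (DihedralGroup.r i) ∈ zpowers (f (DihedralGroup.r 1)) := fun i => by
    rw [← ZMod.natCast_zmod_val i, ← DihedralGroup.r_one_pow, map_pow]
    exact pow_mem (mem_zpowers _) _
  have hnot : ∀ i : ZMod m, f (DihedralGroup.sr i) ∉ zpowers (f (DihedralGroup.r 1)) := fun i h => by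
    obtain ⟨l, hl⟩ := h
    simp only at hl
    rw [← map_zpow, DihedralGroup.r_zpow] at hl
    exact absurd (hinj hl) (by simp)
  refine ⟨⟨k, f (DihedralGroup.r 1), f (DihedralGroup.sr 0), ?_, ?_, ?_, hmem _, hmem _, hnot 0, ?_⟩⟩
  · rw [orderOf_injective f hinj, DihedralGroup.orderOf_r_one, hj]
  · rw [← map_mul, DihedralGroup.sr_mul_sr, sub_zero, ← DihedralGroup.one_def, map_one]
  · rw [← map_inv, ← map_inv, ← map_mul, ← map_mul]
    congr 1
    simp
  · intro x hx
    obtain ⟨y, hy⟩ : ∃ y, f y = x := ⟨e ⟨x, hx⟩, by simp [hf]⟩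
    rcases y with i | i
    · exact Or.inl (hy ▸ hrot i)
    · refine Or.inr ?_
      rw [← hy, ← map_mul, DihedralGroup.sr_mul_sr]
      exact hrot _

end CfsgLib.DihProduct
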