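import Cfsg.Agent.Lib.DihProduct.Factors

/-!
Without a normal subgroup of index 2 the two factors are dihedral and meet trivially.
-/

set_option autoImplicit false
set_option linter.unusedSectionVars false

namespace CfsgLib.DihProduct

open Subgroup

variable {G : Type*} [Group G] [Finite G]

local instance : Fact (Nat.Prime 2) := ⟨Nat.prime_two⟩

theorem Dih.four_elems {D : Subgroup G} (d : Dih D) (hk : d.k = 0) {x u v : G} (hx : x ∈ D) (hu : u ∈ D)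
    (hv : v ∈ D) (hu1 : u ≠ 1) (hv1 : v ≠ 1) (huv : u ≠ v) : x = 1 ∨ x = u ∨ x = v ∨ x = u * v := by
  have hcm : Commute d.a d.z := d.z_central d.a_mem
  have key : ∀ w ∈ D, w = 1 ∨ w = d.z ∨ w = d.a ∨ w = d.a * d.z := fun w hw =>
    (d.mem_four d.a_mem d.a_notMem).1 ((d.four_eq_of_k hk d.a_mem d.a_notMem).symm ▸ hw)
  have e1 : d.z * d.a = d.a * d.z := hcm.eq.symm
  have e2 : ∀ w, d.a * (d.a * w) = w := fun w => by rw [← mul_assoc, d.sq, one_mul]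
  have e3 : ∀ w, d.z * (d.z * w) = w := fun w => by rw [← mul_assoc, d.z_sq, one_mul]
  have e4 : ∀ w, d.z * (d.a * w) = d.a * (d.z * w) := fun w => by rw [← mul_assoc, e1, mul_assoc]
  rcases key u hu with rfl | rfl | rfl | rfl <;> rcases key v hv with rfl | rfl | rfl | rfl <;>
    rcases key x hx with rfl | rfl | rfl | rfl <;>
    first
      | exact absurd rfl hu1
      | exact absurd rfl hv1
      | exact absurd rfl huv
      | simp [mul_assoc, e1, e2, e3, e4, d.sq, d.z_sq]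

namespace Setting

variable (σ : Setting G)

theorem z₁_mem_factor (hk₁ : 1 ≤ σ.d₁.k) : σ.d₁.z ∈ σ.factor :=
  (zpowers_le.2 σ.r_sq_mem) (σ.d₁.z_mem_sq hk₁)

theorem swap_fst (hk₁ : 1 ≤ σ.d₁.k) {c d : G} (hc : c ∈ σ.D₁) (hd : d ∈ σ.D₂)
    (h : c * d ∈ σ.swap.factor) : c = 1 ∨ c = σ.d₁.z := by
  refine σ.d₁.central_cases hk₁ hc fun y hy => ?_
  have h1 : c * d * y = y * (c * d) := σ.swap.factor_comm₂ h hy
  rw [mul_assoc, ← σ.comm y hy d hd, ← mul_assoc, ← mul_assoc] at h1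
  exact mul_right_cancel h1

theorem swap_fst_mem (hk₁ : 1 ≤ σ.d₁.k) {c d : G} (hc : c ∈ σ.D₁) (hd : d ∈ σ.D₂)
    (h : c * d ∈ σ.swap.factor) : c ∈ σ.factor := by
  rcases σ.swap_fst hk₁ hc hd h with rfl | rfl
  · exact one_mem _
  · exact σ.z₁_mem_factor hk₁

theorem prod_decomp {x : G} (hx : x ∈ σ.prod) : ∃ u ∈ σ.factor, ∃ v ∈ σ.swap.factor, x = u * v := by
  obtain ⟨u, hu, v, hv, h⟩ := Techniques.exists_mul_of_mem_sup
    (fun a ha => centralizer_le_normalizer _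
      (mem_centralizer_iff.2 fun y hy => (σ.factors_comm ha hy).symm)) hx
  exact ⟨u, hu, v, hv, h.symm⟩

theorem exists_fst (hk₁ : 1 ≤ σ.d₁.k) (hP : (σ.P : Subgroup G) ≤ σ.prod) {c : G} (hc : c ∈ σ.D₁) :
    ∃ d ∈ σ.D₂, c * d ∈ σ.factor := by
  obtain ⟨u, hu, v, hv, e⟩ := σ.prod_decomp (hP (σ.le₁ hc))
  obtain ⟨c₁, hc₁, d₁, hd₁, rfl⟩ := σ.exists_mul (σ.factor_le_P hu)
  obtain ⟨c₂, hc₂, d₂, hd₂, rfl⟩ := σ.exists_mul (σ.swap.factor_le_P hv)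
  rw [σ.pair_mul hc₂ hd₁] at e
  have he := (σ.mul_unique hc (mul_mem hc₁ hc₂) (one_mem _) (mul_mem hd₁ hd₂) (by rw [mul_one]; exact e)).1
  refine ⟨d₁, hd₁, ?_⟩
  rw [he, mul_assoc, σ.comm c₂ hc₂ d₁ hd₁, ← mul_assoc]
  exact mul_mem hu (σ.swap_fst_mem hk₁ hc₂ hd₂ hv)

theorem exists_mover (hk₁ : 1 ≤ σ.d₁.k) (hP : (σ.P : Subgroup G) ≤ σ.prod) :
    ∃ b ∈ σ.D₁, b ∉ zpowers σ.d₁.r ∧ ∃ n ∈ normalizer ((σ.d₁.four b ⊔ σ.D₂ : Subgroup G) : Set G),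
      n * σ.d₁.z * n⁻¹ ≠ σ.d₁.z := by
  by_contra hno
  push Not at hno
  have hle : σ.factor ≤ zpowers σ.d₁.r := σ.factor_le (mul_mem (mem_zpowers _) (mem_zpowers _))
    (fun b hb hbr _ n hn => by rw [hno b hb hbr n hn]; exact σ.d₁.z_rot)
    (fun hk => absurd hk (by omega))
  obtain ⟨d, hd, h⟩ := σ.exists_fst hk₁ hP σ.d₁.a_mem
  have he := σ.mul_unique σ.d₁.a_mem (σ.d₁.rot_le (hle h)) hd (one_mem _) (by rw [mul_one])
  exact σ.d₁.a_notMem (he.1 ▸ hle h)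

theorem inter₁ (hk₁ : 1 ≤ σ.d₁.k) (hP : (σ.P : Subgroup G) ≤ σ.prod) {x : G} (hx : x ∈ σ.swap.factor)
    (hxD : x ∈ σ.D₁) : x = 1 := by
  refine (σ.swap_fst hk₁ hxD (one_mem _) (by rwa [mul_one])).resolve_right fun e => ?_
  subst e
  obtain ⟨b, hb, hbr, n, hn, hne⟩ := σ.exists_mover hk₁ hP
  have h1 := σ.mover_z₁ hk₁ hb hbr hn hne
  rw [σ.mover_fix_factor hk₁ hb hbr hn hx, left_eq_mul, conj_eq_one_iff] at h1
  exact σ.d₁.z_ne_one h1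

/-- Up to squares, the centres of the movers of one four-group are determined. -/
theorem centres_eq (hk₁ : 1 ≤ σ.d₁.k) {b : G} (hb : b ∈ σ.D₁) (hbr : b ∉ zpowers σ.d₁.r) :
    ∃ p ∈ σ.d₁.four b ⊔ σ.D₂, p * p = 1 ∧
      ∀ n ∈ normalizer ((σ.d₁.four b ⊔ σ.D₂ : Subgroup G) : Set G),
        n * σ.d₁.z * n⁻¹ ∈ zpowers (σ.d₁.r * σ.d₁.r) ∨
          n * σ.d₁.z * n⁻¹ * p ∈ zpowers (σ.d₁.r * σ.d₁.r) := by
  have hz := σ.d₁.z_mem_sq hk₁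
  by_cases h : ∃ n ∈ normalizer ((σ.d₁.four b ⊔ σ.D₂ : Subgroup G) : Set G), n * σ.d₁.z * n⁻¹ ≠ σ.d₁.z
  swap
  · push Not at h
    exact ⟨1, one_mem _, one_mul 1, fun n hn => Or.inl (by rw [h n hn]; exact hz)⟩
  obtain ⟨m, hm, hne⟩ := h
  have hsq : ∀ g : G, g * σ.d₁.z * g⁻¹ * (g * σ.d₁.z * g⁻¹) = 1 := fun g => by
    rw [show g * σ.d₁.z * g⁻¹ * (g * σ.d₁.z * g⁻¹) = g * (σ.d₁.z * σ.d₁.z) * g⁻¹ by group, σ.d₁.z_sq,
      mul_one, mul_inv_cancel]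
  refine ⟨m * σ.d₁.z * m⁻¹, σ.centre_mem hk₁ hb hbr hm, hsq m, fun n hn => ?_⟩
  by_cases hn' : n * σ.d₁.z * n⁻¹ = σ.d₁.z
  · exact Or.inl (by rw [hn']; exact hz)
  by_cases hnm : n * σ.d₁.z * n⁻¹ = m * σ.d₁.z * m⁻¹
  · exact Or.inr (by rw [hnm, hsq m]; exact one_mem _)
  obtain ⟨T, hT⟩ : ∃ T : ↥(normalizer ((σ.d₁.four b ⊔ σ.D₂ : Subgroup G) : Set G)),
      T = ⟨σ.d₁.t, σ.t_mem_normalizer hk₁ hb hbr le_rfl⟩ := ⟨_, rfl⟩
  obtain ⟨M, hM⟩ : ∃ M : ↥(normalizer ((σ.d₁.four b ⊔ σ.D₂ : Subgroup G) : Set G)), M = ⟨m, hm⟩ := ⟨_, rfl⟩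
  obtain ⟨N, hN⟩ : ∃ N : ↥(normalizer ((σ.d₁.four b ⊔ σ.D₂ : Subgroup G) : Set G)), N = ⟨n, hn⟩ := ⟨_, rfl⟩
  have hcl : TvClass (tClass _ T) := hT ▸ σ.full_tvClass hk₁ hb hbr
  have htv : Tv (act (σ.d₁.four b ⊔ σ.D₂) T) ⟨σ.d₁.z, mem_sup_left (σ.d₁.mem_four_left b)⟩ :=
    hT ▸ σ.t_tv hk₁ hb hbr le_rfl
  have hTM := htv.conj (act (σ.d₁.four b ⊔ σ.D₂) M)
  have hTN := htv.conj (act (σ.d₁.four b ⊔ σ.D₂) N)
  have hmem : ∀ g, act (σ.d₁.four b ⊔ σ.D₂) g * act _ T * (act _ g)⁻¹ ∈ tClass _ T := fun g =>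
    ⟨g, by rw [map_mul, map_mul, map_inv]⟩
  have hne₁ : act (σ.d₁.four b ⊔ σ.D₂) T ≠ act _ M * act _ T * (act _ M)⁻¹ := by
    intro e
    rw [← e] at hTM
    have := congrArg Subtype.val (htv.centre_unique hTM)
    rw [act_apply, hM] at this
    exact hne this.symm
  have hne₂ : act (σ.d₁.four b ⊔ σ.D₂) T ≠ act _ N * act _ T * (act _ N)⁻¹ := by
    intro e
    rw [← e] at hTN
    have := congrArg Subtype.val (htv.centre_unique hTN)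
    rw [act_apply, hN] at this
    exact hn' this.symm
  have hne₃ : act (σ.d₁.four b ⊔ σ.D₂) M * act _ T * (act _ M)⁻¹ ≠ act _ N * act _ T * (act _ N)⁻¹ := by
    intro e
    rw [← e] at hTN
    have := congrArg Subtype.val (hTM.centre_unique hTN)
    rw [act_apply, act_apply, hN, hM] at this
    exact hnm this.symm
  have h3 := hcl.three ⟨1, by rw [one_mul, inv_one, mul_one]⟩ (hmem M) (hmem N) hne₁ hne₂ hne₃
  rw [h3] at hTN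
  have hc := congrArg Subtype.val (hTN.centre_unique (hTM.conj (act _ T)))
  rw [act_apply, act_apply, act_apply, hM, hN, hT] at hc
  simp only at hc
  rw [hc]
  rcases σ.t_conj_four_sup hk₁ hb hbr le_rfl (σ.centre_mem hk₁ hb hbr hm) with e | e <;> rw [e]
  · exact Or.inr (by rw [hsq m]; exact one_mem _)
  · refine Or.inr ?_
    rw [← σ.z_comm_P (σ.four_sup_le_P hb le_rfl (σ.centre_mem hk₁ hb hbr hm)), mul_assoc, hsq m, mul_one]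
    exact hz

theorem conj_comm_mem_sq {c y : G} (hc : c ∈ σ.D₁) (hy : y ∈ (σ.P : Subgroup G)) :
    y⁻¹ * (c * y * c⁻¹) ∈ zpowers (σ.d₁.r * σ.d₁.r) := by
  obtain ⟨u, hu, v, hv, rfl⟩ := σ.exists_mul hy
  have e : c * (u * v) * c⁻¹ = c * u * c⁻¹ * v := by
    rw [show c * (u * v) * c⁻¹ = c * u * (v * c⁻¹) by group, ← σ.comm c⁻¹ (inv_mem hc) v hv]; group
  rw [e, mul_inv_rev, show v⁻¹ * u⁻¹ * (c * u * c⁻¹ * v) = v⁻¹ * (u⁻¹ * (c * u * c⁻¹) * v) by group,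
    σ.comm _ (mul_mem (inv_mem hu) (mul_mem (mul_mem hc hu) (inv_mem hc))) v hv, inv_mul_cancel_left]
  exact σ.d₁.comm_mem_sq hu hc

/-- A four-group second factor is moved by the odd part of `N(P)`. -/
theorem exists_disp (hk₁ : 1 ≤ σ.d₁.k) (hk₂ : σ.d₂.k = 0) (hP : (σ.P : Subgroup G) ≤ σ.prod) :
    ∃ n ∈ normalizer ((σ.P : Subgroup G) : Set G), ¬ 2 ∣ orderOf n ∧
      ∃ y ∈ σ.Z, y⁻¹ * (n * y * n⁻¹) ≠ 1 := by
  by_contra hno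
  push Not at hno
  have hbot : σ.swap.factor ≤ ⊥ := σ.swap.factor_le
    (mem_bot.2 (σ.d₂.sq_eq_one_of_four hk₂ σ.d₂.r_mem))
    (fun _ _ _ hk => by change 1 ≤ σ.d₂.k at hk; omega)
    (fun _ n hn ho y hy => mem_bot.2 (hno n hn ho y hy))
  have hP' : (σ.P : Subgroup G) ≤ σ.factor := hP.trans (sup_le le_rfl (hbot.trans bot_le))
  obtain ⟨R, hR⟩ : ∃ R, R = zpowers (σ.d₁.r * σ.d₁.r) := ⟨_, rfl⟩
  have hra : σ.d₁.r * σ.d₁.a ∈ σ.D₁ := mul_mem σ.d₁.r_mem σ.d₁.a_mem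
  have hra' := σ.d₁.mul_refl (mem_zpowers σ.d₁.r) σ.d₁.a_notMem
  obtain ⟨p₀, hp₀E, hp₀, h₀⟩ := σ.centres_eq hk₁ σ.d₁.a_mem σ.d₁.a_notMem
  obtain ⟨p₁, hp₁E, hp₁, h₁⟩ := σ.centres_eq hk₁ hra hra'
  have hp₀P := σ.four_sup_le_P σ.d₁.a_mem le_rfl hp₀E
  have hp₁P := σ.four_sup_le_P hra le_rfl hp₁E
  have hRP : R ≤ (σ.P : Subgroup G) :=
    hR ▸ zpowers_le.2 (σ.le₁ (mul_mem σ.d₁.r_mem σ.d₁.r_mem))
  -- conjugation and commutators are trivial modulo squares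
  have hnorm : (σ.P : Subgroup G) ≤ normalizer (R : Set G) := fun x hx => by
    refine mem_normalizer_of_conj_mem fun ρ hρ => ?_
    rw [hR] at hρ ⊢
    obtain ⟨c, hc, d, hd, rfl⟩ := σ.exists_mul hx
    have hρ' : ρ ∈ zpowers σ.d₁.r := zpowers_le.2 (mul_mem (mem_zpowers _) (mem_zpowers _)) hρ
    rw [show c * d * ρ * (c * d)⁻¹ = c * (d * ρ * d⁻¹) * c⁻¹ by group,
      ← σ.comm ρ (σ.d₁.rot_le hρ') d hd, mul_inv_cancel_right]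
    by_cases hcr : c ∈ zpowers σ.d₁.r
    · rw [σ.d₁.rot_comm hcr hρ', mul_inv_cancel_right]; exact hρ
    · rw [σ.d₁.refl_inv hc hcr hρ']; exact inv_mem hρ
  have hcomm : ∀ x ∈ (σ.P : Subgroup G), ∀ y ∈ (σ.P : Subgroup G), y⁻¹ * (x * y * x⁻¹) ∈ R := by
    intro x hx y hy
    obtain ⟨c, hc, d, hd, rfl⟩ := σ.exists_mul hx
    rw [hR, show c * d * y * (c * d)⁻¹ = c * (d * y * d⁻¹) * c⁻¹ by group,
      ← σ.Z_comm (σ.D₂_le_Z hk₂ hd) hy |>.symm, mul_inv_cancel_right]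
    exact σ.conj_comm_mem_sq hc hy
  have hmover : ∀ b ∈ σ.D₁, b ∉ zpowers σ.d₁.r →
      ∀ n ∈ normalizer ((σ.d₁.four b ⊔ σ.D₂ : Subgroup G) : Set G),
        n * σ.d₁.z * n⁻¹ ∈ R ⊔ zpowers p₀ ⊔ zpowers p₁ := by
    intro b hb hbr n hn
    obtain ⟨i, hi⟩ := (σ.d₁.cases b hb).resolve_left hbr
    simp only at hi
    have hb' : b = σ.d₁.r ^ i * σ.d₁.a := by rw [hi, mul_assoc, σ.d₁.sq, mul_one]
    -- `b` is conjugate under a rotation to `a` or `r a`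
    have main : ∀ e p : G, p ∈ R ⊔ zpowers p₀ ⊔ zpowers p₁ → e ∈ σ.D₁ → e ∉ zpowers σ.d₁.r →
        (∀ m ∈ normalizer ((σ.d₁.four e ⊔ σ.D₂ : Subgroup G) : Set G),
          m * σ.d₁.z * m⁻¹ ∈ R ∨ m * σ.d₁.z * m⁻¹ * p ∈ R) →
        ∀ c ∈ σ.D₁, c * e * c⁻¹ = b → n * σ.d₁.z * n⁻¹ ∈ R ⊔ zpowers p₀ ⊔ zpowers p₁ := by
      intro e p hp he her hall c hc hce
      have hmap : ((σ.d₁.four b ⊔ σ.D₂).map (MulAut.conj c⁻¹).toMonoidHom) = σ.d₁.four e ⊔ σ.D₂ := by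
        rw [Subgroup.map_sup,
          Techniques.map_conj_eq_self_iff.2 (σ.le_normalizer₂ (inv_mem (σ.le₁ hc))), Dih.four, Dih.four,
          Subgroup.map_sup, MonoidHom.map_zpowers, MonoidHom.map_zpowers]
        simp only [MulEquiv.coe_toMonoidHom, MulAut.conj_apply, inv_inv]
        rw [mul_assoc c⁻¹ σ.d₁.z c, ← σ.d₁.z_central hc, inv_mul_cancel_left, ← hce]
        congr 3
        group
      have hn' : c⁻¹ * n * c ∈ normalizer ((σ.d₁.four e ⊔ σ.D₂ : Subgroup G) : Set G) := by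
        refine mem_normalizer_of_conj_mem fun v hv => ?_
        rw [← hmap] at hv ⊢
        obtain ⟨v₀, hv₀, rfl⟩ := hv
        exact ⟨n * v₀ * n⁻¹, (mem_normalizer_iff.1 hn v₀).1 hv₀, by
          simp only [MulEquiv.coe_toMonoidHom, MulAut.conj_apply, inv_inv]; group⟩
      obtain ⟨q, hq⟩ : ∃ q, q = c⁻¹ * n * c * σ.d₁.z * (c⁻¹ * n * c)⁻¹ := ⟨_, rfl⟩
      have hqP : q ∈ (σ.P : Subgroup G) :=
        hq ▸ σ.four_sup_le_P he le_rfl (σ.centre_mem hk₁ he her hn')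
      have hqK : q ∈ R ⊔ zpowers p₀ ⊔ zpowers p₁ := by
        rcases hall _ hn' with h | h <;> rw [← hq] at h
        · exact mem_sup_left (mem_sup_left h)
        · have := mul_mem (mem_sup_left (mem_sup_left h) : q * p ∈ R ⊔ zpowers p₀ ⊔ zpowers p₁) (inv_mem hp)
          rwa [mul_inv_cancel_right] at this
      have e1 : n * σ.d₁.z * n⁻¹ = q * (q⁻¹ * (c * q * c⁻¹)) := by
        rw [mul_inv_cancel_left, hq,
          show c * (c⁻¹ * n * c * σ.d₁.z * (c⁻¹ * n * c)⁻¹) * c⁻¹ = n * (c * σ.d₁.z * c⁻¹) * n⁻¹ by group,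
          σ.d₁.z_central hc, mul_inv_cancel_right]
      rw [e1]
      exact mul_mem hqK (mem_sup_left (mem_sup_left (hcomm c (σ.le₁ hc) q hqP)))
    rcases Int.even_or_odd i with ⟨l, rfl⟩ | ⟨l, rfl⟩
    · refine main σ.d₁.a p₀ (mem_sup_left (mem_sup_right (mem_zpowers _))) σ.d₁.a_mem σ.d₁.a_notMem
        (by rw [hR]; exact h₀) (σ.d₁.r ^ l) (zpow_mem σ.d₁.r_mem l) ?_
      have h := σ.d₁.refl_inv σ.d₁.a_mem σ.d₁.a_notMem (inv_mem (zpow_mem (mem_zpowers σ.d₁.r) l))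
      rw [inv_inv] at h
      rw [hb', zpow_add, mul_assoc, mul_inv_eq_iff_eq_mul.1 h, ← mul_assoc]
    · refine main (σ.d₁.r * σ.d₁.a) p₁ (mem_sup_right (mem_zpowers _)) hra hra'
        (by rw [hR]; exact h₁) (σ.d₁.r ^ l) (zpow_mem σ.d₁.r_mem l) ?_
      have h := σ.d₁.refl_inv σ.d₁.a_mem σ.d₁.a_notMem (inv_mem (zpow_mem (mem_zpowers σ.d₁.r) l))
      rw [inv_inv] at h
      rw [hb', show σ.d₁.r ^ l * (σ.d₁.r * σ.d₁.a) * (σ.d₁.r ^ l)⁻¹ =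
        σ.d₁.r ^ l * σ.d₁.r * (σ.d₁.a * (σ.d₁.r ^ l)⁻¹) by group, mul_inv_eq_iff_eq_mul.1 h]
      group
  have hK : (σ.P : Subgroup G) ≤ R ⊔ zpowers p₀ ⊔ zpowers p₁ := hP'.trans (σ.factor_le
    (mem_sup_left (mem_sup_left (hR ▸ mem_zpowers _))) (fun b hb hbr _ n hn => hmover b hb hbr n hn)
    (fun hk => absurd hk (by omega)))
  have hpow : ∀ p : G, p * p = 1 → ∀ x ∈ zpowers p, x = 1 ∨ x = p := by
    rintro p hp _ ⟨i, rfl⟩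
    simp only
    rcases Int.even_or_odd i with ⟨l, rfl⟩ | ⟨l, rfl⟩
    · left; rw [← two_mul, zpow_mul, zpow_two, hp, one_zpow]
    · right; rw [zpow_add, zpow_mul, zpow_two, hp, one_zpow, one_mul, zpow_one]
  let rep : Fin 4 → G := ![1, p₀, p₁, p₀ * p₁]
  have hrep : ∀ x ∈ (σ.P : Subgroup G), ∃ i, x * (rep i)⁻¹ ∈ R := by
    intro x hx
    obtain ⟨v, hv, w, hw, rfl⟩ := Techniques.exists_mul_of_mem_sup'
      (A := zpowers p₁) (B := R ⊔ zpowers p₀) (zpowers_le.2 (mem_normalizer_of_conj_mem fun e he => by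
        have heP := sup_le hRP (zpowers_le.2 hp₀P) he
        have := mul_mem he (mem_sup_left (hcomm p₁ hp₁P e heP) :
          e⁻¹ * (p₁ * e * p₁⁻¹) ∈ R ⊔ zpowers p₀)
        rwa [mul_inv_cancel_left] at this))
      (sup_comm (R ⊔ zpowers p₀) (zpowers p₁) ▸ hK hx)
    obtain ⟨ρ, hρ, u, hu, rfl⟩ := Techniques.exists_mul_of_mem_sup'
      (A := zpowers p₀) (B := R) (zpowers_le.2 (hnorm hp₀P)) (sup_comm R (zpowers p₀) ▸ hv)
    rcases hpow p₀ hp₀ u hu with rfl | rfl <;> rcases hpow p₁ hp₁ w hw with rfl | rfl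
    · exact ⟨0, by simpa [rep] using hρ⟩
    · exact ⟨2, by simpa [rep] using hρ⟩
    · exact ⟨1, by simpa [rep] using hρ⟩
    · exact ⟨3, by simpa [rep, mul_assoc] using hρ⟩
  let five : Fin 5 → G := ![1, σ.d₂.z, σ.d₂.a, σ.d₂.a * σ.d₂.z, σ.d₁.a]
  have hfive : ∀ i, five i ∈ (σ.P : Subgroup G) := by
    intro i
    fin_cases i
    · exact one_mem _
    · exact σ.le₂ σ.d₂.z_mem
    · exact σ.le₂ σ.d₂.a_mem
    · exact σ.le₂ (mul_mem σ.d₂.a_mem σ.d₂.z_mem)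
    · exact σ.le₁ σ.d₁.a_mem
  choose f hf using fun i => hrep (five i) (hfive i)
  obtain ⟨i, j, hij, e⟩ := Fintype.exists_ne_map_eq_of_card_lt f (by simp)
  have hdiff : five i * (five j)⁻¹ ∈ R := by
    have := mul_mem (hf i) (inv_mem (hf j))
    rwa [e, show five i * (rep (f j))⁻¹ * (five j * (rep (f j))⁻¹)⁻¹ = five i * (five j)⁻¹ by group] at this
  rw [hR] at hdiff
  have hdiff' : five i * (five j)⁻¹ ∈ zpowers σ.d₁.r :=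
    zpowers_le.2 (mul_mem (mem_zpowers _) (mem_zpowers _)) hdiff
  have hD₂ : ∀ u ∈ σ.D₂, u ∈ zpowers σ.d₁.r → u = 1 := fun u hu hur => by
    have : u ∈ σ.D₁ ⊓ σ.D₂ := ⟨σ.d₁.rot_le hur, hu⟩
    rwa [σ.disj, mem_bot] at this
  have ha : ∀ u ∈ σ.D₂, σ.d₁.a * u ∉ zpowers σ.d₁.r := fun u hu h => σ.d₁.a_notMem
    ((σ.mul_unique σ.d₁.a_mem (σ.d₁.rot_le h) hu (one_mem _) (mul_one _).symm).1 ▸ h)
  have ha' : ∀ u ∈ σ.D₂, u * σ.d₁.a⁻¹ ∉ zpowers σ.d₁.r := fun u hu h => ha u⁻¹ (inv_mem hu) (by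
    have h' := inv_mem h
    rwa [mul_inv_rev, inv_inv] at h')
  have hz1 := σ.d₂.z_ne_one
  have ha1 : σ.d₂.a ≠ 1 := fun e => σ.d₂.a_notMem (e ▸ one_mem _)
  have haz : σ.d₂.a ≠ σ.d₂.z := fun e => σ.d₂.a_notMem (e ▸ σ.d₂.z_rot)
  have hzD := σ.d₂.z_mem
  have haD := σ.d₂.a_mem
  by_cases hi4 : i = 4
  · subst hi4
    have hjD : (five j) ∈ σ.D₂ := by
      fin_cases j
      · exact one_mem _
      · exact hzD
      · exact haD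
      · exact mul_mem haD hzD
      · exact absurd rfl hij
    exact ha _ (inv_mem hjD) hdiff'
  by_cases hj4 : j = 4
  · subst hj4
    have hiD : (five i) ∈ σ.D₂ := by
      fin_cases i
      · exact one_mem _
      · exact hzD
      · exact haD
      · exact mul_mem haD hzD
      · exact absurd rfl hij
    exact ha' _ hiD hdiff'
  have hmem : ∀ l, l ≠ 4 → five l ∈ σ.D₂ := by
    intro l hl
    fin_cases l
    · exact one_mem _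
    · exact hzD
    · exact haD
    · exact mul_mem haD hzD
    · exact absurd rfl hl
  have heq : five i = five j :=
    mul_inv_eq_one.1 (hD₂ _ (mul_mem (hmem i hi4) (inv_mem (hmem j hj4))) hdiff')
  fin_cases i <;> fin_cases j <;>
    first
      | exact absurd rfl hij
      | exact absurd rfl hi4
      | exact absurd rfl hj4
      | exact hz1 heq
      | exact hz1 heq.symm
      | exact ha1 heq
      | exact ha1 heq.symm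
      | exact haz heq
      | exact haz heq.symm
      | exact ha1 (mul_eq_right.1 heq)
      | exact ha1 (mul_eq_right.1 heq.symm)
      | exact hz1 (mul_eq_left.1 heq)
      | exact hz1 (mul_eq_left.1 heq.symm)
      | exact haz ((eq_inv_of_mul_eq_one_left heq).trans σ.d₂.inv_z)
      | exact haz ((eq_inv_of_mul_eq_one_left heq.symm).trans σ.d₂.inv_z)

theorem inter₂ (hk₁ : 1 ≤ σ.d₁.k) (h2 : ∀ N : Subgroup G, N.Normal → N.index ≠ 2) {x : G}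
    (hx : x ∈ σ.factor) (hxD : x ∈ σ.D₂) : x = 1 := by
  have hP := σ.P_le_prod hk₁ h2
  rcases Nat.eq_zero_or_pos σ.d₂.k with hk₂ | hk₂
  swap
  · exact σ.swap.inter₁ hk₂ (σ.prod_swap.symm ▸ hP) hx hxD
  obtain ⟨n, hn, ho, y, hy, hne⟩ := σ.exists_disp hk₁ hk₂ hP
  have hNZ := σ.Z_mem_normalizer hn
  obtain ⟨c₀, hc₀⟩ : ∃ c, c = y⁻¹ * (n * y * n⁻¹) := ⟨_, rfl⟩
  rw [← hc₀] at hne
  have hc₀S : c₀ ∈ σ.swap.factor := hc₀ ▸ σ.swap.disp_mem_factor hk₂ hn ho hy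
  have hc₀Z : c₀ ∈ σ.Z := hc₀ ▸ mul_mem (inv_mem hy) ((mem_normalizer_iff.1 hNZ y).1 hy)
  have hc₁S : n * c₀ * n⁻¹ ∈ σ.swap.factor :=
    (mem_normalizer_iff.1 (σ.swap.odd_mem_normalizer_factor hn ho) _).1 hc₀S
  have hc₁Z : n * c₀ * n⁻¹ ∈ σ.Z := (mem_normalizer_iff.1 hNZ _).1 hc₀Z
  have hyx : n * y * n⁻¹ = y * c₀ := by rw [hc₀, mul_inv_cancel_left]
  have hmove : n * c₀ * n⁻¹ ≠ c₀ := by
    intro e
    have h := odd_fix ho hyx e (m := 1) (by rw [pow_one, pow_two]; exact σ.Z_sq hk₁ hk₂ hc₀Z)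
    rw [hyx, mul_eq_left] at h
    exact hne h
  obtain ⟨ε₀, hε₀, d₀, hd₀, e₀⟩ := σ.exists_mul (σ.Z_le hc₀Z)
  obtain ⟨ε₁, hε₁, d₁, hd₁, e₁⟩ := σ.exists_mul (σ.Z_le hc₁Z)
  have hzfix := σ.odd_fix_z₁' hn ho hk₁ hk₂
  have hεfix : ∀ {ε d : G}, ε ∈ σ.D₁ → d ∈ σ.D₂ → ε * d ∈ σ.swap.factor → n * ε * n⁻¹ = ε := by
    intro ε d hε hd h
    rcases σ.swap_fst hk₁ hε hd h with rfl | rfl
    · rw [mul_one, mul_inv_cancel]
    · exact hzfix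
  have hinj : ∀ {ε ε' d : G}, ε ∈ σ.D₁ → ε' ∈ σ.D₁ → d ∈ σ.D₂ → ε * d ∈ σ.swap.factor →
      ε' * d ∈ σ.swap.factor → ε = ε' := fun hε hε' hd h h' => by
    have := σ.inter₁ hk₁ hP (mul_mem h (inv_mem h')) (by
      rw [mul_inv_rev, ← mul_assoc, mul_inv_cancel_right]; exact mul_mem hε (inv_mem hε'))
    rw [mul_inv_eq_one] at this
    exact mul_right_cancel this
  have hd₀1 : d₀ ≠ 1 := fun h => hne (σ.inter₁ hk₁ hP hc₀S (by rw [e₀, h, mul_one]; exact hε₀))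
  have hd₁1 : d₁ ≠ 1 := fun h => hne (by
    have := σ.inter₁ hk₁ hP hc₁S (by rw [e₁, h, mul_one]; exact hε₁)
    rwa [conj_eq_one_iff] at this)
  have hd01 : d₀ ≠ d₁ := by
    intro h
    rw [← h] at e₁
    exact hmove (by rw [e₁, e₀, hinj hε₁ hε₀ hd₀ (e₁ ▸ hc₁S) (e₀ ▸ hc₀S)])
  have hfix := σ.odd_fix_factor hk₁ hn ho hx
  have f₀ := hεfix hε₀ hd₀ (e₀ ▸ hc₀S)
  have f₁ := hεfix hε₁ hd₁ (e₁ ▸ hc₁S)
  rcases σ.d₂.four_elems hk₂ hxD hd₀ hd₁ hd₀1 hd₁1 hd01 with rfl | rfl | rfl | rfl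
  · rfl
  · exfalso
    refine hmove ?_
    rw [e₀, show n * (ε₀ * x) * n⁻¹ = (n * ε₀ * n⁻¹) * (n * x * n⁻¹) by group, f₀, hfix]
  · exfalso
    have h : n * (n * c₀ * n⁻¹) * n⁻¹ = n * c₀ * n⁻¹ := by
      rw [e₁, show n * (ε₁ * x) * n⁻¹ = (n * ε₁ * n⁻¹) * (n * x * n⁻¹) by group, f₁, hfix]
    exact hmove (mul_left_cancel (mul_right_cancel h))
  · exfalso
    have hprod : c₀ * (n * c₀ * n⁻¹) = ε₀ * ε₁ * (d₀ * d₁) := by rw [e₁, e₀, σ.pair_mul hε₁ hd₀]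
    have h : n * (c₀ * (n * c₀ * n⁻¹)) * n⁻¹ = c₀ * (n * c₀ * n⁻¹) := by
      rw [hprod, show n * (ε₀ * ε₁ * (d₀ * d₁)) * n⁻¹ =
        (n * ε₀ * n⁻¹) * (n * ε₁ * n⁻¹) * (n * (d₀ * d₁) * n⁻¹) by group, f₀, f₁, hfix]
    rw [show n * (c₀ * (n * c₀ * n⁻¹)) * n⁻¹ = (n * c₀ * n⁻¹) * (n * (n * c₀ * n⁻¹) * n⁻¹) by group,
      σ.Z_comm hc₀Z (σ.Z_le hc₁Z)] at h
    exact hmove (fix_of_sq_fix ho (mul_left_cancel h))

theorem factors_disjoint (hk₁ : 1 ≤ σ.d₁.k) (h2 : ∀ N : Subgroup G, N.Normal → N.index ≠ 2) :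
    σ.factor ⊓ σ.swap.factor = ⊥ := by
  refine (eq_bot_iff_forall _).2 fun x hx => ?_
  obtain ⟨hx₁, hx₂⟩ := mem_inf.1 hx
  obtain ⟨c, hc, d, hd, rfl⟩ := σ.exists_mul (σ.factor_le_P hx₁)
  have hcS := σ.swap_fst_mem hk₁ hc hd hx₂
  have hd1 : d = 1 := σ.inter₂ hk₁ h2 (by
    have := mul_mem (inv_mem hcS) hx₁
    rwa [inv_mul_cancel_left] at this) hd
  subst hd1
  rw [mul_one] at hx₂ ⊢
  exact σ.inter₁ hk₁ (σ.P_le_prod hk₁ h2) hx₂ hc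

theorem exists_snd (hk₁ : 1 ≤ σ.d₁.k) (h2 : ∀ N : Subgroup G, N.Normal → N.index ≠ 2) {d : G}
    (hd : d ∈ σ.D₂) : ∃ c ∈ σ.D₁, d * c ∈ σ.swap.factor := by
  obtain ⟨u, hu, v, hv, e⟩ := σ.prod_decomp (σ.P_le_prod hk₁ h2 (σ.le₂ hd))
  obtain ⟨c₁, hc₁, d₁, hd₁, rfl⟩ := σ.exists_mul (σ.factor_le_P hu)
  obtain ⟨c₂, hc₂, d₂, hd₂, rfl⟩ := σ.exists_mul (σ.swap.factor_le_P hv)
  rw [σ.pair_mul hc₂ hd₁] at e
  obtain ⟨ec, ed⟩ := σ.mul_unique (one_mem _) (mul_mem hc₁ hc₂) hd (mul_mem hd₁ hd₂) (by rw [one_mul]; exact e)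
  have hc₁S : c₁ ∈ σ.factor := by
    rw [eq_inv_of_mul_eq_one_left ec.symm]
    exact inv_mem (σ.swap_fst_mem hk₁ hc₂ hd₂ hv)
  have hd₁1 : d₁ = 1 := σ.inter₂ hk₁ h2 (by
    have := mul_mem (inv_mem hc₁S) hu
    rwa [inv_mul_cancel_left] at this) hd₁
  refine ⟨c₂, hc₂, ?_⟩
  rw [← σ.comm c₂ hc₂ d hd, ed, hd₁1, one_mul]
  exact hv

/-- A factor projects isomorphically. -/
theorem nonempty_equiv (hsurj : ∀ c ∈ σ.D₁, ∃ d ∈ σ.D₂, c * d ∈ σ.factor)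
    (hinj : ∀ x ∈ σ.factor, x ∈ σ.D₂ → x = 1) : Nonempty (σ.D₁ ≃* σ.factor) := by
  choose f hf hfS using hsurj
  have huniq : ∀ c ∈ σ.D₁, ∀ d ∈ σ.D₂, ∀ d' ∈ σ.D₂, c * d ∈ σ.factor → c * d' ∈ σ.factor → d = d' := by
    intro c _ d hd d' hd' h h'
    have := mul_mem (inv_mem h) h'
    rw [show (c * d)⁻¹ * (c * d') = d⁻¹ * d' by group] at this
    exact inv_mul_eq_one.1 (hinj _ this (mul_mem (inv_mem hd) hd'))
  let F : σ.D₁ →* σ.factor :=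
    MonoidHom.mk' (fun c => ⟨c.1 * f c.1 c.2, hfS c.1 c.2⟩) fun a b => Subtype.ext (by
      have h : (a : G) * f a.1 a.2 * (b * f b.1 b.2) = a * b * (f a.1 a.2 * f b.1 b.2) :=
        σ.pair_mul b.2 (hf _ a.2)
      show (a : G) * b * f _ _ = a * f a.1 a.2 * (b * f b.1 b.2)
      rw [h, huniq _ (a * b).2 _ (hf _ (a * b).2) _ (mul_mem (hf _ a.2) (hf _ b.2)) (hfS _ (a * b).2)
        (h ▸ mul_mem (hfS _ a.2) (hfS _ b.2))])
  refine ⟨MulEquiv.ofBijective F ⟨fun a b e => Subtype.ext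
    (σ.mul_unique a.2 b.2 (hf _ a.2) (hf _ b.2) (congrArg Subtype.val e)).1, fun x => ?_⟩⟩
  obtain ⟨c, hc, d, hd, e⟩ := σ.exists_mul (σ.factor_le_P x.2)
  refine ⟨⟨c, hc⟩, Subtype.ext ?_⟩
  show c * f c hc = x.1
  rw [e, huniq c hc _ (hf c hc) d hd (hfS c hc) (e ▸ x.2)]

end Setting

end CfsgLib.DihProduct
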