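import Cfsg.Agent.Lib.DihProduct.Fours

/-!
All fusion in a product of two dihedral groups is composed of conjugations by elements of `P`, of `N(P)`,
and by the conjugates of the two transvections in the normalisers of `V × D₂` and `D₁ × W`.
-/

set_option autoImplicit false
set_option linter.unusedSectionVars false
set_option linter.style.haveILetI false

namespace CfsgLib.DihProduct

open Subgroup Cfsg.Tech46.AlpGold

variable {G : Type*} [Group G] [Finite G]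

local instance : Fact (Nat.Prime 2) := ⟨Nat.prime_two⟩

/-- A relation contains the conjugations by the conjugates of `t` in the normalisers of `V × D₂`. -/
def MoverRel (σ : Setting G) (R : G → G → Prop) : Prop :=
  ∀ b ∈ σ.D₁, b ∉ zpowers σ.d₁.r → 1 ≤ σ.d₁.k →
    ∀ n ∈ normalizer ((σ.d₁.four b ⊔ σ.D₂ : Subgroup G) : Set G), ∀ x ∈ σ.d₁.four b ⊔ σ.D₂,
      R x (n * σ.d₁.t * n⁻¹ * x * (n * σ.d₁.t * n⁻¹)⁻¹)

/-- A relation containing the generating conjugations. -/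
structure Closed (σ : Setting G) (R : G → G → Prop) : Prop where
  trans : ∀ {x y z : G}, R x y → R y z → R x z
  byP : ∀ s ∈ (σ.P : Subgroup G), ∀ x ∈ (σ.P : Subgroup G), R x (s * x * s⁻¹)
  byN : ∀ n ∈ normalizer ((σ.P : Subgroup G) : Set G), ∀ x ∈ (σ.P : Subgroup G), R x (n * x * n⁻¹)
  mover₁ : MoverRel σ R
  mover₂ : MoverRel σ.swap R

namespace Closed

variable {σ : Setting G} {R : G → G → Prop}

theorem swap (h : Closed σ R) : Closed σ.swap R :=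
  ⟨h.trans, h.byP, h.byN, h.mover₂, h.mover₁⟩

theorem refl (h : Closed σ R) {x : G} (hx : x ∈ (σ.P : Subgroup G)) : R x x := by
  simpa using h.byP 1 (one_mem _) x hx

/-- The elements of `N(E)` realising related pairs. -/
def stab (h : Closed σ R) (E : Subgroup G) (hE : E ≤ (σ.P : Subgroup G)) : Subgroup G :=
  let M : Submonoid G :=
    { carrier := {n | n ∈ normalizer (E : Set G) ∧ ∀ x ∈ E, R x (n * x * n⁻¹)}
      one_mem' := ⟨one_mem _, fun x hx => by simpa using h.refl (hE hx)⟩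
      mul_mem' := by
        rintro n m ⟨hn, hn'⟩ ⟨hm, hm'⟩
        refine ⟨mul_mem hn hm, fun x hx => ?_⟩
        rw [show n * m * x * (n * m)⁻¹ = n * (m * x * m⁻¹) * n⁻¹ by group]
        exact h.trans (hm' x hx) (hn' _ ((mem_normalizer_iff.1 hm x).1 hx)) }
  { M with
    inv_mem' := fun {n} hn => by
      obtain ⟨k, hk⟩ := (IsOfFinOrder.mem_powers_iff_mem_zpowers (isOfFinOrder_of_finite n)).2
        (inv_mem (mem_zpowers n))
      simp only at hk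
      exact hk ▸ M.pow_mem hn k }

theorem mem_stab (h : Closed σ R) {E : Subgroup G} {hE : E ≤ (σ.P : Subgroup G)} {n : G} :
    n ∈ h.stab E hE ↔ n ∈ normalizer (E : Set G) ∧ ∀ x ∈ E, R x (n * x * n⁻¹) := Iff.rfl

theorem centralizer_le_stab (h : Closed σ R) {E : Subgroup G} (hE : E ≤ (σ.P : Subgroup G)) :
    centralizer (E : Set G) ≤ h.stab E hE := fun c hc =>
  h.mem_stab.2 ⟨centralizer_le_normalizer _ hc, fun x hx => by
    rw [← mem_centralizer_iff.1 hc x hx, mul_inv_cancel_right]; exact h.refl (hE hx)⟩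

theorem P_le_stab (h : Closed σ R) {E : Subgroup G} (hE : E ≤ (σ.P : Subgroup G)) :
    (σ.P : Subgroup G) ⊓ normalizer (E : Set G) ≤ h.stab E hE := fun _ hc =>
  h.mem_stab.2 ⟨(mem_inf.1 hc).2, fun x hx => h.byP _ (mem_inf.1 hc).1 x (hE hx)⟩

/-- The decompositions of the family respect `R`. -/
theorem of_moves (h : Closed σ R) (c : ℕ)
    (hgood : ∀ E, ∀ hF : Family σ.P E, c < Nat.card E → normalizer (E : Set G) ≤ h.stab E hF.1) :
    ∀ (L : List (Subgroup G × G)) (A : Set G), Moves σ.P A L → c < A.ncard →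
      ∀ x ∈ A, x ∈ (σ.P : Subgroup G) → R x ((val L)⁻¹ * x * val L)
  | [], A, _, _, x, _, hxP => by simpa [val] using h.refl hxP
  | s :: L, A, ⟨⟨hF, hs⟩, hA, hL⟩, hc, x, hx, _ => by
    have hcard : c < Nat.card s.1 := lt_of_lt_of_le hc
      ((Set.ncard_le_ncard hA (Set.toFinite _)).trans (le_of_eq (by simp [← Nat.card_coe_set_eq])))
    have hst := h.mem_stab.1 (hgood _ hF hcard (inv_mem hs))
    have h1 := hst.2 x (hA hx)
    rw [inv_inv] at h1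
    have hmem : s.2⁻¹ * x * s.2 ∈ s.1 := by
      simpa using (mem_normalizer_iff.1 hst.1 x).1 (hA hx)
    have hcard' : c < (cj s.2 A).ncard := by
      rwa [cj, Set.ncard_image_of_injective]
      exact fun a b hab => by simpa using hab
    have h2 := of_moves h c hgood L (cj s.2 A) hL hcard' _ ⟨x, hx, rfl⟩ (hF.1 hmem)
    rw [val_cons, show (s.2 * val L)⁻¹ * x * (s.2 * val L) = (val L)⁻¹ * (s.2⁻¹ * x * s.2) * val L by group]
    exact h.trans h1 h2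

theorem of_big (h : Closed σ R) (c : ℕ)
    (hgood : ∀ E, ∀ hF : Family σ.P E, c < Nat.card E → normalizer (E : Set G) ≤ h.stab E hF.1)
    {A : Set G} (hA : A ⊆ ((σ.P : Subgroup G) : Set G)) (hc : c < A.ncard) {g : G}
    (hg : ∀ a ∈ A, g * a * g⁻¹ ∈ (σ.P : Subgroup G)) {x : G} (hx : x ∈ A) : R x (g * x * g⁻¹) := by
  obtain ⟨L, w, hw, hgw, hL, -⟩ := conjugation_family σ.P A hA g⁻¹ (by
    rintro _ ⟨a, ha, rfl⟩
    show g⁻¹⁻¹ * a * g⁻¹ ∈ _
    rw [inv_inv]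
    exact hg a ha)
  have h1 := h.of_moves c hgood L A hL hc x hx (hA hx)
  have e : g * x * g⁻¹ = (val L)⁻¹ * x * val L := by
    have hg' : g = (val L)⁻¹ * w⁻¹ := by rw [← mul_inv_rev, ← hgw, inv_inv]
    rw [hg', show (val L)⁻¹ * w⁻¹ * x * ((val L)⁻¹ * w⁻¹)⁻¹ = (val L)⁻¹ * (w⁻¹ * (x * w)) * val L by group,
      mem_centralizer_iff.1 hw x hx, inv_mul_cancel_left]
  rw [e]
  exact h1

/-- `V × D₂`. -/
theorem case_full (h : Closed σ R) (hk : 1 ≤ σ.d₁.k) {b : G} (hb : b ∈ σ.D₁)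
    (hbr : b ∉ zpowers σ.d₁.r) (hF : Family σ.P (σ.d₁.four b ⊔ σ.D₂))
    (hgood : ∀ E, ∀ hE : Family σ.P E, Nat.card (σ.d₁.four b ⊔ σ.D₂ : Subgroup G) < Nat.card E →
      normalizer (E : Set G) ≤ h.stab E hE.1) :
    normalizer ((σ.d₁.four b ⊔ σ.D₂ : Subgroup G) : Set G) ≤ h.stab _ hF.1 := by
  set t : ↥(normalizer ((σ.d₁.four b ⊔ σ.D₂ : Subgroup G) : Set G)) :=
    ⟨σ.d₁.t, σ.t_mem_normalizer hk hb hbr le_rfl⟩
  have htP : σ.d₁.t ∈ (σ.P : Subgroup G) := σ.le₁ σ.d₁.t_mem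
  refine normalizer_le_of_tvClass hF (t := t) htP (tvClass hF.2.2.2 (σ.t_tv hk hb hbr le_rfl)
    (σ.unique_full hk hb hbr)) _ (h.centralizer_le_stab hF.1)
    ((le_inf hF.1 le_normalizer).trans (h.P_le_stab hF.1)) (h.P_le_stab hF.1 (mem_inf.2 ⟨htP, t.2⟩)) ?_ ?_
  · intro g
    exact h.mem_stab.2 ⟨mul_mem (mul_mem g.2 t.2) (inv_mem g.2),
      h.mover₁ b hb hbr hk g g.2⟩
  · intro n hn
    obtain ⟨hn1, hn2⟩ := mem_inf.1 hn
    refine h.mem_stab.2 ⟨hn1, fun x hx => ?_⟩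
    have hlt : (σ.d₁.four b ⊔ σ.D₂ : Subgroup G) <
        (σ.d₁.four b ⊔ σ.D₂) ⊔ zpowers (t : G) := by
      refine lt_of_le_of_ne le_sup_left fun he => ?_
      have h1 : σ.d₁.t ∈ σ.d₁.four b ⊔ σ.D₂ := he ▸ mem_sup_right (mem_zpowers _)
      have h2 := (σ.sup_components (σ.d₁.four_le hb) le_rfl σ.d₁.t_mem (one_mem _) (by rwa [mul_one])).1
      have h3 := σ.d₁.four_sq hb hbr h2
      rw [σ.d₁.t_sq hk] at h3
      exact σ.d₁.z_ne_one h3
    have hP : (σ.d₁.four b ⊔ σ.D₂) ⊔ zpowers (t : G) ≤ (σ.P : Subgroup G) :=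
      sup_le hF.1 (zpowers_le.2 htP)
    refine h.of_big (Nat.card (σ.d₁.four b ⊔ σ.D₂ : Subgroup G)) hgood
      (A := (((σ.d₁.four b ⊔ σ.D₂) ⊔ zpowers (t : G) : Subgroup G) : Set G)) hP ?_ ?_ (mem_sup_left hx)
    · rw [← Nat.card_coe_set_eq]
      exact CfsgLib.Techniques.Fusion.card_lt_of_lt hlt
    · exact fun a ha => hP ((mem_normalizer_iff.1 hn2 a).1 ha)

/-- A component of the automizer centralising `t` respects `R`. -/
theorem mem_stab_of_commute (h : Closed σ R) {E : Subgroup G} (hF : Family σ.P E)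
    (hgood : ∀ E', ∀ hE : Family σ.P E', Nat.card E < Nat.card E' →
      normalizer (E' : Set G) ≤ h.stab E' hE.1)
    {t : ↥(normalizer (E : Set G))} (htP : (t : G) ∈ (σ.P : Subgroup G)) (htE : (t : G) ∉ E)
    {n : ↥(normalizer (E : Set G))} (hc : Commute (act E n) (act E t)) : (n : G) ∈ h.stab E hF.1 := by
  refine mem_of_commute hF htP (h.stab E hF.1) (h.centralizer_le_stab hF.1)
    ((le_inf hF.1 le_normalizer).trans (h.P_le_stab hF.1)) (h.P_le_stab hF.1 (mem_inf.2 ⟨htP, t.2⟩)) ?_ hc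
  intro m hm
  obtain ⟨hm1, hm2⟩ := mem_inf.1 hm
  refine h.mem_stab.2 ⟨hm1, fun x hx => ?_⟩
  have hlt : E < E ⊔ zpowers (t : G) :=
    lt_of_le_of_ne le_sup_left fun he => htE (he.ge (mem_sup_right (mem_zpowers _)))
  have hP : E ⊔ zpowers (t : G) ≤ (σ.P : Subgroup G) := sup_le hF.1 (zpowers_le.2 htP)
  refine h.of_big (Nat.card E) hgood (A := ((E ⊔ zpowers (t : G) : Subgroup G) : Set G)) hP ?_ ?_
    (mem_sup_left hx)
  · rw [← Nat.card_coe_set_eq]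
    exact CfsgLib.Techniques.Fusion.card_lt_of_lt hlt
  · exact fun a ha => hP ((mem_normalizer_iff.1 hm2 a).1 ha)

/-- `V × W`. -/
theorem case_fours (h : Closed σ R) (hk₁ : 1 ≤ σ.d₁.k) (hk₂ : 1 ≤ σ.d₂.k) {b w : G} (hb : b ∈ σ.D₁)
    (hbr : b ∉ zpowers σ.d₁.r) (hw : w ∈ σ.D₂) (hwr : w ∉ zpowers σ.d₂.r)
    (hF : Family σ.P (σ.d₁.four b ⊔ σ.d₂.four w))
    (hgood : ∀ E, ∀ hE : Family σ.P E, Nat.card (σ.d₁.four b ⊔ σ.d₂.four w : Subgroup G) < Nat.card E →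
      normalizer (E : Set G) ≤ h.stab E hE.1) :
    normalizer ((σ.d₁.four b ⊔ σ.d₂.four w : Subgroup G) : Set G) ≤ h.stab _ hF.1 := by
  have hW : σ.d₂.four w ≤ σ.D₂ := σ.d₂.four_le hw
  have hV : σ.d₁.four b ≤ σ.D₁ := σ.d₁.four_le hb
  have hn₂ : σ.d₂.t ∈ normalizer ((σ.d₁.four b ⊔ σ.d₂.four w : Subgroup G) : Set G) := by
    have := σ.swap.t_mem_normalizer hk₂ hw hwr hV
    rwa [sup_comm]
  obtain ⟨t₁, h₁⟩ : ∃ t₁ : ↥(normalizer ((σ.d₁.four b ⊔ σ.d₂.four w : Subgroup G) : Set G)),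
      (t₁ : G) = σ.d₁.t := ⟨⟨_, σ.t_mem_normalizer hk₁ hb hbr hW⟩, rfl⟩
  obtain ⟨t₂, h₂⟩ : ∃ t₂ : ↥(normalizer ((σ.d₁.four b ⊔ σ.d₂.four w : Subgroup G) : Set G)),
      (t₂ : G) = σ.d₂.t := ⟨⟨_, hn₂⟩, rfl⟩
  have ht₁P : (t₁ : G) ∈ (σ.P : Subgroup G) := h₁ ▸ σ.le₁ σ.d₁.t_mem
  have ht₂P : (t₂ : G) ∈ (σ.P : Subgroup G) := h₂ ▸ σ.le₂ σ.d₂.t_mem
  have ht₁E : (t₁ : G) ∉ σ.d₁.four b ⊔ σ.d₂.four w := by
    rw [h₁]
    intro he
    obtain ⟨x, hx, y, hy, e⟩ := σ.sup_decomp hV hW he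
    have := (σ.mul_unique σ.d₁.t_mem (hV hx) (one_mem _) (hW hy) (by rw [mul_one]; exact e)).1
    have h3 := σ.d₁.four_sq hb hbr hx
    rw [← this, σ.d₁.t_sq hk₁] at h3
    exact σ.d₁.z_ne_one h3
  have ht₂E : (t₂ : G) ∉ σ.d₁.four b ⊔ σ.d₂.four w := by
    rw [h₂]
    intro he
    obtain ⟨x, hx, y, hy, e⟩ := σ.sup_decomp hV hW he
    have := (σ.mul_unique (one_mem _) (hV hx) σ.d₂.t_mem (hW hy) (by rw [one_mul]; exact e)).2
    have h3 := σ.d₂.four_sq hw hwr hy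
    rw [← this, σ.d₂.t_sq hk₂] at h3
    exact σ.d₂.z_ne_one h3
  have ht₁₂E : ((t₁ * t₂ : ↥(normalizer ((σ.d₁.four b ⊔ σ.d₂.four w : Subgroup G) : Set G))) : G) ∉
      σ.d₁.four b ⊔ σ.d₂.four w := by
    rw [Subgroup.coe_mul, h₁, h₂]
    intro he
    have := (σ.sup_components hV hW σ.d₁.t_mem σ.d₂.t_mem he).1
    have h3 := σ.d₁.four_sq hb hbr this
    rw [σ.d₁.t_sq hk₁] at h3
    exact σ.d₁.z_ne_one h3
  obtain ⟨T, hT⟩ := exists_sylow_range hF.2.2.2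
  have hlist := σ.fours_list hk₁ hk₂ hb hbr hw hwr h₁ h₂ hT
  have hne := σ.fours_ne hk₁ hb hbr h₁ h₂
  have hnc := σ.fours_not_conj hk₁ hk₂ hb hbr hw hwr h₁ h₂
  have ha2 := σ.fours_order hk₁ hb hbr hw h₁
  have hb2 := σ.fours_order₂ hk₂ hb hw hwr h₂
  obtain ⟨K, hK⟩ : ∃ K : Subgroup ↥(act (σ.d₁.four b ⊔ σ.d₂.four w)).range, K =
      ((h.stab _ hF.1).subgroupOf (normalizer ((σ.d₁.four b ⊔ σ.d₂.four w : Subgroup G) : Set G))).map
        (act (σ.d₁.four b ⊔ σ.d₂.four w)).rangeRestrict := ⟨_, rfl⟩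
  have hcomp : ∀ t : ↥(normalizer ((σ.d₁.four b ⊔ σ.d₂.four w : Subgroup G) : Set G)),
      (t : G) ∈ (σ.P : Subgroup G) → (t : G) ∉ σ.d₁.four b ⊔ σ.d₂.four w →
      centralizer ({(act (σ.d₁.four b ⊔ σ.d₂.four w)).rangeRestrict t} : Set _) ≤ K := by
    intro t htP htE u hu
    obtain ⟨n, rfl⟩ := (act (σ.d₁.four b ⊔ σ.d₂.four w)).rangeRestrict_surjective u
    rw [hK]
    exact mem_map_of_mem _ (mem_subgroupOf.2 (h.mem_stab_of_commute hF hgood htP htE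
      (congrArg Subtype.val (mem_centralizer_singleton_iff.1 hu))))
  have hTK : (T : Subgroup _) ≤ K := by
    intro x hx
    obtain ⟨y, hy, hyx⟩ := (hT x).1 hx
    rw [hK]
    exact ⟨y, mem_subgroupOf.2 (h.P_le_stab hF.1 (mem_inf.2 ⟨hy, y.2⟩)), Subtype.ext hyx⟩
  have htop := eq_top_of_centralizers hlist K hTK (hcomp t₁ ht₁P ht₁E) (hcomp t₂ ht₂P ht₂E)
    (hcomp (t₁ * t₂) (mul_mem ht₁P ht₂P) ht₁₂E) ha2 hb2 (not_isConj_of_four hlist hne hnc) hnc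
  intro n hn
  obtain ⟨m, hm, hmn⟩ : (act (σ.d₁.four b ⊔ σ.d₂.four w)).rangeRestrict ⟨n, hn⟩ ∈
      ((h.stab _ hF.1).subgroupOf (normalizer ((σ.d₁.four b ⊔ σ.d₂.four w : Subgroup G) : Set G))).map
        (act (σ.d₁.four b ⊔ σ.d₂.four w)).rangeRestrict := hK ▸ htop ▸ mem_top _
  have h1 : m.1⁻¹ * n ∈ centralizer ((σ.d₁.four b ⊔ σ.d₂.four w : Subgroup G) : Set G) :=
    (restrict_eq_iff (n := ⟨n, hn⟩) (m := m)).1 hmn.symm
  have := (h.stab _ hF.1).mul_mem (mem_subgroupOf.1 hm) (h.centralizer_le_stab hF.1 h1)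
  rwa [mul_inv_cancel_left] at this

theorem member_le_stab (h : Closed σ R) : ∀ (E : Subgroup G) (hF : Family σ.P E),
    normalizer (E : Set G) ≤ h.stab E hF.1 := by
  suffices H : ∀ (m : ℕ) (E : Subgroup G) (hF : Family σ.P E),
      Nat.card (σ.P : Subgroup G) - Nat.card E < m → normalizer (E : Set G) ≤ h.stab E hF.1 from
    fun E hF => H _ E hF (Nat.lt_succ_self _)
  intro m
  induction m with
  | zero => intro E hF hlt; omega
  | succ m ih =>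
  intro E hF hlt
  have hgood : ∀ E', ∀ hE : Family σ.P E', Nat.card E < Nat.card E' →
      normalizer (E' : Set G) ≤ h.stab E' hE.1 := fun E' hE hlt' => ih E' hE (by
    have h2 : Nat.card E' ≤ Nat.card (σ.P : Subgroup G) := card_le_of_le hE.1
    omega)
  obtain ⟨V, W, hV, hW, rfl⟩ := σ.member_eq hF
  -- replace four-groups that are whole factors
  have hV' : V = σ.D₁ ∨ ∃ b ∈ σ.D₁, b ∉ zpowers σ.d₁.r ∧ 1 ≤ σ.d₁.k ∧ V = σ.d₁.four b := by
    rcases hV with rfl | ⟨b, hb, hbr, rfl⟩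
    · exact Or.inl rfl
    · by_cases hk : σ.d₁.k = 0
      · exact Or.inl (σ.d₁.four_eq_of_k hk hb hbr)
      · exact Or.inr ⟨b, hb, hbr, Nat.one_le_iff_ne_zero.2 hk, rfl⟩
  have hW' : W = σ.D₂ ∨ ∃ w ∈ σ.D₂, w ∉ zpowers σ.d₂.r ∧ 1 ≤ σ.d₂.k ∧ W = σ.d₂.four w := by
    rcases hW with rfl | ⟨w, hw, hwr, rfl⟩
    · exact Or.inl rfl
    · by_cases hk : σ.d₂.k = 0
      · exact Or.inl (σ.d₂.four_eq_of_k hk hw hwr)
      · exact Or.inr ⟨w, hw, hwr, Nat.one_le_iff_ne_zero.2 hk, rfl⟩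
  rcases hV' with rfl | ⟨b, hb, hbr, hk₁, rfl⟩ <;> rcases hW' with rfl | ⟨w, hw, hwr, hk₂, rfl⟩
  · intro n hn
    refine h.mem_stab.2 ⟨hn, fun x hx => h.byN n ?_ x (hF.1 hx)⟩
    rwa [σ.gen] at hn
  · intro n hn
    have hF' : Family σ.swap.P (σ.swap.d₁.four w ⊔ σ.swap.D₂) := by
      show Family σ.P (σ.d₂.four w ⊔ σ.D₁)
      rwa [sup_comm]
    have hn' : n ∈ normalizer ((σ.swap.d₁.four w ⊔ σ.swap.D₂ : Subgroup G) : Set G) := by
      show n ∈ normalizer ((σ.d₂.four w ⊔ σ.D₁ : Subgroup G) : Set G)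
      rwa [sup_comm]
    have hgood' : ∀ E', ∀ hE : Family σ.swap.P E', Nat.card (σ.swap.d₁.four w ⊔ σ.swap.D₂ : Subgroup G) <
        Nat.card E' → normalizer (E' : Set G) ≤ h.swap.stab E' hE.1 := by
      intro E' hE hlt'
      change Nat.card (σ.d₂.four w ⊔ σ.D₁ : Subgroup G) < Nat.card E' at hlt'
      rw [sup_comm] at hlt'
      exact hgood E' hE hlt'
    have := h.swap.mem_stab.1 (h.swap.case_full hk₂ hw hwr hF' hgood' hn')
    exact h.mem_stab.2 ⟨hn, fun x hx => this.2 x (by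
      show x ∈ σ.d₂.four w ⊔ σ.D₁
      rwa [sup_comm])⟩
  · exact h.case_full hk₁ hb hbr hF hgood
  · exact h.case_fours hk₁ hk₂ hb hbr hw hwr hF hgood

/-- All fusion in `P` respects `R`. -/
theorem fusion (h : Closed σ R) {x g : G} (hx : x ∈ (σ.P : Subgroup G))
    (hg : g * x * g⁻¹ ∈ (σ.P : Subgroup G)) : R x (g * x * g⁻¹) :=
  h.of_big 0 (fun E hF _ => h.member_le_stab E hF) (A := {x}) (Set.singleton_subset_iff.2 hx)
    (by rw [Set.ncard_singleton]; exact Nat.one_pos) (fun a ha => by rw [Set.mem_singleton_iff.1 ha]; exact hg)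
    rfl

end Closed

end CfsgLib.DihProduct
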