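import Cfsg.Agent.Lib.DihProduct.Mover
import Cfsg.Agent.Lib.DihProduct.Fusion
import Cfsg.Agent.Lib.Techniques.IndexP

/-!
The two commuting normal subgroups of `P` generated by the squares, the centres of the movers and the
displacements under the odd part of `N(P)`, and their strong closure.
-/

set_option autoImplicit false
set_option linter.unusedSectionVars false

namespace CfsgLib.DihProduct

open Subgroup

variable {G : Type*} [Group G] [Finite G]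

local instance : Fact (Nat.Prime 2) := ⟨Nat.prime_two⟩

theorem Dih.comm_mem_sq {D : Subgroup G} (d : Dih D) {x y : G} (hx : x ∈ D) (hy : y ∈ D) :
    x⁻¹ * (y * x * y⁻¹) ∈ zpowers (d.r * d.r) := by
  have hsq : ∀ u ∈ zpowers d.r, u * u ∈ zpowers (d.r * d.r) := by
    rintro _ ⟨i, rfl⟩
    exact ⟨i, by simp only; rw [(Commute.refl d.r).mul_zpow]⟩
  by_cases hyr : y ∈ zpowers d.r
  · by_cases hxr : x ∈ zpowers d.r
    · rw [d.rot_comm hyr hxr, mul_inv_cancel_right, inv_mul_cancel]; exact one_mem _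
    · have h := d.refl_inv (inv_mem hx) (fun h => hxr (inv_mem_iff.1 h)) hyr
      rw [inv_inv] at h
      rw [show x⁻¹ * (y * x * y⁻¹) = (x⁻¹ * y * x) * y⁻¹ by group, h]
      exact hsq _ (inv_mem hyr)
  · by_cases hxr : x ∈ zpowers d.r
    · rw [d.refl_inv hy hyr hxr]; exact hsq _ (inv_mem hxr)
    · rw [inv_eq_of_mul_eq_one_right (d.refl_sq hx hxr), inv_eq_of_mul_eq_one_right (d.refl_sq hy hyr),
        show x * (y * x * y) = (x * y) * (x * y) by group]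
      exact hsq _ (d.refl_mul_refl hx hxr hy hyr)

namespace Setting

variable (σ : Setting G)

/-- Squares, centres of movers, displacements by the odd part of `N(P)`. -/
def gens : Set G :=
  {x | x = σ.d₁.r * σ.d₁.r ∨
    (∃ b ∈ σ.D₁, b ∉ zpowers σ.d₁.r ∧ 1 ≤ σ.d₁.k ∧
      ∃ n ∈ normalizer ((σ.d₁.four b ⊔ σ.D₂ : Subgroup G) : Set G), x = n * σ.d₁.z * n⁻¹) ∨
    (σ.d₁.k = 0 ∧ ∃ n ∈ normalizer ((σ.P : Subgroup G) : Set G), ¬ 2 ∣ orderOf n ∧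
      ∃ y ∈ σ.Z, x = y⁻¹ * (n * y * n⁻¹))}

/-- The first factor. -/
def factor : Subgroup G := closure σ.gens

theorem r_sq_mem : σ.d₁.r * σ.d₁.r ∈ σ.factor := subset_closure (Or.inl rfl)

theorem centre_mem_factor {b n : G} (hb : b ∈ σ.D₁) (hbr : b ∉ zpowers σ.d₁.r) (hk : 1 ≤ σ.d₁.k)
    (hn : n ∈ normalizer ((σ.d₁.four b ⊔ σ.D₂ : Subgroup G) : Set G)) : n * σ.d₁.z * n⁻¹ ∈ σ.factor :=
  subset_closure (Or.inr (Or.inl ⟨b, hb, hbr, hk, n, hn, rfl⟩))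

theorem disp_mem_factor (hk : σ.d₁.k = 0) {n : G} (hn : n ∈ normalizer ((σ.P : Subgroup G) : Set G))
    (ho : ¬ 2 ∣ orderOf n) {y : G} (hy : y ∈ σ.Z) : y⁻¹ * (n * y * n⁻¹) ∈ σ.factor :=
  subset_closure (Or.inr (Or.inr ⟨hk, n, hn, ho, y, hy, rfl⟩))

theorem factor_le {H : Subgroup G} (h₁ : σ.d₁.r * σ.d₁.r ∈ H)
    (h₂ : ∀ b ∈ σ.D₁, b ∉ zpowers σ.d₁.r → 1 ≤ σ.d₁.k →
      ∀ n ∈ normalizer ((σ.d₁.four b ⊔ σ.D₂ : Subgroup G) : Set G), n * σ.d₁.z * n⁻¹ ∈ H)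
    (h₃ : σ.d₁.k = 0 → ∀ n ∈ normalizer ((σ.P : Subgroup G) : Set G), ¬ 2 ∣ orderOf n →
      ∀ y ∈ σ.Z, y⁻¹ * (n * y * n⁻¹) ∈ H) : σ.factor ≤ H := by
  refine (closure_le H).2 ?_
  rintro x (rfl | ⟨b, hb, hbr, hk, n, hn, rfl⟩ | ⟨hk, n, hn, ho, y, hy, rfl⟩)
  · exact h₁
  · exact h₂ b hb hbr hk n hn
  · exact h₃ hk n hn ho y hy

theorem factor_le_centralizer₂ :
    σ.factor ≤ (σ.P : Subgroup G) ⊓ centralizer (σ.D₂ : Set G) := by
  refine σ.factor_le ⟨mul_mem (σ.le₁ σ.d₁.r_mem) (σ.le₁ σ.d₁.r_mem),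
    σ.D₁_le_centralizer (mul_mem σ.d₁.r_mem σ.d₁.r_mem)⟩ (fun b hb hbr hk n hn => ?_)
    (fun _ n hn _ y hy => ?_)
  · exact ⟨σ.four_sup_le_P hb le_rfl (σ.centre_mem hk hb hbr hn),
      mem_centralizer_iff.2 fun x hx => (σ.centre_comm hk hb hbr hn (mem_sup_right hx)).symm⟩
  · have h := mul_mem (inv_mem hy) ((mem_normalizer_iff.1 (σ.Z_mem_normalizer hn) y).1 hy)
    exact ⟨σ.Z_le h, mem_centralizer_iff.2 fun x hx => (σ.Z_comm h (σ.le₂ hx)).symm⟩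

theorem factor_le_P : σ.factor ≤ (σ.P : Subgroup G) := fun _ hx => (σ.factor_le_centralizer₂ hx).1

theorem factor_comm₂ {x y : G} (hx : x ∈ σ.factor) (hy : y ∈ σ.D₂) : x * y = y * x :=
  (mem_centralizer_iff.1 (σ.factor_le_centralizer₂ hx).2 y hy).symm

theorem factors_comm {x y : G} (hx : x ∈ σ.factor) (hy : y ∈ σ.swap.factor) : x * y = y * x := by
  obtain ⟨c, hc, d, hd, rfl⟩ := σ.exists_mul (σ.swap.factor_le_P hy)
  have hxc : Commute x c := by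
    obtain ⟨p, hp, q, hq, rfl⟩ := σ.exists_mul (σ.factor_le_P hx)
    have h : c * d * p = p * (c * d) := σ.swap.factor_comm₂ hy hp
    rw [mul_assoc c, ← σ.comm p hp d hd, ← mul_assoc, ← mul_assoc] at h
    exact Commute.mul_left (mul_right_cancel h).symm (σ.comm c hc q hq).symm
  exact (hxc.mul_right (σ.factor_comm₂ hx hd)).eq

theorem P_le_normalizer_factor : (σ.P : Subgroup G) ≤ normalizer (σ.factor : Set G) := by
  rw [← σ.gen]
  refine sup_le ?_ (le_trans (fun d hd => mem_centralizer_iff.2 fun x hx => σ.factor_comm₂ hx hd)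
    (centralizer_le_normalizer _))
  rw [factor, le_normalizer_closure_iff]
  rintro c hc x (rfl | ⟨b, hb, hbr, hk, n, hn, rfl⟩ | ⟨hk, n, hn, ho, y, hy, rfl⟩)
  · show _ ∈ σ.factor
    by_cases hcr : c ∈ zpowers σ.d₁.r
    · rw [σ.d₁.rot_comm hcr (mul_mem (mem_zpowers _) (mem_zpowers _)), mul_inv_cancel_right]
      exact σ.r_sq_mem
    · rw [σ.d₁.refl_inv hc hcr (mul_mem (mem_zpowers _) (mem_zpowers _))]
      exact inv_mem σ.r_sq_mem
  · show _ ∈ σ.factor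
    have hb' : c * b * c⁻¹ ∈ σ.D₁ := mul_mem (mul_mem hc hb) (inv_mem hc)
    have hbr' : c * b * c⁻¹ ∉ zpowers σ.d₁.r := fun h => hbr (by
      have h' := σ.d₁.conj_rot_mem (inv_mem hc) h
      rwa [show c⁻¹ * (c * b * c⁻¹) * c⁻¹⁻¹ = b by group] at h')
    have hmap : (σ.d₁.four b ⊔ σ.D₂).map (MulAut.conj c).toMonoidHom =
        σ.d₁.four (c * b * c⁻¹) ⊔ σ.D₂ := by
      rw [Subgroup.map_sup,
        Techniques.map_conj_eq_self_iff.2 (σ.le_normalizer₂ (σ.le₁ hc)), Dih.four, Dih.four,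
        Subgroup.map_sup, MonoidHom.map_zpowers, MonoidHom.map_zpowers]
      simp only [MulEquiv.coe_toMonoidHom, MulAut.conj_apply]
      rw [σ.d₁.z_central hc, mul_inv_cancel_right]
    have hn' : c * n * c⁻¹ ∈ normalizer ((σ.d₁.four (c * b * c⁻¹) ⊔ σ.D₂ : Subgroup G) : Set G) := by
      refine mem_normalizer_of_conj_mem fun e he => ?_
      rw [← hmap] at he ⊢
      obtain ⟨e₀, he₀, rfl⟩ := he
      exact ⟨n * e₀ * n⁻¹, (mem_normalizer_iff.1 hn e₀).1 he₀, by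
        simp only [MulEquiv.coe_toMonoidHom, MulAut.conj_apply]; group⟩
    have e : c * (n * σ.d₁.z * n⁻¹) * c⁻¹ = c * n * c⁻¹ * σ.d₁.z * (c * n * c⁻¹)⁻¹ := by
      rw [show c * n * c⁻¹ * σ.d₁.z * (c * n * c⁻¹)⁻¹ = c * n * (c⁻¹ * σ.d₁.z * c) * n⁻¹ * c⁻¹ by group,
        mul_assoc c⁻¹, ← σ.d₁.z_central hc, inv_mul_cancel_left]
      group
    rw [e]
    exact σ.centre_mem_factor hb' hbr' hk hn'
  · show _ ∈ σ.factor
    have h := mul_mem (inv_mem hy) ((mem_normalizer_iff.1 (σ.Z_mem_normalizer hn) y).1 hy)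
    rw [← σ.Z_comm h (σ.le₁ hc), mul_inv_cancel_right]
    exact σ.disp_mem_factor hk hn ho hy

theorem odd_fix_centre {b n m : G} (hb : b ∈ σ.D₁) (hbr : b ∉ zpowers σ.d₁.r) (hk : 1 ≤ σ.d₁.k)
    (hn : n ∈ normalizer ((σ.d₁.four b ⊔ σ.D₂ : Subgroup G) : Set G))
    (hm : m ∈ normalizer ((σ.P : Subgroup G) : Set G)) (ho : ¬ 2 ∣ orderOf m) :
    m * (n * σ.d₁.z * n⁻¹) * m⁻¹ = n * σ.d₁.z * n⁻¹ := by
  by_cases hk₂ : σ.d₂.k = 0
  · exact (σ.odd_commute_mover hk hk₂ hb hbr hn hm ho).1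
  · exact σ.odd_centralizes hm ho hk (Nat.one_le_iff_ne_zero.2 hk₂)
      (σ.four_sup_le_P hb le_rfl (σ.centre_mem hk hb hbr hn))

theorem odd_mem_normalizer_factor {m : G} (hm : m ∈ normalizer ((σ.P : Subgroup G) : Set G))
    (ho : ¬ 2 ∣ orderOf m) : m ∈ normalizer (σ.factor : Set G) := by
  refine mem_normalizer_of_conj_mem fun x hx => ?_
  have key : σ.factor ≤ σ.factor.comap (MulAut.conj m).toMonoidHom := by
    refine σ.factor_le ?_ (fun b hb hbr hk n hn => ?_) (fun hk n hn hno y hy => ?_)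
    · show m * (σ.d₁.r * σ.d₁.r) * m⁻¹ ∈ σ.factor
      rw [σ.odd_fix_sq hm ho]; exact σ.r_sq_mem
    · show m * (n * σ.d₁.z * n⁻¹) * m⁻¹ ∈ σ.factor
      rw [σ.odd_fix_centre hb hbr hk hn hm ho]; exact σ.centre_mem_factor hb hbr hk hn
    · show m * (y⁻¹ * (n * y * n⁻¹)) * m⁻¹ ∈ σ.factor
      rw [show m * (y⁻¹ * (n * y * n⁻¹)) * m⁻¹ =
        (m * y * m⁻¹)⁻¹ * (m * n * m⁻¹ * (m * y * m⁻¹) * (m * n * m⁻¹)⁻¹) by group]
      refine σ.disp_mem_factor hk (mul_mem (mul_mem hm hn) (inv_mem hm)) ?_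
        ((mem_normalizer_iff.1 (σ.Z_mem_normalizer hm) y).1 hy)
      rwa [show m * n * m⁻¹ = MulAut.conj m n from rfl, MulEquiv.orderOf_eq]
  exact key hx

theorem N_le_normalizer_factor :
    normalizer ((σ.P : Subgroup G) : Set G) ≤ normalizer (σ.factor : Set G) := by
  intro n hn
  obtain ⟨s, hs, m, hm, ho, rfl⟩ := σ.exists_odd_factor hn
  exact mul_mem (σ.P_le_normalizer_factor hs) (σ.odd_mem_normalizer_factor hm ho)

theorem odd_fix_factor (hk₁ : 1 ≤ σ.d₁.k) {m : G} (hm : m ∈ normalizer ((σ.P : Subgroup G) : Set G))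
    (ho : ¬ 2 ∣ orderOf m) {x : G} (hx : x ∈ σ.factor) : m * x * m⁻¹ = x := by
  have h : σ.factor ≤ centralizer ({m} : Set G) := σ.factor_le
    (mem_centralizer_singleton_iff.2 (mul_inv_eq_iff_eq_mul.1 (σ.odd_fix_sq hm ho)).symm)
    (fun b hb hbr hk n hn =>
      mem_centralizer_singleton_iff.2 (mul_inv_eq_iff_eq_mul.1 (σ.odd_fix_centre hb hbr hk hn hm ho)).symm)
    (fun hk => absurd hk (by omega))
  rw [← mem_centralizer_singleton_iff.1 (h hx), mul_inv_cancel_right]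

theorem mover_fix_factor (hk₁ : 1 ≤ σ.d₁.k) {b n : G} (hb : b ∈ σ.D₁) (hbr : b ∉ zpowers σ.d₁.r)
    (hn : n ∈ normalizer ((σ.d₁.four b ⊔ σ.D₂ : Subgroup G) : Set G)) {y : G} (hy : y ∈ σ.swap.factor) :
    n * σ.d₁.t * n⁻¹ * y * (n * σ.d₁.t * n⁻¹)⁻¹ = y := by
  obtain ⟨u, hu⟩ : ∃ u, u = n * σ.d₁.t * n⁻¹ := ⟨_, rfl⟩
  rw [← hu]
  have hC : ∀ x, u * x * u⁻¹ = x → x ∈ centralizer ({u} : Set G) := fun x hx =>
    mem_centralizer_singleton_iff.2 (mul_inv_eq_iff_eq_mul.1 hx).symm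
  have h : σ.swap.factor ≤ centralizer ({u} : Set G) := by
    refine σ.swap.factor_le ?_ (fun w hw hwr hk m hm => ?_) (fun hk m hm ho z hz => ?_)
    · refine hC _ ?_
      show u * (σ.d₂.r * σ.d₂.r) * u⁻¹ = σ.d₂.r * σ.d₂.r
      rw [show u * (σ.d₂.r * σ.d₂.r) * u⁻¹ = (u * σ.d₂.r * u⁻¹) * (u * σ.d₂.r * u⁻¹) by group, hu]
      rcases σ.mover_cases hk₁ hb hbr hn (mem_sup_right σ.d₂.r_mem) with e | e <;> rw [e]
      have hp : n * σ.d₁.z * n⁻¹ * (n * σ.d₁.z * n⁻¹) = 1 := by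
        rw [show n * σ.d₁.z * n⁻¹ * (n * σ.d₁.z * n⁻¹) = n * (σ.d₁.z * σ.d₁.z) * n⁻¹ by group, σ.d₁.z_sq,
          mul_one, mul_inv_cancel]
      obtain ⟨p, hpe⟩ : ∃ p, p = n * σ.d₁.z * n⁻¹ := ⟨_, rfl⟩
      have hcp := σ.centre_comm hk₁ hb hbr hn (mem_sup_right σ.d₂.r_mem)
      rw [← hpe] at hp hcp ⊢
      rw [show σ.d₂.r * p * (σ.d₂.r * p) = σ.d₂.r * (p * σ.d₂.r) * p by group, hcp, ← mul_assoc,
        mul_assoc (σ.d₂.r * σ.d₂.r), hp, mul_one]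
    · exact hC _ (hu ▸ σ.mover_fix_centre hk₁ hk hb hbr hw hwr hn hm)
    · change σ.d₂.k = 0 at hk
      refine hC _ ?_
      change z ∈ σ.Z at hz
      have hzE : z ∈ σ.d₁.four b ⊔ σ.D₂ := by
        obtain ⟨c, hc, d, hd, rfl⟩ := σ.exists_mul (σ.Z_le hz)
        refine mul_mem (mem_sup_left ?_) (mem_sup_right hd)
        rcases σ.d₁.central_cases hk₁ hc (fun y hy => σ.fst_central hd hz hy) with rfl | rfl
        · exact one_mem _
        · exact σ.d₁.mem_four_left b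
      obtain ⟨hfix, hcm⟩ := σ.odd_commute_mover hk₁ hk hb hbr hn hm ho
      have hcm' := hcm z hzE
      rw [← hu] at hcm'
      rw [show u * (z⁻¹ * (m * z * m⁻¹)) * u⁻¹ = (u * z * u⁻¹)⁻¹ * (u * (m * z * m⁻¹) * u⁻¹) by group, hcm', hu]
      rcases σ.mover_cases hk₁ hb hbr hn hzE with e | e <;> rw [e]
      obtain ⟨p, hp⟩ : ∃ p, p = n * σ.d₁.z * n⁻¹ := ⟨_, rfl⟩
      rw [← hp] at hfix ⊢
      have hy : z⁻¹ * (m * z * m⁻¹) ∈ σ.Z :=
        mul_mem (inv_mem hz) ((mem_normalizer_iff.1 (σ.Z_mem_normalizer hm) z).1 hz)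
      rw [show (z * p)⁻¹ * (m * (z * p) * m⁻¹) = p⁻¹ * (z⁻¹ * (m * z * m⁻¹)) * (m * p * m⁻¹) by group, hfix,
        mul_assoc, σ.Z_comm hy (hp ▸ σ.four_sup_le_P hb le_rfl (σ.centre_mem hk₁ hb hbr hn)),
        inv_mul_cancel_left]
  rw [← mem_centralizer_singleton_iff.1 (h hy), mul_inv_cancel_right]

theorem odd_disp (hk₁ : 1 ≤ σ.d₁.k) (hk₂ : σ.d₂.k = 0) {m : G}
    (hm : m ∈ normalizer ((σ.P : Subgroup G) : Set G)) (ho : ¬ 2 ∣ orderOf m) {x : G}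
    (hx : x ∈ (σ.P : Subgroup G)) : x⁻¹ * (m * x * m⁻¹) ∈ σ.swap.factor := by
  have hc := σ.odd_mod_Z hm ho hk₁ hk₂ hx
  refine odd_mod ho (σ.swap.odd_mem_normalizer_factor hm ho)
    (fun ζ hζ => σ.Z_comm hc (σ.swap.factor_le_P hζ)) (mul_inv_cancel_left x (m * x * m⁻¹)).symm
    (σ.swap.disp_mem_factor hk₂ hm ho hc) (m := 1) ?_
  rw [pow_one, pow_two, σ.Z_sq hk₁ hk₂ hc]
  exact one_mem _

/-- The pairs respecting both factors. -/
def Keeps (x y : G) : Prop := (x ∈ σ.factor → y ∈ σ.factor) ∧ (x ∈ σ.swap.factor → y ∈ σ.swap.factor)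

theorem mover_keeps (hk₁ : 1 ≤ σ.d₁.k) {b n : G} (hb : b ∈ σ.D₁) (hbr : b ∉ zpowers σ.d₁.r)
    (hn : n ∈ normalizer ((σ.d₁.four b ⊔ σ.D₂ : Subgroup G) : Set G)) {x : G}
    (hx : x ∈ σ.d₁.four b ⊔ σ.D₂) :
    (x ∈ σ.factor → n * σ.d₁.t * n⁻¹ * x * (n * σ.d₁.t * n⁻¹)⁻¹ ∈ σ.factor) ∧
      (x ∈ σ.swap.factor → n * σ.d₁.t * n⁻¹ * x * (n * σ.d₁.t * n⁻¹)⁻¹ ∈ σ.swap.factor) := by
  refine ⟨fun h => ?_, fun h => by rw [σ.mover_fix_factor hk₁ hb hbr hn h]; exact h⟩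
  rcases σ.mover_cases hk₁ hb hbr hn hx with e | e <;> rw [e]
  · exact h
  · exact mul_mem h (σ.centre_mem_factor hb hbr hk₁ hn)

theorem closed_keeps : Closed σ σ.Keeps where
  trans h h' := ⟨fun a => h'.1 (h.1 a), fun a => h'.2 (h.2 a)⟩
  byP s hs x _ := ⟨fun h => (mem_normalizer_iff.1 (σ.P_le_normalizer_factor hs) x).1 h,
    fun h => (mem_normalizer_iff.1 (σ.swap.P_le_normalizer_factor hs) x).1 h⟩
  byN n hn x _ := ⟨fun h => (mem_normalizer_iff.1 (σ.N_le_normalizer_factor hn) x).1 h,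
    fun h => (mem_normalizer_iff.1 (σ.swap.N_le_normalizer_factor hn) x).1 h⟩
  mover₁ b hb hbr hk n hn x hx := σ.mover_keeps hk hb hbr hn hx
  mover₂ b hb hbr hk n hn x hx := (σ.swap.mover_keeps hk hb hbr hn hx).symm

theorem factor_strongly_closed : Cfsg.IsStronglyClosed σ.factor (σ.P : Subgroup G) :=
  ⟨σ.factor_le_P, fun _ hx _ hg => (σ.closed_keeps.fusion (σ.factor_le_P hx) hg).1 hx⟩

/-- The product of the factors. -/
def prod : Subgroup G := σ.factor ⊔ σ.swap.factor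

theorem prod_swap : σ.swap.prod = σ.prod := sup_comm _ _

theorem commutator_mem_prod {s x : G} (hs : s ∈ (σ.P : Subgroup G)) (hx : x ∈ (σ.P : Subgroup G)) :
    x⁻¹ * (s * x * s⁻¹) ∈ σ.prod := by
  obtain ⟨c, hc, d, hd, rfl⟩ := σ.exists_mul hx
  obtain ⟨c', hc', d', hd', rfl⟩ := σ.exists_mul hs
  rw [σ.conj_pair hc' hc hd' hd, mul_inv_rev, ← σ.comm _ (inv_mem hc) _ (inv_mem hd),
    σ.pair_mul (mul_mem (mul_mem hc' hc) (inv_mem hc')) (inv_mem hd)]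
  refine mul_mem (mem_sup_left ?_) (mem_sup_right ?_)
  · exact (zpowers_le.2 σ.r_sq_mem) (σ.d₁.comm_mem_sq hc hc')
  · exact (zpowers_le.2 σ.swap.r_sq_mem) (σ.d₂.comm_mem_sq hd hd')

theorem mover_prod (hk : 1 ≤ σ.d₁.k) {b n : G} (hb : b ∈ σ.D₁) (hbr : b ∉ zpowers σ.d₁.r)
    (hn : n ∈ normalizer ((σ.d₁.four b ⊔ σ.D₂ : Subgroup G) : Set G)) {x : G}
    (hx : x ∈ σ.d₁.four b ⊔ σ.D₂) :
    x⁻¹ * (n * σ.d₁.t * n⁻¹ * x * (n * σ.d₁.t * n⁻¹)⁻¹) ∈ σ.prod := by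
  rcases σ.mover_cases hk hb hbr hn hx with e | e <;> rw [e]
  · rw [inv_mul_cancel]; exact one_mem _
  · rw [inv_mul_cancel_left]; exact mem_sup_left (σ.centre_mem_factor hb hbr hk hn)

theorem closed_prod (hk₁ : 1 ≤ σ.d₁.k) : Closed σ (fun x y => x⁻¹ * y ∈ σ.prod) where
  trans {x y z} h h' := by
    have := mul_mem h h'
    rwa [show x⁻¹ * y * (y⁻¹ * z) = x⁻¹ * z by group] at this
  byP s hs x hx := σ.commutator_mem_prod hs hx
  byN n hn x hx := by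
    obtain ⟨s, hs, m, hm, ho, rfl⟩ := σ.exists_odd_factor hn
    have hxm := (mem_normalizer_iff.1 hm x).1 hx
    have h1 : x⁻¹ * (m * x * m⁻¹) ∈ σ.prod := by
      by_cases hk₂ : σ.d₂.k = 0
      · exact mem_sup_right (σ.odd_disp hk₁ hk₂ hm ho hx)
      · rw [σ.odd_centralizes hm ho hk₁ (Nat.one_le_iff_ne_zero.2 hk₂) hx, inv_mul_cancel]
        exact one_mem _
    have := mul_mem h1 (σ.commutator_mem_prod hs hxm)
    rwa [show x⁻¹ * (m * x * m⁻¹) * ((m * x * m⁻¹)⁻¹ * (s * (m * x * m⁻¹) * s⁻¹)) =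
      x⁻¹ * (s * m * x * (s * m)⁻¹) by group] at this
  mover₁ b hb hbr hk n hn x hx := σ.mover_prod hk hb hbr hn hx
  mover₂ b hb hbr hk n hn x hx := σ.prod_swap ▸ σ.swap.mover_prod hk hb hbr hn hx

/-- Without a normal subgroup of index 2 the factors generate `P`. -/
theorem P_le_prod (hk₁ : 1 ≤ σ.d₁.k) (h2 : ∀ N : Subgroup G, N.Normal → N.index ≠ 2) :
    (σ.P : Subgroup G) ≤ σ.prod := by
  have hle : (σ.P : Subgroup G) ≤ commutator G := by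
    by_contra h
    obtain ⟨N, hN, hi⟩ := CfsgLib.Techniques.Fusion.exists_normal_index_eq_prime σ.P h
    exact h2 N hN hi
  have hfoc : (σ.P : Subgroup G) ≤ (σ.P : Subgroup G).focalSubgroup := by
    rw [← commutator_inf_eq_focalSubgroup σ.P]
    exact le_inf hle le_rfl
  refine hfoc.trans ?_
  rw [focalSubgroup_def, closure_le]
  rintro z ⟨hz, x, hx, u, rfl⟩
  have h1 : u * x⁻¹ * u⁻¹ ∈ (σ.P : Subgroup G) := by
    have := mul_mem (inv_mem hx) hz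
    simpa [commutatorElement_def, mul_assoc] using this
  have h3 : (x⁻¹)⁻¹ * (u * x⁻¹ * u⁻¹) ∈ σ.prod := (σ.closed_prod hk₁).fusion (inv_mem hx) h1
  show _ ∈ σ.prod
  rwa [commutatorElement_def, show x * u * x⁻¹ * u⁻¹ = (x⁻¹)⁻¹ * (u * x⁻¹ * u⁻¹) by group]

end Setting

end CfsgLib.DihProduct
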