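import Cfsg.Agent.Lib.Techniques.Basic
import Cfsg.Agent.Lib.Transfer.Basic
import Cfsg.Agent.Lib.Involutions.Basic

/-!
A Sylow 2-subgroup `{1, a, b, c}`: if `a` is not conjugate to `c`, it is not conjugate to `b`; a subgroup
containing the three centralisers is everything when `a` is conjugate to neither.
-/

set_option autoImplicit false
set_option linter.unusedSectionVars false

namespace CfsgLib.DihProduct

open Subgroup

variable {H : Type*} [Group H] [Finite H]

local instance : Fact (Nat.Prime 2) := ⟨Nat.prime_two⟩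

/-- The elements listed are all of `T`. -/
structure FourList (T : Sylow 2 H) (a b c : H) : Prop where
  mem_a : a ∈ (T : Subgroup H)
  mem_b : b ∈ (T : Subgroup H)
  cases : ∀ x ∈ (T : Subgroup H), x = 1 ∨ x = a ∨ x = b ∨ x = c
  comm : ∀ x ∈ (T : Subgroup H), ∀ y ∈ (T : Subgroup H), x * y = y * x

theorem not_isConj_of_four {T : Sylow 2 H} {a b c : H} (hL : FourList T a b c) (hab : a ≠ b)
    (hac : ¬ IsConj a c) : ¬ IsConj a b := by
  intro h
  obtain ⟨h, hh⟩ := isConj_iff.1 h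
  obtain ⟨w, hw, hwn⟩ := CfsgLib.Transfer.exists_mul_mem_normalizer T (centralizer ({a} : Set H)) h
    (fun x hx => mem_centralizer_singleton_iff.2 (hL.comm x hx a hL.mem_a))
    (fun x hx => by
      rw [mem_centralizer_singleton_iff]
      have h1 : x * b = b * x := hL.comm x hx b hL.mem_b
      rw [← hh] at h1
      calc h⁻¹ * x * h * a = h⁻¹ * (x * (h * a * h⁻¹)) * h := by group
        _ = a * (h⁻¹ * x * h) := by rw [h1]; group)
  set m := h * w
  have hma : m * a * m⁻¹ = b := by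
    rw [show m * a * m⁻¹ = h * (w * a * w⁻¹) * h⁻¹ by simp only [m]; group,
      mem_centralizer_singleton_iff.1 hw, mul_inv_cancel_right, hh]
  have hmT : ∀ x ∈ (T : Subgroup H), m * x * m⁻¹ ∈ (T : Subgroup H) := fun x hx =>
    (mem_normalizer_iff.1 hwn x).1 hx
  have hmb : m * b * m⁻¹ = a := by
    rcases hL.cases _ (hmT b hL.mem_b) with e | e | e | e
    · rw [conj_eq_one_iff] at e
      rw [e, conj_eq_one_iff] at hma
      exact absurd (hma.trans e.symm) hab
    · exact e
    · exact absurd (mul_left_cancel (mul_right_cancel (hma.trans e.symm))) hab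
    · exact absurd (((isConj_iff.2 ⟨m, hma⟩).trans (isConj_iff.2 ⟨m, e⟩) : IsConj a c)) hac
  obtain ⟨j, o, ho, hjo⟩ := Nat.exists_eq_pow_mul_and_not_dvd (orderOf_pos m).ne' 2 (by norm_num)
  obtain ⟨l, hl⟩ : Odd o := Nat.not_even_iff_odd.1 fun h => ho (even_iff_two_dvd.1 h)
  have h2 : ∀ n : ℕ, m ^ (2 * n) * a * (m ^ (2 * n))⁻¹ = a := by
    intro n
    induction n with
    | zero => simp
    | succ n ih =>
      rw [show m ^ (2 * (n + 1)) = m * m * m ^ (2 * n) by rw [← pow_two, ← pow_add]; ring_nf,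
        show m * m * m ^ (2 * n) * a * (m * m * m ^ (2 * n))⁻¹ =
          m * (m * (m ^ (2 * n) * a * (m ^ (2 * n))⁻¹) * m⁻¹) * m⁻¹ by group, ih, hma, hmb]
  have hMa : m ^ o * a * (m ^ o)⁻¹ = b := by
    rw [hl, pow_succ', show m * m ^ (2 * l) * a * (m * m ^ (2 * l))⁻¹ =
      m * (m ^ (2 * l) * a * (m ^ (2 * l))⁻¹) * m⁻¹ by group, h2, hma]
  have hMT : m ^ o ∈ (T : Subgroup H) := by
    have hp : IsPGroup 2 ↥(zpowers (m ^ o)) := by
      refine IsPGroup.of_card (n := j) ?_
      rw [Nat.card_zpowers, orderOf_pow_of_dvd (by omega) (hjo ▸ dvd_mul_left _ _), hjo,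
        Nat.mul_div_cancel _ (by omega)]
    have hsup := T.isPGroup'.to_sup_of_normal_left' hp (zpowers_le.2 (pow_mem hwn o))
    have := T.3 hsup le_sup_left
    exact this ▸ mem_sup_right (mem_zpowers _)
  rw [hL.comm _ hMT a hL.mem_a, mul_inv_cancel_right] at hMa
  exact hab hMa

theorem eq_top_of_centralizers {T : Sylow 2 H} {a b c : H} (hL : FourList T a b c) (K : Subgroup H)
    (hTK : (T : Subgroup H) ≤ K) (ha : centralizer ({a} : Set H) ≤ K)
    (hb : centralizer ({b} : Set H) ≤ K) (hc : centralizer ({c} : Set H) ≤ K)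
    (ha2 : orderOf a = 2) (hb2 : orderOf b = 2) (hab : ¬ IsConj a b) (hac : ¬ IsConj a c) : K = ⊤ := by
  have hcl : ∀ u ∈ K, orderOf u = 2 → ∃ κ ∈ K, κ * u * κ⁻¹ ∈ (T : Subgroup H) := by
    intro u hu hu2
    obtain ⟨κ, hκ, hle⟩ := CfsgLib.Techniques.exists_conj_le_sylow_of (zpowers_le.2 hu)
      (IsPGroup.of_card (n := 1) (by rw [Nat.card_zpowers, hu2, pow_one])) hTK T.isPGroup'
      (CfsgLib.Techniques.not_dvd_relIndex_sylow T hTK)
    exact ⟨κ, hκ, hle ⟨u, mem_zpowers u, rfl⟩⟩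
  refine top_le_iff.1 fun h _ => ?_
  set x := h * a * h⁻¹ with hx
  have hx2 : orderOf x = 2 := by rw [hx, CfsgLib.Involutions.orderOf_conj_eq, ha2]
  have hxK : x ∈ K := by
    obtain ⟨u, hu2, hux, hub⟩ := CfsgLib.Involutions.exists_common_involution hx2 hb2
      (fun he => hab ((isConj_iff.2 ⟨h, hx.symm⟩).trans he))
    obtain ⟨κ, hκ, hκT⟩ := hcl u (hb (mem_centralizer_singleton_iff.2 hub.eq)) hu2
    have hcm : κ * x * κ⁻¹ ∈ centralizer ({κ * u * κ⁻¹} : Set H) := by
      rw [mem_centralizer_singleton_iff]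
      calc κ * x * κ⁻¹ * (κ * u * κ⁻¹) = κ * (x * u) * κ⁻¹ := by group
        _ = κ * (u * x) * κ⁻¹ := by rw [hux.eq]
        _ = κ * u * κ⁻¹ * (κ * x * κ⁻¹) := by group
    have hK : κ * x * κ⁻¹ ∈ K := by
      rcases hL.cases _ hκT with e | e | e | e <;> rw [e] at hcm
      · rw [conj_eq_one_iff] at e
        rw [e, orderOf_one] at hu2
        omega
      · exact ha hcm
      · exact hb hcm
      · exact hc hcm
    have := mul_mem (mul_mem (inv_mem hκ) hK) hκ
    rwa [show κ⁻¹ * (κ * x * κ⁻¹) * κ = x by group] at this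
  obtain ⟨κ, hκ, hκT⟩ := hcl x hxK hx2
  have hxa : κ * x * κ⁻¹ = a := by
    have hconj : IsConj a (κ * x * κ⁻¹) :=
      (isConj_iff.2 ⟨h, hx.symm⟩).trans (isConj_iff.2 ⟨κ, rfl⟩)
    rcases hL.cases _ hκT with e | e | e | e
    · rw [e] at hconj
      exfalso
      rw [isConj_one_right.1 hconj.symm, orderOf_one] at ha2
      omega
    · exact e
    · exact absurd (e ▸ hconj) hab
    · exact absurd (e ▸ hconj) hac
  have hm : κ * h ∈ centralizer ({a} : Set H) := by
    rw [mem_centralizer_singleton_iff]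
    calc κ * h * a = (κ * x * κ⁻¹) * (κ * h) := by rw [hx]; group
      _ = a * (κ * h) := by rw [hxa]
  exact (mul_mem_cancel_left hκ).1 (ha hm)

end CfsgLib.DihProduct
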