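import Cfsg.Agent.Lib.DihProduct.Local

/-!
The automizer of `V × W`: its Sylow 2-subgroup is `{1, t₁, t₂, t₁ t₂}` and `t₁` is not conjugate to `t₁ t₂`.
-/

set_option autoImplicit false
set_option linter.unusedSectionVars false
set_option linter.style.haveILetI false

namespace CfsgLib.DihProduct

open Subgroup Cfsg.Tech46.AlpGold

variable {G : Type*} [Group G] [Finite G]

local instance : Fact (Nat.Prime 2) := ⟨Nat.prime_two⟩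

theorem restrict_eq_iff {E : Subgroup G} {n m : ↥(normalizer (E : Set G))} :
    (act E).rangeRestrict n = (act E).rangeRestrict m ↔ (m : G)⁻¹ * n ∈ centralizer (E : Set G) :=
  Subtype.ext_iff.trans act_eq_iff

theorem restrict_apply (E : Subgroup G) (n : ↥(normalizer (E : Set G))) (e : ↥E) :
    ((((act E).rangeRestrict n : ↥(act E).range) : MulAut ↥E) e : G) = n * e * (n : G)⁻¹ := rfl

namespace Setting

variable (σ : Setting G) {b w : G}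
  {t₁ t₂ : ↥(normalizer ((σ.d₁.four b ⊔ σ.d₂.four w : Subgroup G) : Set G))}

theorem fours_cases (hk₁ : 1 ≤ σ.d₁.k) (hk₂ : 1 ≤ σ.d₂.k) (hb : b ∈ σ.D₁) (hbr : b ∉ zpowers σ.d₁.r)
    (hw : w ∈ σ.D₂) (hwr : w ∉ zpowers σ.d₂.r) (h₁ : (t₁ : G) = σ.d₁.t) (h₂ : (t₂ : G) = σ.d₂.t)
    {y : ↥(normalizer ((σ.d₁.four b ⊔ σ.d₂.four w : Subgroup G) : Set G))} (hy : (y : G) ∈ (σ.P : Subgroup G)) :
    ((y : G) ∈ centralizer ((σ.d₁.four b ⊔ σ.d₂.four w : Subgroup G) : Set G)) ∨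
    ((t₁ : G)⁻¹ * y ∈ centralizer ((σ.d₁.four b ⊔ σ.d₂.four w : Subgroup G) : Set G)) ∨
    ((t₂ : G)⁻¹ * y ∈ centralizer ((σ.d₁.four b ⊔ σ.d₂.four w : Subgroup G) : Set G)) ∨
    (((t₁ * t₂ : ↥(normalizer ((σ.d₁.four b ⊔ σ.d₂.four w : Subgroup G) : Set G))) : G)⁻¹ * y
      ∈ centralizer ((σ.d₁.four b ⊔ σ.d₂.four w : Subgroup G) : Set G)) := by
  obtain ⟨y, hyN⟩ := y
  change y ∈ (σ.P : Subgroup G) at hy
  obtain ⟨c, hc, d, hd, rfl⟩ := σ.exists_mul hy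
  obtain ⟨hc', hcc⟩ := σ.first_component hk₁ hb hbr (σ.d₂.four_le hw) hc hd hyN
  have hyN' : d * c ∈ normalizer ((σ.d₂.four w ⊔ σ.d₁.four b : Subgroup G) : Set G) := by
    rw [sup_comm, ← σ.comm c hc d hd]; exact hyN
  obtain ⟨hd', hdd⟩ := σ.swap.first_component hk₂ hw hwr (σ.d₁.four_le hb) hd hc hyN'
  have hC : ∀ u, u ∈ centralizer ((σ.d₂.four w ⊔ σ.d₁.four b : Subgroup G) : Set G) →
      u ∈ centralizer ((σ.d₁.four b ⊔ σ.d₂.four w : Subgroup G) : Set G) := fun u hu => by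
    rwa [sup_comm]
  have hdC : d ∈ centralizer ((σ.d₁.four b ⊔ σ.d₂.four w : Subgroup G) : Set G) ∨
      σ.d₂.t⁻¹ * d ∈ centralizer ((σ.d₁.four b ⊔ σ.d₂.four w : Subgroup G) : Set G) := by
    rcases hdd with e | e
    · left
      rw [← map_one (act _), act_eq_iff] at e
      refine hC _ ?_
      rw [show d = (1 : G)⁻¹ * d by rw [inv_one, one_mul]]
      exact e
    · right
      rw [act_eq_iff] at e
      exact hC _ e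
  have hcC : c ∈ centralizer ((σ.d₁.four b ⊔ σ.d₂.four w : Subgroup G) : Set G) ∨
      σ.d₁.t⁻¹ * c ∈ centralizer ((σ.d₁.four b ⊔ σ.d₂.four w : Subgroup G) : Set G) := by
    rcases hcc with e | e
    · left
      rw [← map_one (act _), act_eq_iff] at e
      simpa using e
    · right
      rw [act_eq_iff] at e
      exact e
  rw [Subgroup.coe_mul, h₁, h₂]
  have ht : σ.d₁.t * σ.d₂.t = σ.d₂.t * σ.d₁.t := σ.comm _ σ.d₁.t_mem _ σ.d₂.t_mem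
  have htc : σ.d₂.t * c = c * σ.d₂.t := (σ.comm c hc _ σ.d₂.t_mem).symm
  have htc' : σ.d₂.t⁻¹ * c = c * σ.d₂.t⁻¹ := (σ.comm c hc _ (inv_mem σ.d₂.t_mem)).symm
  rcases hcC with h | h <;> rcases hdC with h' | h'
  · exact Or.inl (mul_mem h h')
  · refine Or.inr (Or.inr (Or.inl ?_))
    rw [← mul_assoc, htc', mul_assoc]
    exact mul_mem h h'
  · refine Or.inr (Or.inl ?_)
    rw [← mul_assoc]
    exact mul_mem h h'
  · refine Or.inr (Or.inr (Or.inr ?_))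
    rw [mul_inv_rev, show σ.d₂.t⁻¹ * σ.d₁.t⁻¹ = σ.d₁.t⁻¹ * σ.d₂.t⁻¹ by rw [← mul_inv_rev, ← mul_inv_rev, ht],
      show σ.d₁.t⁻¹ * σ.d₂.t⁻¹ * (c * d) = σ.d₁.t⁻¹ * (σ.d₂.t⁻¹ * c) * d by group, htc',
      show σ.d₁.t⁻¹ * (c * σ.d₂.t⁻¹) * d = σ.d₁.t⁻¹ * c * (σ.d₂.t⁻¹ * d) by group]
    exact mul_mem h h'

theorem fours_list (hk₁ : 1 ≤ σ.d₁.k) (hk₂ : 1 ≤ σ.d₂.k) (hb : b ∈ σ.D₁) (hbr : b ∉ zpowers σ.d₁.r)
    (hw : w ∈ σ.D₂) (hwr : w ∉ zpowers σ.d₂.r) (h₁ : (t₁ : G) = σ.d₁.t) (h₂ : (t₂ : G) = σ.d₂.t)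
    {T : Sylow 2 ↥(act (σ.d₁.four b ⊔ σ.d₂.four w)).range}
    (hT : ∀ x : ↥(act (σ.d₁.four b ⊔ σ.d₂.four w)).range,
      x ∈ (T : Subgroup ↥(act (σ.d₁.four b ⊔ σ.d₂.four w)).range) ↔
      ∃ y : ↥(normalizer ((σ.d₁.four b ⊔ σ.d₂.four w : Subgroup G) : Set G)),
        (y : G) ∈ (σ.P : Subgroup G) ∧ act (σ.d₁.four b ⊔ σ.d₂.four w) y = x) :
    FourList T ((act (σ.d₁.four b ⊔ σ.d₂.four w)).rangeRestrict t₁)
      ((act (σ.d₁.four b ⊔ σ.d₂.four w)).rangeRestrict t₂)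
      ((act (σ.d₁.four b ⊔ σ.d₂.four w)).rangeRestrict (t₁ * t₂)) := by
  set ψ := (act (σ.d₁.four b ⊔ σ.d₂.four w)).rangeRestrict with hψ
  have ht₁P : (t₁ : G) ∈ (σ.P : Subgroup G) := h₁ ▸ σ.le₁ σ.d₁.t_mem
  have ht₂P : (t₂ : G) ∈ (σ.P : Subgroup G) := h₂ ▸ σ.le₂ σ.d₂.t_mem
  have hmem : ∀ y : ↥(normalizer ((σ.d₁.four b ⊔ σ.d₂.four w : Subgroup G) : Set G)),
      (y : G) ∈ (σ.P : Subgroup G) → ψ y ∈ (T : Subgroup _) := fun y hy => (hT _).2 ⟨y, hy, rfl⟩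
  have hcases : ∀ x ∈ (T : Subgroup _), x = 1 ∨ x = ψ t₁ ∨ x = ψ t₂ ∨ x = ψ (t₁ * t₂) := by
    intro x hx
    obtain ⟨y, hy, hyx⟩ := (hT x).1 hx
    have hxy : x = ψ y := Subtype.ext hyx.symm
    rw [hxy]
    rcases σ.fours_cases hk₁ hk₂ hb hbr hw hwr h₁ h₂ hy with h | h | h | h
    · left
      rw [← map_one ψ, hψ, restrict_eq_iff, Subgroup.coe_one, inv_one, one_mul]
      exact h
    · exact Or.inr (Or.inl (restrict_eq_iff.2 h))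
    · exact Or.inr (Or.inr (Or.inl (restrict_eq_iff.2 h)))
    · exact Or.inr (Or.inr (Or.inr (restrict_eq_iff.2 h)))
  have hcm : Commute (ψ t₁) (ψ t₂) := by
    rw [commute_iff_eq, ← map_mul, ← map_mul]
    refine congrArg ψ (Subtype.ext ?_)
    rw [Subgroup.coe_mul, Subgroup.coe_mul, h₁, h₂]
    exact σ.comm _ σ.d₁.t_mem _ σ.d₂.t_mem
  refine ⟨hmem t₁ ht₁P, hmem t₂ ht₂P, hcases, fun x hx y hy => ?_⟩
  have hall : ∀ z ∈ (T : Subgroup _), Commute z (ψ t₁) ∧ Commute z (ψ t₂) := by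
    intro z hz
    rcases hcases z hz with rfl | rfl | rfl | rfl
    · exact ⟨Commute.one_left _, Commute.one_left _⟩
    · exact ⟨Commute.refl _, hcm⟩
    · exact ⟨hcm.symm, Commute.refl _⟩
    · rw [map_mul]
      exact ⟨(Commute.refl _).mul_left hcm.symm, hcm.mul_left (Commute.refl _)⟩
  rcases hcases y hy with rfl | rfl | rfl | rfl
  · rw [mul_one, one_mul]
  · exact (hall x hx).1.eq
  · exact (hall x hx).2.eq
  · rw [map_mul]; exact ((hall x hx).1.mul_right (hall x hx).2).eq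

theorem fours_values (hk₁ : 1 ≤ σ.d₁.k) (hk₂ : 1 ≤ σ.d₂.k) (hb : b ∈ σ.D₁) (hbr : b ∉ zpowers σ.d₁.r)
    (hw : w ∈ σ.D₂) (hwr : w ∉ zpowers σ.d₂.r) :
    σ.d₁.t * σ.d₂.t * b * (σ.d₁.t * σ.d₂.t)⁻¹ = b * σ.d₁.z ∧
    σ.d₁.t * σ.d₂.t * w * (σ.d₁.t * σ.d₂.t)⁻¹ = w * σ.d₂.z ∧ σ.d₂.t * b * σ.d₂.t⁻¹ = b := by
  have f₂ : σ.d₂.t * b * σ.d₂.t⁻¹ = b := by rw [← σ.comm b hb _ σ.d₂.t_mem, mul_inv_cancel_right]
  refine ⟨?_, ?_, f₂⟩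
  · rw [show σ.d₁.t * σ.d₂.t * b * (σ.d₁.t * σ.d₂.t)⁻¹ = σ.d₁.t * (σ.d₂.t * b * σ.d₂.t⁻¹) * σ.d₁.t⁻¹ by group,
      f₂, σ.d₁.t_conj_refl hk₁ hb hbr]
  · rw [show σ.d₁.t * σ.d₂.t * w * (σ.d₁.t * σ.d₂.t)⁻¹ = σ.d₁.t * (σ.d₂.t * w * σ.d₂.t⁻¹) * σ.d₁.t⁻¹ by group,
      σ.d₂.t_conj_refl hk₂ hw hwr, σ.comm _ σ.d₁.t_mem _ (mul_mem hw σ.d₂.z_mem), mul_inv_cancel_right]

theorem fours_ne (hk₁ : 1 ≤ σ.d₁.k) (hb : b ∈ σ.D₁) (hbr : b ∉ zpowers σ.d₁.r)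
    (h₁ : (t₁ : G) = σ.d₁.t) (h₂ : (t₂ : G) = σ.d₂.t) :
    (act (σ.d₁.four b ⊔ σ.d₂.four w)).rangeRestrict t₁ ≠
      (act (σ.d₁.four b ⊔ σ.d₂.four w)).rangeRestrict t₂ := by
  intro e
  have h := mem_centralizer_iff.1 (restrict_eq_iff.1 e) b (mem_sup_left (σ.d₁.mem_four_right b))
  rw [h₁, h₂] at h
  have h3 : σ.d₁.t * b * σ.d₁.t⁻¹ = σ.d₂.t * b * σ.d₂.t⁻¹ := by
    calc σ.d₁.t * b * σ.d₁.t⁻¹ = σ.d₂.t * (σ.d₂.t⁻¹ * σ.d₁.t * b) * σ.d₁.t⁻¹ := by group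
      _ = σ.d₂.t * (b * (σ.d₂.t⁻¹ * σ.d₁.t)) * σ.d₁.t⁻¹ := by rw [h]
      _ = σ.d₂.t * b * σ.d₂.t⁻¹ := by group
  rw [σ.d₁.t_conj_refl hk₁ hb hbr, ← σ.comm b hb _ σ.d₂.t_mem, mul_inv_cancel_right, mul_eq_left] at h3
  exact σ.d₁.z_ne_one h3

theorem fours_not_conj (hk₁ : 1 ≤ σ.d₁.k) (hk₂ : 1 ≤ σ.d₂.k) (hb : b ∈ σ.D₁) (hbr : b ∉ zpowers σ.d₁.r)
    (hw : w ∈ σ.D₂) (hwr : w ∉ zpowers σ.d₂.r) (h₁ : (t₁ : G) = σ.d₁.t) (h₂ : (t₂ : G) = σ.d₂.t) :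
    ¬ IsConj ((act (σ.d₁.four b ⊔ σ.d₂.four w)).rangeRestrict t₁)
      ((act (σ.d₁.four b ⊔ σ.d₂.four w)).rangeRestrict (t₁ * t₂)) := by
  intro hcj
  obtain ⟨f, hf⟩ := isConj_iff.1 hcj
  have et : t₁ = ⟨σ.d₁.t, σ.t_mem_normalizer hk₁ hb hbr (σ.d₂.four_le hw)⟩ := Subtype.ext h₁
  have htv₀ := σ.t_tv hk₁ hb hbr (σ.d₂.four_le hw)
  rw [← et] at htv₀
  have htv := htv₀.conj f.1
  have hf' : f.1 * act (σ.d₁.four b ⊔ σ.d₂.four w) t₁ * f.1⁻¹ =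
      act (σ.d₁.four b ⊔ σ.d₂.four w) (t₁ * t₂) := congrArg Subtype.val hf
  rw [hf'] at htv
  obtain ⟨hb', hw', -⟩ := σ.fours_values hk₁ hk₂ hb hbr hw hwr
  obtain ⟨p, hp⟩ : ∃ p, f.1 ⟨σ.d₁.z, mem_sup_left (σ.d₁.mem_four_left b)⟩ = p := ⟨_, rfl⟩
  rw [hp] at htv
  have key : ∀ x, ∀ hx : x ∈ σ.d₁.four b ⊔ σ.d₂.four w, ∀ z : G, z ≠ 1 →
      σ.d₁.t * σ.d₂.t * x * (σ.d₁.t * σ.d₂.t)⁻¹ = x * z → (p : G) = z := by
    intro x hx z hz e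
    rcases htv.cases ⟨x, hx⟩ with e' | e'
    · have e'' := congrArg Subtype.val e'
      rw [act_apply, Subgroup.coe_mul, h₁, h₂] at e''
      simp only at e''
      rw [e, mul_eq_left] at e''
      exact absurd e'' hz
    · have e'' := congrArg Subtype.val e'
      rw [act_apply, Subgroup.coe_mul, h₁, h₂, Subgroup.coe_mul] at e''
      simp only at e''
      rw [e] at e''
      exact (mul_left_cancel e'').symm
  have h1 := key b (mem_sup_left (σ.d₁.mem_four_right b)) _ σ.d₁.z_ne_one hb'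
  have h2 := key w (mem_sup_right (σ.d₂.mem_four_right w)) _ σ.d₂.z_ne_one hw'
  have h3 : σ.d₁.z ∈ σ.D₁ ⊓ σ.D₂ := mem_inf.2 ⟨σ.d₁.z_mem, by rw [← h1, h2]; exact σ.d₂.z_mem⟩
  rw [σ.disj, mem_bot] at h3
  exact σ.d₁.z_ne_one h3

theorem fours_order (hk₁ : 1 ≤ σ.d₁.k) (hb : b ∈ σ.D₁) (hbr : b ∉ zpowers σ.d₁.r) (hw : w ∈ σ.D₂)
    (h₁ : (t₁ : G) = σ.d₁.t) :
    orderOf ((act (σ.d₁.four b ⊔ σ.d₂.four w)).rangeRestrict t₁) = 2 := by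
  have et : t₁ = ⟨σ.d₁.t, σ.t_mem_normalizer hk₁ hb hbr (σ.d₂.four_le hw)⟩ := Subtype.ext h₁
  have htv := σ.t_tv hk₁ hb hbr (σ.d₂.four_le hw)
  rw [← et] at htv
  refine orderOf_eq_prime (Subtype.ext ?_) ?_
  · rw [pow_two, Subgroup.coe_mul, Subgroup.coe_one]
    exact htv.mul_self
  · intro e
    obtain ⟨x, hx⟩ := htv.moved
    have e' : act (σ.d₁.four b ⊔ σ.d₂.four w) t₁ = 1 := congrArg Subtype.val e
    exact hx (by rw [e', MulAut.one_apply])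

theorem fours_order₂ (hk₂ : 1 ≤ σ.d₂.k) (hb : b ∈ σ.D₁) (hw : w ∈ σ.D₂) (hwr : w ∉ zpowers σ.d₂.r)
    (h₂ : (t₂ : G) = σ.d₂.t) :
    orderOf ((act (σ.d₁.four b ⊔ σ.d₂.four w)).rangeRestrict t₂) = 2 := by
  have hz₂ : σ.d₂.z ∈ centralizer ((σ.d₁.four b ⊔ σ.d₂.four w : Subgroup G) : Set G) :=
    mem_centralizer_iff.2 fun x hx => (σ.swap.z_comm_P
      ((sup_le ((σ.d₁.four_le hb).trans σ.le₁) ((σ.d₂.four_le hw).trans σ.le₂)) hx)).symm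
  refine orderOf_eq_prime ?_ ?_
  · rw [pow_two, ← map_mul, ← map_one ((act (σ.d₁.four b ⊔ σ.d₂.four w)).rangeRestrict), restrict_eq_iff,
      Subgroup.coe_one, inv_one, one_mul, Subgroup.coe_mul, h₂, σ.d₂.t_sq hk₂]
    exact hz₂
  · intro e
    rw [← map_one ((act (σ.d₁.four b ⊔ σ.d₂.four w)).rangeRestrict), restrict_eq_iff,
      Subgroup.coe_one, inv_one, one_mul, h₂] at e
    have h := mem_centralizer_iff.1 e w (mem_sup_right (σ.d₂.mem_four_right w))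
    have h3 := σ.d₂.t_conj_refl hk₂ hw hwr
    rw [← h, mul_inv_cancel_right, left_eq_mul] at h3
    exact σ.d₂.z_ne_one h3

end Setting

end CfsgLib.DihProduct
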