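import Mathlib

/-!
Automorphisms moving every element by a power of one fixed central involution. A class of them without two
distinct commuting members has at most three members.
-/

set_option autoImplicit false
set_option linter.unusedSectionVars false

namespace CfsgLib.DihProduct

variable {E : Type*} [Group E]

/-- `u` moves each element by a power of the central involution `p`, which it fixes. -/
structure Tv (u : MulAut E) (p : E) : Prop where
  sq : p * p = 1
  ne : p ≠ 1
  comm : ∀ x : E, p * x = x * p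
  fix : u p = p
  cases : ∀ x : E, u x = x ∨ u x = x * p
  moved : ∃ x : E, u x ≠ x

namespace Tv

theorem centre_unique {u : MulAut E} {p q : E} (h : Tv u p) (h' : Tv u q) : p = q := by
  obtain ⟨x, hx⟩ := h.moved
  have h1 := (h.cases x).resolve_left hx
  have h2 := (h'.cases x).resolve_left hx
  exact mul_left_cancel (h1.symm.trans h2)

theorem conj {u : MulAut E} {p : E} (h : Tv u p) (f : MulAut E) : Tv (f * u * f⁻¹) (f p) where
  sq := by rw [← map_mul, h.sq, map_one]
  ne := fun e => h.ne (f.injective (by rw [e, map_one]))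
  comm x := by
    obtain ⟨y, rfl⟩ := f.surjective x
    rw [← map_mul, ← map_mul, h.comm]
  fix := by simp [h.fix]
  cases x := by
    obtain ⟨y, rfl⟩ := f.surjective x
    rcases h.cases y with e | e
    · left; simp [e]
    · right; simp [e]
  moved := by
    obtain ⟨x, hx⟩ := h.moved
    exact ⟨f x, by simpa using hx⟩

theorem apply_apply {u : MulAut E} {p : E} (h : Tv u p) (x : E) : u (u x) = x := by
  rcases h.cases x with e | e
  · rw [e, e]
  · rw [e, map_mul, e, h.fix, mul_assoc, h.sq, mul_one]

theorem mul_self {u : MulAut E} {p : E} (h : Tv u p) : u * u = 1 :=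
  MulEquiv.ext fun x => h.apply_apply x

theorem inv_eq {u : MulAut E} {p : E} (h : Tv u p) : u⁻¹ = u :=
  inv_eq_of_mul_eq_one_right h.mul_self

theorem fix_of_commute {u v : MulAut E} {q : E} (hv : Tv v q) (hc : Commute u v) : u q = q := by
  have h := hv.conj u
  rw [hc.eq, mul_inv_cancel_right] at h
  exact h.centre_unique hv

theorem commute_of_fix {u v : MulAut E} {p q : E} (hu : Tv u p) (hv : Tv v q) (h1 : u q = q)
    (h2 : v p = p) : Commute u v := by
  refine MulEquiv.ext fun x => ?_
  simp only [MulAut.mul_apply]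
  rcases hu.cases x with eu | eu <;> rcases hv.cases x with ev | ev <;> rw [eu, ev]
  · exact eu
  · rw [map_mul, eu, h1]
  · rw [map_mul, ev, h2, eu]
  · rw [map_mul, map_mul, eu, ev, h1, h2, mul_assoc, mul_assoc, hu.comm]

end Tv

/-- A class of such automorphisms without two distinct commuting members. -/
structure TvClass (U : Set (MulAut E)) : Prop where
  tv : ∀ u ∈ U, ∃ p, Tv u p
  conj : ∀ u ∈ U, ∀ v ∈ U, u * v * u⁻¹ ∈ U
  eq_of_commute : ∀ u ∈ U, ∀ v ∈ U, Commute u v → u = v

namespace TvClass

variable {U : Set (MulAut E)} (hU : TvClass U)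

include hU

theorem apply_centre {u v : MulAut E} {p q : E} (hu : Tv u p) (hv : Tv v q) (huU : u ∈ U)
    (hvU : v ∈ U) (hne : u ≠ v) : u q = q * p := by
  refine (hu.cases q).resolve_left fun h1 => ?_
  have hvp : v p = p * q := (hv.cases p).resolve_left fun h2 =>
    hne (hU.eq_of_commute u huU v hvU (hu.commute_of_fix hv h1 h2))
  have hw := hu.conj v
  have hc : Commute u (v * u * v⁻¹) := by
    refine hu.commute_of_fix hw ?_ ?_
    · rw [hvp, map_mul, hu.fix, h1]
    · simp only [MulAut.mul_apply, hv.inv_eq, hvp, map_mul, hu.fix, h1, hv.fix]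
      rw [mul_assoc, hv.sq, mul_one]
  have := hU.eq_of_commute u huU _ (hU.conj v hvU u huU) hc
  rw [← this] at hw
  have e := hu.centre_unique hw
  rw [hvp] at e
  exact hv.ne (mul_eq_left.1 e.symm)

theorem three {u v w : MulAut E} (huU : u ∈ U) (hvU : v ∈ U) (hwU : w ∈ U) (huv : u ≠ v)
    (huw : u ≠ w) (hvw : v ≠ w) : w = u * v * u⁻¹ := by
  obtain ⟨p, hu⟩ := hU.tv u huU
  obtain ⟨q, hv⟩ := hU.tv v hvU
  obtain ⟨s, hw⟩ := hU.tv w hwU
  by_contra hne
  have hx := hv.conj u
  rw [hU.apply_centre hu hv huU hvU huv] at hx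
  have h1 := hU.apply_centre hw hx hwU (hU.conj u huU v hvU) hne
  rw [map_mul, hU.apply_centre hw hv hwU hvU (Ne.symm hvw), hU.apply_centre hw hu hwU huU (Ne.symm huw),
    show q * s * (p * s) = q * (s * p) * s by group, hw.comm, show q * (p * s) * s = q * p * (s * s) by group,
    hw.sq, mul_one] at h1
  exact hw.ne (mul_eq_left.1 h1.symm)

theorem braid {u v : MulAut E} (huU : u ∈ U) (hvU : v ∈ U) (hne : u ≠ v) :
    v * u * v⁻¹ = u * v * u⁻¹ := by
  refine hU.three huU hvU (hU.conj v hvU u huU) hne ?_ ?_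
  · intro e
    exact hne (hU.eq_of_commute u huU v hvU
      (show u * v = v * u from by rw [eq_mul_inv_iff_mul_eq] at e; exact e))
  · intro e
    exact hne (mul_left_cancel ((eq_mul_inv_iff_mul_eq.1 e).trans rfl)).symm

/-- In a three-element class, `v * u` carries `v` to `u`. -/
theorem mul_conj {u v : MulAut E} (huU : u ∈ U) (hvU : v ∈ U) (hne : u ≠ v) :
    v * u * v * (v * u)⁻¹ = u := by
  obtain ⟨p, hu⟩ := hU.tv u huU
  obtain ⟨q, hv⟩ := hU.tv v hvU
  have h := hU.braid huU hvU hne
  rw [hu.inv_eq, hv.inv_eq] at h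
  rw [mul_inv_rev, hu.inv_eq, hv.inv_eq, h, show u * v * u * (u * v) = u * v * (u * u) * v by group,
    hu.mul_self, mul_one, mul_assoc, hv.mul_self, mul_one]

end TvClass

end CfsgLib.DihProduct
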