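import Cfsg.Agent.Lib.DihProduct.Member
import Cfsg.Agent.Lib.DihProduct.Transvection
import Cfsg.Agent.Lib.DihProduct.FourSylow

/-!
The automizers of the members `V × D₂` and `V × W`: the conjugates of the transvection `t`, and generation
of the normaliser by centralisers.
-/

set_option autoImplicit false
set_option linter.unusedSectionVars false
set_option linter.style.haveILetI false

namespace CfsgLib.DihProduct

open Subgroup Cfsg.Tech46.AlpGold

variable {G : Type*} [Group G] [Finite G]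

local instance : Fact (Nat.Prime 2) := ⟨Nat.prime_two⟩

/-- Conjugation of `N(E)` on `E`. -/
noncomputable def act (E : Subgroup G) : ↥(normalizer (E : Set G)) →* MulAut ↥E := E.normalizerMonoidHom

theorem act_apply (E : Subgroup G) (n : ↥(normalizer (E : Set G))) (e : ↥E) :
    (act E n e : G) = n * e * (n : G)⁻¹ := rfl

theorem act_eq_iff {E : Subgroup G} {n m : ↥(normalizer (E : Set G))} :
    act E n = act E m ↔ ((m : G)⁻¹ * n) ∈ centralizer (E : Set G) := by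
  rw [mem_centralizer_iff]
  constructor
  · intro h e he
    have h1 := congrArg Subtype.val (DFunLike.congr_fun h ⟨e, he⟩)
    rw [act_apply, act_apply] at h1
    simp only at h1
    calc e * ((m : G)⁻¹ * n) = (m : G)⁻¹ * (m * e * (m : G)⁻¹) * n := by group
      _ = (m : G)⁻¹ * (n * e * (n : G)⁻¹) * n := by rw [h1]
      _ = (m : G)⁻¹ * n * e := by group
  · intro h
    refine MulEquiv.ext fun e => Subtype.ext ?_
    rw [act_apply, act_apply]
    calc (n : G) * e * (n : G)⁻¹ = m * ((m : G)⁻¹ * n * e) * (n : G)⁻¹ := by group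
      _ = m * (e * ((m : G)⁻¹ * n)) * (n : G)⁻¹ := by rw [h e e.2]
      _ = m * e * (m : G)⁻¹ := by group

/-- The conjugates of `act t`. -/
def tClass (E : Subgroup G) (t : ↥(normalizer (E : Set G))) : Set (MulAut ↥E) :=
  {u | ∃ g, act E (g * t * g⁻¹) = u}

theorem exists_sylow_range {P : Sylow 2 G} {E : Subgroup G}
    (hfn : ¬ 2 ∣ ((P : Subgroup G) ⊓ normalizer (E : Set G)).relIndex (normalizer (E : Set G))) :
    ∃ T : Sylow 2 ↥(act E).range, ∀ x : ↥(act E).range,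
      x ∈ (T : Subgroup ↥(act E).range) ↔
      ∃ y : ↥(normalizer (E : Set G)), (y : G) ∈ (P : Subgroup G) ∧ act E y = x := by
  set N := normalizer (E : Set G)
  let PN : Sylow 2 ↥N :=
    ((P.isPGroup'.to_le inf_le_left).comap_subtype :
      IsPGroup 2 (((P : Subgroup G) ⊓ N).subgroupOf N)).toSylow hfn
  refine ⟨PN.mapSurjective (act E).rangeRestrict_surjective, fun x => ?_⟩
  rw [Sylow.coe_mapSurjective, mem_map]
  constructor
  · rintro ⟨y, hy, rfl⟩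
    exact ⟨y, (mem_inf.1 (mem_subgroupOf.1 hy)).1, rfl⟩
  · rintro ⟨y, hy, hx⟩
    exact ⟨y, mem_subgroupOf.2 (mem_inf.2 ⟨hy, y.2⟩), Subtype.ext hx⟩

theorem tvClass {P : Sylow 2 G} {E : Subgroup G}
    (hfn : ¬ 2 ∣ ((P : Subgroup G) ⊓ normalizer (E : Set G)).relIndex (normalizer (E : Set G))) {t : ↥(normalizer (E : Set G))}
    {p : ↥E} (htv : Tv (act E t) p)
    (huniq : ∀ g y : ↥(normalizer (E : Set G)), (y : G) ∈ (P : Subgroup G) →
      act E (g * t * g⁻¹) = act E y → act E y = act E t) : TvClass (tClass E t) where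
  tv := by
    rintro _ ⟨g, rfl⟩
    exact ⟨act E g p, by rw [map_mul, map_mul, map_inv]; exact htv.conj (act E g)⟩
  conj := by
    rintro _ ⟨g, rfl⟩ _ ⟨g', rfl⟩
    refine ⟨g * t * g⁻¹ * g', ?_⟩
    rw [← map_inv, ← map_mul, ← map_mul]
    congr 1
    group
  eq_of_commute := by
    rintro _ ⟨g, rfl⟩ _ ⟨g', rfl⟩ hc
    obtain ⟨T, hT⟩ := exists_sylow_range hfn
    let u : ↥(act E).range := ⟨act E (g * t * g⁻¹), ⟨_, rfl⟩⟩
    let v : ↥(act E).range := ⟨act E (g' * t * g'⁻¹), ⟨_, rfl⟩⟩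
    have hp : ∀ g₀ : ↥(normalizer (E : Set G)), IsPGroup 2 ↥(zpowers (⟨act E (g₀ * t * g₀⁻¹), ⟨_, rfl⟩⟩ :
        ↥(act E).range)) := by
      intro g₀
      intro ⟨w, i, hw⟩
      refine ⟨1, Subtype.ext ?_⟩
      have h2 : act E (g₀ * t * g₀⁻¹) * act E (g₀ * t * g₀⁻¹) = 1 := by
        rw [map_mul, map_mul, map_inv]; exact (htv.conj (act E g₀)).mul_self
      simp only at hw
      subst hw
      refine Subtype.ext ?_
      simp only [Subgroup.coe_pow, Subgroup.coe_zpow, Subgroup.coe_one, pow_one]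
      rw [← zpow_natCast, ← zpow_mul, mul_comm i, zpow_mul, zpow_natCast, pow_two, h2, one_zpow]
    have hQ : IsPGroup 2 ↥(zpowers u ⊔ zpowers v) :=
      (hp g).to_sup_of_normal_left' (hp g') (zpowers_le.2 (centralizer_le_normalizer _
        (mem_centralizer_iff.2 fun w ⟨i, hw⟩ => by
          simp only at hw
          rw [← hw]
          exact ((show Commute u v from Subtype.ext hc.eq).zpow_left i).eq)))
    obtain ⟨κ, -, hκ⟩ := CfsgLib.Techniques.exists_conj_le_sylow_of (X := ⊤) le_top hQ le_top T.isPGroup'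
      (by rw [relIndex_top_right]; exact T.not_dvd_index)
    obtain ⟨⟨y, hy, hyu⟩, ⟨y', hy', hyv⟩⟩ := (And.intro
      ((hT _).1 (hκ (mem_map_of_mem _ (mem_sup_left (mem_zpowers u)))))
      ((hT _).1 (hκ (mem_map_of_mem _ (mem_sup_right (mem_zpowers v))))))
    obtain ⟨k, hk⟩ := κ.2
    have hu : act E ((k * g) * t * (k * g)⁻¹) = act E y := by
      rw [hyu]
      show _ = (κ : MulAut ↥E) * act E (g * t * g⁻¹) * (κ : MulAut ↥E)⁻¹
      rw [← hk, ← map_inv, ← map_mul, ← map_mul]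
      congr 1
      group
    have hv : act E ((k * g') * t * (k * g')⁻¹) = act E y' := by
      rw [hyv]
      show _ = (κ : MulAut ↥E) * act E (g' * t * g'⁻¹) * (κ : MulAut ↥E)⁻¹
      rw [← hk, ← map_inv, ← map_mul, ← map_mul]
      congr 1
      group
    have h := (hu.trans (huniq _ y hy hu)).trans (hv.trans (huniq _ y' hy' hv)).symm
    rw [show k * g * t * (k * g)⁻¹ = k * (g * t * g⁻¹) * k⁻¹ by group,
      show k * g' * t * (k * g')⁻¹ = k * (g' * t * g'⁻¹) * k⁻¹ by group, map_mul (act E) _ k⁻¹,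
      map_mul (act E) k, map_mul (act E) _ k⁻¹, map_mul (act E) k] at h
    exact mul_left_cancel (mul_right_cancel h)

/-- An element commuting with `act t` lies in any subgroup containing the evident generators. -/
theorem mem_of_commute {P : Sylow 2 G} {E : Subgroup G} (hF : Family P E)
    {t : ↥(normalizer (E : Set G))} (htP : (t : G) ∈ (P : Subgroup G)) (S : Subgroup G)
    (hC : centralizer (E : Set G) ≤ S) (hE : E ≤ S) (ht : (t : G) ∈ S)
    (hbig : normalizer (E : Set G) ⊓ normalizer ((E ⊔ zpowers (t : G) : Subgroup G) : Set G) ≤ S)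
    {n : ↥(normalizer (E : Set G))} (hc : Commute (act E n) (act E t)) : (n : G) ∈ S := by
  set O := Cfsg.pPrimeCore 2 ↥(normalizer (E : Set G))
  set A := (E ⊔ zpowers (t : G)).subgroupOf (normalizer (E : Set G)) with hA
  have hAN : E ⊔ zpowers (t : G) ≤ (normalizer (E : Set G)) := sup_le le_normalizer (zpowers_le.2 t.2)
  have hAP : E ⊔ zpowers (t : G) ≤ (P : Subgroup G) := sup_le hF.1 (zpowers_le.2 htP)
  have hAp : IsPGroup 2 ↥A := (P.isPGroup'.to_le hAP).comap_subtype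
  have hidx : ¬ 2 ∣ A.relIndex (A ⊔ O) := by
    haveI : O.Normal := inferInstance
    have hdisj : A ⊓ O = ⊥ := CfsgLib.PCore.inf_eq_bot_of_isPGroup_coprime hAp CfsgLib.PCore.pPrimeCore_coprime
    have h1 := relIndex_mul_relIndex ⊥ A (A ⊔ O) bot_le le_sup_left
    have h2 := relIndex_mul_relIndex ⊥ O (A ⊔ O) bot_le le_sup_right
    have h3 : O.relIndex A = Nat.card A := by
      rw [← inf_relIndex_right, inf_comm, hdisj, relIndex_bot_left]
    rw [relIndex_bot_left] at h1 h2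
    rw [relIndex_sup_right, h3, ← h1, mul_comm (Nat.card O)] at h2
    rw [← Nat.eq_of_mul_eq_mul_left Nat.card_pos h2]
    exact Nat.prime_two.coprime_iff_not_dvd.1 (CfsgLib.PCore.pPrimeCore_coprime (p := 2)).symm
  have hAconj : A.map (MulAut.conj n).toMonoidHom ≤ A ⊔ O := by
    rw [hA, subgroupOf_sup le_normalizer (zpowers_le.2 t.2), Subgroup.map_sup]
    refine sup_le ?_ ?_
    · rintro _ ⟨x, hx, rfl⟩
      refine mem_sup_left (mem_sup_left (mem_subgroupOf.2 ?_))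
      exact (mem_normalizer_iff.1 n.2 x).1 (mem_subgroupOf.1 hx)
    · rintro _ ⟨x, hx, rfl⟩
      obtain ⟨i, hi⟩ := mem_subgroupOf.1 hx
      simp only at hi
      have hx' : x = t ^ i := Subtype.ext (by rw [Subgroup.coe_zpow]; exact hi.symm)
      rw [hx', map_zpow]
      refine zpow_mem ?_ i
      show n * t * n⁻¹ ∈ _
      have heq : act E (n * t * n⁻¹) = act E t := by rw [map_mul, map_mul, map_inv, hc.eq, mul_inv_cancel_right]
      have hcen := hF.2.1 (act_eq_iff.1 heq)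
      rw [← hF.2.2.1.2.2.2.2] at hcen
      have hle : (O.map (normalizer (E : Set G)).subtype ⊔ E).subgroupOf (normalizer (E : Set G)) ≤ (E.subgroupOf (normalizer (E : Set G)) ⊔ (zpowers (t : G)).subgroupOf (normalizer (E : Set G))) ⊔ O := by
        rw [subgroupOf_sup (map_subtype_le _) le_normalizer]
        refine sup_le (fun w hw => ?_) (le_sup_left.trans le_sup_left)
        obtain ⟨v, hv, hvw⟩ := mem_subgroupOf.1 hw
        exact Subtype.ext hvw ▸ mem_sup_right hv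
      have h1 : t⁻¹ * (n * t * n⁻¹) ∈ (E.subgroupOf (normalizer (E : Set G)) ⊔ (zpowers (t : G)).subgroupOf (normalizer (E : Set G))) ⊔ O :=
        hle (mem_subgroupOf.2 hcen)
      have := mul_mem (mem_sup_left (mem_sup_right (show t ∈ (zpowers (t : G)).subgroupOf (normalizer (E : Set G)) from
        mem_subgroupOf.2 (mem_zpowers _)))) h1
      rwa [mul_inv_cancel_left] at this
  obtain ⟨x, hx, hle⟩ := CfsgLib.Techniques.exists_conj_le_sylow_of hAconj
    (CfsgLib.Techniques.isPGroup_map_conj hAp n) le_sup_left hAp hidx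
  rw [← CfsgLib.Techniques.map_conj_mul] at hle
  have hm : x * n ∈ normalizer (A : Set ↥(normalizer (E : Set G))) :=
    CfsgLib.Techniques.map_conj_eq_self_iff.1 (eq_of_le_of_card_ge hle
      (CfsgLib.Techniques.card_map_conj _ _).ge)
  have hxS : (x : G) ∈ S := by
    have hle' : (A ⊔ O).map (normalizer (E : Set G)).subtype ≤ S := by
      rw [Subgroup.map_sup, map_subgroupOf_eq_of_le hAN]
      refine sup_le (sup_le hE (zpowers_le.2 ht)) (le_trans (fun o ho => mem_centralizer_iff.2 fun e he => ?_) hC)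
      exact (hF.2.2.1.2.2.1 o ho e he).symm
    exact hle' (mem_map_of_mem _ hx)
  have hmS : ((x * n : ↥(normalizer (E : Set G))) : G) ∈ S := by
    refine hbig (mem_inf.2 ⟨(x * n).2, ?_⟩)
    have := Cfsg.Tech46.AlpGold.map_le_normalizer A hm
    rwa [map_subgroupOf_eq_of_le hAN] at this
  exact (mul_mem_cancel_left hxS).1 hmS

/-- Generation of `N(E)` when the conjugates of `t` form a small class. -/
theorem normalizer_le_of_tvClass {P : Sylow 2 G} {E : Subgroup G} (hF : Family P E)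
    {t : ↥(normalizer (E : Set G))} (htP : (t : G) ∈ (P : Subgroup G))
    (hcl : TvClass (tClass E t)) (S : Subgroup G)
    (hC : centralizer (E : Set G) ≤ S) (hE : E ≤ S) (ht : (t : G) ∈ S)
    (hU : ∀ g : ↥(normalizer (E : Set G)), (g : G) * t * (g : G)⁻¹ ∈ S)
    (hbig : normalizer (E : Set G) ⊓ normalizer ((E ⊔ zpowers (t : G) : Subgroup G) : Set G) ≤ S) :
    normalizer (E : Set G) ≤ S := by
  intro n' hn'
  set n : ↥(normalizer (E : Set G)) := ⟨n', hn'⟩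
  set u := n * t * n⁻¹ with hu
  by_cases hne : act E u = act E t
  · refine mem_of_commute hF htP S hC hE ht hbig (n := n) ?_
    rw [hu, map_mul, map_mul, map_inv, mul_inv_eq_iff_eq_mul] at hne
    exact hne
  · have h := hcl.mul_conj (u := act E u) (v := act E t) ⟨n, rfl⟩ ⟨1, by rw [one_mul, inv_one, mul_one]⟩ hne
    set w := t * u with hw
    have hwS : (w : G) ∈ S := mul_mem ht (hU n)
    have hc : Commute (act E (w⁻¹ * n)) (act E t) := by
      rw [hu, map_mul (act E) _ n⁻¹, map_mul (act E) n, map_inv] at h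
      rw [commute_iff_eq, map_mul, map_inv, hw, map_mul, hu, map_mul, map_mul, map_inv]
      set a := act E n
      set b := act E t
      calc (b * (a * b * a⁻¹))⁻¹ * a * b = (b * (a * b * a⁻¹))⁻¹ * (a * b * a⁻¹) * a := by group
        _ = (b * (a * b * a⁻¹))⁻¹ * ((b * (a * b * a⁻¹)) * b * (b * (a * b * a⁻¹))⁻¹) * a := by rw [h]
        _ = b * ((b * (a * b * a⁻¹))⁻¹ * a) := by group
    have := mul_mem hwS (mem_of_commute hF htP S hC hE ht hbig hc)
    rwa [← Subgroup.coe_mul, mul_inv_cancel_left] at this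

namespace Setting

variable (σ : Setting G) {b : G} {B : Subgroup G}

theorem sup_decomp {A : Subgroup G} (hA : A ≤ σ.D₁) (hB : B ≤ σ.D₂) {x : G} (hx : x ∈ A ⊔ B) :
    ∃ c ∈ A, ∃ d ∈ B, x = c * d := by
  obtain ⟨c, hc, d, hd, h⟩ := CfsgLib.Techniques.exists_mul_of_mem_sup
    (fun a ha => centralizer_le_normalizer _ (mem_centralizer_iff.2 fun y hy =>
      (σ.comm a (hA ha) y (hB hy)).symm)) hx
  exact ⟨c, hc, d, hd, h.symm⟩

theorem sup_components {A : Subgroup G} (hA : A ≤ σ.D₁) (hB : B ≤ σ.D₂) {c d : G} (hc : c ∈ σ.D₁)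
    (hd : d ∈ σ.D₂) (h : c * d ∈ A ⊔ B) : c ∈ A ∧ d ∈ B := by
  obtain ⟨c', hc', d', hd', he⟩ := σ.sup_decomp hA hB h
  obtain ⟨rfl, rfl⟩ := σ.mul_unique hc (hA hc') hd (hB hd') he
  exact ⟨hc', hd'⟩

theorem z_comm_P {x : G} (hx : x ∈ (σ.P : Subgroup G)) : σ.d₁.z * x = x * σ.d₁.z := by
  obtain ⟨c, hc, d, hd, rfl⟩ := σ.exists_mul hx
  exact ((show Commute σ.d₁.z c from (σ.d₁.z_central hc).symm).mul_right (σ.comm _ σ.d₁.z_mem d hd)).eq

theorem four_sup_le_P (hb : b ∈ σ.D₁) (hB : B ≤ σ.D₂) : σ.d₁.four b ⊔ B ≤ (σ.P : Subgroup G) :=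
  sup_le ((σ.d₁.four_le hb).trans σ.le₁) (hB.trans σ.le₂)

theorem t_conj_four_sup (hk : 1 ≤ σ.d₁.k) (hb : b ∈ σ.D₁) (hbr : b ∉ zpowers σ.d₁.r) (hB : B ≤ σ.D₂)
    {x : G} (hx : x ∈ σ.d₁.four b ⊔ B) :
    σ.d₁.t * x * σ.d₁.t⁻¹ = x ∨ σ.d₁.t * x * σ.d₁.t⁻¹ = x * σ.d₁.z := by
  obtain ⟨c, hc, d, hd, rfl⟩ := σ.sup_decomp (σ.d₁.four_le hb) hB hx
  have hd' : σ.d₁.t * d * σ.d₁.t⁻¹ = d := by rw [σ.comm _ σ.d₁.t_mem d (hB hd), mul_inv_cancel_right]
  have htz : σ.d₁.t * σ.d₁.z * σ.d₁.t⁻¹ = σ.d₁.z := by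
    rw [σ.d₁.z_central σ.d₁.t_mem, mul_inv_cancel_right]
  have htb := σ.d₁.t_conj_refl hk hb hbr
  have hdz : σ.d₁.z * d = d * σ.d₁.z := σ.comm _ σ.d₁.z_mem d (hB hd)
  rw [show σ.d₁.t * (c * d) * σ.d₁.t⁻¹ = (σ.d₁.t * c * σ.d₁.t⁻¹) * (σ.d₁.t * d * σ.d₁.t⁻¹) by group, hd']
  rcases (σ.d₁.mem_four hb hbr).1 hc with rfl | rfl | rfl | rfl
  · left; rw [mul_one, mul_inv_cancel]
  · left; rw [htz]
  · right; rw [htb, mul_assoc, hdz, mul_assoc]
  · right
    rw [show σ.d₁.t * (b * σ.d₁.z) * σ.d₁.t⁻¹ = (σ.d₁.t * b * σ.d₁.t⁻¹) * (σ.d₁.t * σ.d₁.z * σ.d₁.t⁻¹) by group,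
      htz, htb, mul_assoc _ d, ← hdz, ← mul_assoc]

theorem t_mem_normalizer (hk : 1 ≤ σ.d₁.k) (hb : b ∈ σ.D₁) (hbr : b ∉ zpowers σ.d₁.r) (hB : B ≤ σ.D₂) :
    σ.d₁.t ∈ normalizer ((σ.d₁.four b ⊔ B : Subgroup G) : Set G) :=
  mem_normalizer_of_conj_mem fun e he => by
    rcases σ.t_conj_four_sup hk hb hbr hB he with h | h <;> rw [h]
    · exact he
    · exact mul_mem he (mem_sup_left (σ.d₁.mem_four_left b))

theorem t_tv (hk : 1 ≤ σ.d₁.k) (hb : b ∈ σ.D₁) (hbr : b ∉ zpowers σ.d₁.r) (hB : B ≤ σ.D₂) :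
    Tv (act (σ.d₁.four b ⊔ B) ⟨σ.d₁.t, σ.t_mem_normalizer hk hb hbr hB⟩)
      ⟨σ.d₁.z, mem_sup_left (σ.d₁.mem_four_left b)⟩ where
  sq := Subtype.ext σ.d₁.z_sq
  ne h := σ.d₁.z_ne_one (congrArg Subtype.val h)
  comm x := Subtype.ext (σ.z_comm_P (σ.four_sup_le_P hb hB x.2))
  fix := Subtype.ext (by rw [act_apply]; simp only; rw [σ.d₁.z_central σ.d₁.t_mem, mul_inv_cancel_right])
  cases x := by
    rcases σ.t_conj_four_sup hk hb hbr hB x.2 with h | h
    · exact Or.inl (Subtype.ext h)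
    · exact Or.inr (Subtype.ext h)
  moved := ⟨⟨b, mem_sup_left (σ.d₁.mem_four_right b)⟩, fun h => by
    have h1 := congrArg Subtype.val h
    rw [act_apply] at h1
    simp only at h1
    rw [σ.d₁.t_conj_refl hk hb hbr, mul_eq_left] at h1
    exact σ.d₁.z_ne_one h1⟩

/-- The first component of an element of `P` normalising `four b ⊔ B` acts as a power of `t`. -/
theorem first_component (hk : 1 ≤ σ.d₁.k) (hb : b ∈ σ.D₁) (hbr : b ∉ zpowers σ.d₁.r) (hB : B ≤ σ.D₂)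
    {c d : G} (hc : c ∈ σ.D₁) (hd : d ∈ σ.D₂)
    (hn : c * d ∈ normalizer ((σ.d₁.four b ⊔ B : Subgroup G) : Set G)) :
    ∃ hc' : c ∈ normalizer ((σ.d₁.four b ⊔ B : Subgroup G) : Set G),
      act (σ.d₁.four b ⊔ B) ⟨c, hc'⟩ = 1 ∨
        act (σ.d₁.four b ⊔ B) ⟨c, hc'⟩ =
          act (σ.d₁.four b ⊔ B) ⟨σ.d₁.t, σ.t_mem_normalizer hk hb hbr hB⟩ := by
  set E := σ.d₁.four b ⊔ B
  set N := normalizer (E : Set G)
  have h1 := (mem_normalizer_iff.1 hn b).1 (mem_sup_left (σ.d₁.mem_four_right b))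
  rw [show c * d * b * (c * d)⁻¹ = c * d * (b * 1) * (c * d)⁻¹ by rw [mul_one],
    σ.conj_pair hc hb hd (one_mem _)] at h1
  have h2 := (σ.sup_components (σ.d₁.four_le hb) hB (σ.D₁.mul_mem (σ.D₁.mul_mem hc hb) (σ.D₁.inv_mem hc))
    (by simp) h1).1
  set τ : ↥N := ⟨σ.d₁.t, σ.t_mem_normalizer hk hb hbr hB⟩
  have hK : σ.d₁.four b ⊔ zpowers σ.d₁.t ≤ ((zpowers (act E τ)).comap (act E)).map N.subtype := by
    refine sup_le (fun v hv => ?_) (zpowers_le.2 ⟨τ, mem_comap.2 (mem_zpowers _), rfl⟩)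
    refine ⟨⟨v, le_normalizer (mem_sup_left hv)⟩, mem_comap.2 ?_, rfl⟩
    have : act E ⟨v, le_normalizer (mem_sup_left hv)⟩ = 1 := by
      refine MulEquiv.ext fun e => Subtype.ext ?_
      obtain ⟨c', hc', d', hd', he⟩ := σ.sup_decomp (σ.d₁.four_le hb) hB e.2
      rw [act_apply, MulAut.one_apply]
      simp only
      have hve : Commute v (e : G) := he ▸ (show Commute v c' from σ.d₁.four_comm hb hbr hv hc').mul_right
        (σ.comm v (σ.d₁.four_le hb hv) d' (hB hd'))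
      rw [hve.eq, mul_inv_cancel_right]
    rw [this]
    exact one_mem _
  obtain ⟨y, hy, hyc⟩ := hK (σ.d₁.normalizes_four hk hb hbr hc h2)
  subst hyc
  refine ⟨y.2, ?_⟩
  obtain ⟨i, hi⟩ := mem_comap.1 hy
  simp only at hi
  have hsq : act E τ * act E τ = 1 := (σ.t_tv hk hb hbr hB).mul_self
  rcases Int.even_or_odd i with ⟨l, hl⟩ | ⟨l, hl⟩
  · left
    show act E y = 1
    rw [← hi, hl, ← two_mul, zpow_mul, zpow_two, hsq, one_zpow]
  · right
    show act E y = act E τ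
    rw [← hi, hl, zpow_add, zpow_mul, zpow_two, hsq, one_zpow, one_mul, zpow_one]

theorem comm_mem_rot {x d : G} (hx : x ∈ σ.D₂) (hd : d ∈ σ.D₂) :
    x⁻¹ * (d * x * d⁻¹) ∈ zpowers σ.d₂.r := by
  by_cases hdr : d ∈ zpowers σ.d₂.r
  · have h := σ.d₂.conj_rot_mem (inv_mem hx) hdr
    rw [inv_inv] at h
    rw [show x⁻¹ * (d * x * d⁻¹) = x⁻¹ * d * x * d⁻¹ by group]
    exact mul_mem h (inv_mem hdr)
  · by_cases hxr : x ∈ zpowers σ.d₂.r
    · exact mul_mem (inv_mem hxr) (σ.d₂.conj_rot_mem hd hxr)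
    · rw [inv_eq_of_mul_eq_one_right (σ.d₂.refl_sq hx hxr),
        inv_eq_of_mul_eq_one_right (σ.d₂.refl_sq hd hdr), show x * (d * x * d) = (x * d) * (x * d) by group]
      exact mul_mem (σ.d₂.refl_mul_refl hx hxr hd hdr) (σ.d₂.refl_mul_refl hx hxr hd hdr)

/-- The normaliser of `four b ⊔ D₂` fixes the involution of `D₂` that is a square. -/
theorem fixes_z₂ (hk₂ : 1 ≤ σ.d₂.k) (hb : b ∈ σ.D₁) (hbr : b ∉ zpowers σ.d₁.r) {g : G}
    (hg : g ∈ normalizer ((σ.d₁.four b ⊔ σ.D₂ : Subgroup G) : Set G)) :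
    g * σ.d₂.z * g⁻¹ = σ.d₂.z := by
  have hmem := (mem_normalizer_iff.1 hg _).1 (mem_sup_right σ.d₂.t_mem)
  obtain ⟨c, hc, d, hd, he⟩ := σ.sup_decomp (σ.d₁.four_le hb) le_rfl hmem
  have hsq : g * σ.d₂.z * g⁻¹ = d * d := by
    rw [← σ.d₂.t_sq hk₂, show g * (σ.d₂.t * σ.d₂.t) * g⁻¹ = (g * σ.d₂.t * g⁻¹) * (g * σ.d₂.t * g⁻¹) by group,
      he, σ.pair_mul (σ.d₁.four_le hb hc) hd, σ.d₁.four_sq hb hbr hc, one_mul]
  have hdr : d * d ∈ zpowers σ.d₂.r := by
    by_cases h : d ∈ zpowers σ.d₂.r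
    · exact mul_mem h h
    · rw [σ.d₂.refl_sq hd h]; exact one_mem _
  rcases σ.d₂.rot_sq_eq_one hdr (by
    rw [← hsq, show g * σ.d₂.z * g⁻¹ * (g * σ.d₂.z * g⁻¹) = g * (σ.d₂.z * σ.d₂.z) * g⁻¹ by group,
      σ.d₂.z_sq, mul_one, mul_inv_cancel]) with h | h
  · rw [hsq.symm, conj_eq_one_iff] at h
    exact absurd h σ.d₂.z_ne_one
  · rw [hsq, h]

/-- In `four b ⊔ D₂` only `t` itself is a conjugate of `t` coming from `P`. -/
theorem unique_full (hk : 1 ≤ σ.d₁.k) (hb : b ∈ σ.D₁) (hbr : b ∉ zpowers σ.d₁.r)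
    (g y : ↥(normalizer ((σ.d₁.four b ⊔ σ.D₂ : Subgroup G) : Set G))) (hy : (y : G) ∈ (σ.P : Subgroup G))
    (h : act (σ.d₁.four b ⊔ σ.D₂) (g * ⟨σ.d₁.t, σ.t_mem_normalizer hk hb hbr le_rfl⟩ * g⁻¹) =
      act (σ.d₁.four b ⊔ σ.D₂) y) :
    act (σ.d₁.four b ⊔ σ.D₂) y =
      act (σ.d₁.four b ⊔ σ.D₂) ⟨σ.d₁.t, σ.t_mem_normalizer hk hb hbr le_rfl⟩ := by
  obtain ⟨y, hyN⟩ := y
  change y ∈ (σ.P : Subgroup G) at hy
  obtain ⟨c, hc, d, hd, rfl⟩ := σ.exists_mul hy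
  obtain ⟨hc', hcc⟩ := σ.first_component hk hb hbr le_rfl hc hd hyN
  have hd' : d ∈ normalizer ((σ.d₁.four b ⊔ σ.D₂ : Subgroup G) : Set G) := by
    have := mul_mem (inv_mem hc') hyN
    rwa [inv_mul_cancel_left] at this
  have htv := (σ.t_tv hk hb hbr le_rfl).conj (act (σ.d₁.four b ⊔ σ.D₂) g)
  rw [← map_inv, ← map_mul, ← map_mul, h] at htv
  set p := act (σ.d₁.four b ⊔ σ.D₂) g ⟨σ.d₁.z, mem_sup_left (σ.d₁.mem_four_left b)⟩ with hp
  have hdc : ∀ x ∈ σ.D₂, d * x * d⁻¹ = x := by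
    intro x hx
    by_contra hne
    have hk₂ : 1 ≤ σ.d₂.k := Nat.one_le_iff_ne_zero.2 fun h0 => hne (by
      rw [σ.d₂.comm_of_four h0 hd hx, mul_inv_cancel_right])
    have hact : (act (σ.d₁.four b ⊔ σ.D₂) ⟨c * d, hyN⟩ ⟨x, mem_sup_right hx⟩ : G) = d * x * d⁻¹ := by
      rw [act_apply]
      simp only
      have hcx : Commute c (d * x * d⁻¹) := σ.comm c hc _ (mul_mem (mul_mem hd hx) (inv_mem hd))
      rw [show c * d * x * (c * d)⁻¹ = c * (d * x * d⁻¹) * c⁻¹ by group, hcx.eq, mul_inv_cancel_right]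
    rcases htv.cases ⟨x, mem_sup_right hx⟩ with e | e
    · exact hne (hact.symm.trans (congrArg Subtype.val e))
    · have hpx : (p : G) = x⁻¹ * (d * x * d⁻¹) := by
        have e1 : d * x * d⁻¹ = x * (p : G) := hact.symm.trans (congrArg Subtype.val e)
        rw [e1, inv_mul_cancel_left]
      rcases σ.d₂.rot_sq_eq_one (hpx ▸ σ.comm_mem_rot hx hd) (congrArg Subtype.val htv.sq) with e' | e'
      · exact htv.ne (Subtype.ext e')
      · have h3 : (g : G) * σ.d₁.z * (g : G)⁻¹ = (g : G) * σ.d₂.z * (g : G)⁻¹ :=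
          (show (p : G) = (g : G) * σ.d₁.z * (g : G)⁻¹ from rfl).symm.trans
            (e'.trans (σ.fixes_z₂ hk₂ hb hbr g.2).symm)
        have h4 : σ.d₁.z = σ.d₂.z := mul_left_cancel (mul_right_cancel h3)
        refine σ.d₁.z_ne_one ?_
        have h5 : σ.d₁.z ∈ σ.D₁ ⊓ σ.D₂ := mem_inf.2 ⟨σ.d₁.z_mem, h4 ▸ σ.d₂.z_mem⟩
        rwa [σ.disj, mem_bot] at h5
  have hd1 : act (σ.d₁.four b ⊔ σ.D₂) ⟨d, hd'⟩ = 1 := by
    refine MulEquiv.ext fun e => Subtype.ext ?_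
    obtain ⟨c', hc'', d', hd'', he⟩ := σ.sup_decomp (σ.d₁.four_le hb) le_rfl e.2
    rw [act_apply, MulAut.one_apply, he]
    simp only
    rw [show d * (c' * d') * d⁻¹ = (d * c' * d⁻¹) * (d * d' * d⁻¹) by group, hdc d' hd'',
      ← σ.comm c' (σ.d₁.four_le hb hc'') d hd, mul_inv_cancel_right]
  have heq : act (σ.d₁.four b ⊔ σ.D₂) ⟨c * d, hyN⟩ = act (σ.d₁.four b ⊔ σ.D₂) ⟨c, hc'⟩ := by
    rw [show (⟨c * d, hyN⟩ : ↥(normalizer ((σ.d₁.four b ⊔ σ.D₂ : Subgroup G) : Set G))) = ⟨c, hc'⟩ * ⟨d, hd'⟩ from rfl, map_mul, hd1, mul_one]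
  rcases hcc with h1 | h1
  · exfalso
    obtain ⟨x, hx⟩ := htv.moved
    exact hx (by rw [heq, h1, MulAut.one_apply])
  · rw [heq, h1]

end Setting

end CfsgLib.DihProduct
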