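import Cfsg.Agent.Lib.DihProduct.Setting

/-!
The members of the Alperin–Goldschmidt family inside a product of two dihedral groups: products of
whole factors and four-groups.
-/

set_option autoImplicit false
set_option linter.unusedSectionVars false

namespace CfsgLib.DihProduct

open Subgroup Cfsg.Tech46.AlpGold

variable {G : Type*} [Group G] [Finite G]

local instance : Fact (Nat.Prime 2) := ⟨Nat.prime_two⟩

/-- The whole factor or a four-group through a reflection. -/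
def IsPart {D : Subgroup G} (d : Dih D) (V : Subgroup G) : Prop :=
  V = D ∨ ∃ b ∈ D, b ∉ zpowers d.r ∧ V = d.four b

namespace Setting

variable (σ : Setting G) {E : Subgroup G}

/-- A reflection occurs in each projection. -/
theorem exists_refl₁ (hF : Family σ.P E) : ∃ b ∈ σ.proj₁ E, b ∉ zpowers σ.d₁.r := by
  have hE := hF.1
  by_cases hk : σ.d₁.k = 0
  · have ha : σ.d₁.a ∈ E := family_centric hF (mem_inf.2 ⟨σ.le₁ σ.d₁.a_mem,
      σ.mem_centralizer₁ hE σ.d₁.a_mem fun c hc =>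
        σ.d₁.comm_of_four hk σ.d₁.a_mem ((σ.mem_proj₁ hE).1 hc).1⟩)
    exact ⟨σ.d₁.a, σ.fst_mem_proj₁ hE σ.d₁.a_mem (one_mem _) (by rwa [mul_one]), σ.d₁.a_notMem⟩
  by_contra hno
  push Not at hno
  have hr : σ.d₁.r ∈ E := family_centric hF (mem_inf.2 ⟨σ.le₁ σ.d₁.r_mem,
    σ.mem_centralizer₁ hE σ.d₁.r_mem fun c hc => σ.d₁.rot_comm (mem_zpowers _) (hno c hc)⟩)
  have ha : σ.d₁.a ∈ E := by
    refine family_mem_of_sq hF (σ.le₁ σ.d₁.a_mem) fun e he => ?_
    obtain ⟨c, hc, d, hd, rfl⟩ := σ.exists_mul (hE he)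
    have hcr := hno c (σ.fst_mem_proj₁ hE hc hd he)
    rw [σ.comm_pair σ.d₁.a_mem hd, σ.d₁.refl_inv σ.d₁.a_mem σ.d₁.a_notMem hcr]
    exact sq_mem_sqClosure (inv_mem ((zpowers_le.2 hr) hcr))
  exact σ.d₁.a_notMem (hno _ (σ.fst_mem_proj₁ hE σ.d₁.a_mem (one_mem _) (by rwa [mul_one])))

/-- Either all rotations of the projection square to `1`, or they are generated by one of larger order. -/
theorem rot_dichotomy₁ (E : Subgroup G) :
    (∀ c ∈ σ.proj₁ E, c ∈ zpowers σ.d₁.r → c * c = 1) ∨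
      ∃ ρ ∈ σ.proj₁ E, ρ ∈ zpowers σ.d₁.r ∧ ρ * ρ ≠ 1 ∧
        ∀ c ∈ σ.proj₁ E, c ∈ zpowers σ.d₁.r → c ∈ zpowers ρ := by
  rw [or_iff_not_imp_left]
  intro h
  push Not at h
  obtain ⟨c₀, hc₀, hc₀r, hc₀2⟩ := h
  haveI : IsCyclic ↥(zpowers σ.d₁.r) := Subgroup.isCyclic_zpowers _
  haveI : IsCyclic ↥(σ.proj₁ E ⊓ zpowers σ.d₁.r : Subgroup G) :=
    isCyclic_of_injective (inclusion inf_le_right) (inclusion_injective _)
  obtain ⟨⟨ρ, hρ⟩, hgen⟩ := IsCyclic.exists_generator (α := ↥(σ.proj₁ E ⊓ zpowers σ.d₁.r : Subgroup G))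
  have hall : ∀ c ∈ σ.proj₁ E, c ∈ zpowers σ.d₁.r → c ∈ zpowers ρ := by
    intro c hc hcr
    obtain ⟨i, hi⟩ := hgen ⟨c, mem_inf.2 ⟨hc, hcr⟩⟩
    exact ⟨i, by simpa using congrArg Subtype.val hi⟩
  refine ⟨ρ, (mem_inf.1 hρ).1, (mem_inf.1 hρ).2, fun h2 => hc₀2 ?_, hall⟩
  obtain ⟨i, hi⟩ := hall c₀ hc₀ hc₀r
  simp only at hi
  rw [← hi, ← zpow_add, ← two_mul, zpow_mul, zpow_two, h2, one_zpow]

/-- A projection without rotations of order 4 is a four-group inside `E`. -/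
theorem proj₁_four (hF : Family σ.P E) (hQ : ∀ c ∈ σ.proj₁ E, c ∈ zpowers σ.d₁.r → c * c = 1)
    {b : G} (hb : b ∈ σ.proj₁ E) (hbr : b ∉ zpowers σ.d₁.r) :
    σ.proj₁ E = σ.d₁.four b ∧ σ.proj₁ E ≤ E := by
  have hE := hF.1
  have hbD := ((σ.mem_proj₁ hE).1 hb).1
  have hsub : σ.proj₁ E ≤ σ.d₁.four b := by
    intro c hc
    have hcD := ((σ.mem_proj₁ hE).1 hc).1
    by_cases hcr : c ∈ zpowers σ.d₁.r
    · rcases σ.d₁.rot_sq_eq_one hcr (hQ c hc hcr) with rfl | rfl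
      · exact one_mem _
      · exact σ.d₁.mem_four_left b
    · have hm := σ.d₁.refl_mul_refl hcD hcr hbD hbr
      rcases σ.d₁.rot_sq_eq_one hm (hQ _ (mul_mem hc hb) hm) with h | h
      · have : c = b := by
          rw [eq_inv_of_mul_eq_one_left h, inv_eq_of_mul_eq_one_right (σ.d₁.refl_sq hbD hbr)]
        exact this ▸ σ.d₁.mem_four_right b
      · have : c = σ.d₁.z * b := by rw [← h, mul_assoc, σ.d₁.refl_sq hbD hbr, mul_one]
        exact this ▸ mul_mem (σ.d₁.mem_four_left b) (σ.d₁.mem_four_right b)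
  have hin : σ.d₁.four b ≤ E := fun x hx => family_centric hF (mem_inf.2
    ⟨σ.le₁ (σ.d₁.four_le hbD hx), σ.mem_centralizer₁ hE (σ.d₁.four_le hbD hx) fun c hc =>
      σ.d₁.four_comm hbD hbr hx (hsub hc)⟩)
  exact ⟨le_antisymm hsub fun x hx =>
    σ.fst_mem_proj₁ hE (σ.d₁.four_le hbD hx) (one_mem _) (by rw [mul_one]; exact hin hx), hsub.trans hin⟩

/-- Once `ρ²` is a product of squares of `E`, the projection lies in `E`. -/
theorem proj₁_le_of_sq (hF : Family σ.P E) {ρ : G} (hρ : ρ ∈ σ.proj₁ E)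
    (hall : ∀ c ∈ σ.proj₁ E, c ∈ zpowers σ.d₁.r → c ∈ zpowers ρ) (hsq : ρ * ρ ∈ sqClosure E) :
    σ.proj₁ E ≤ E := by
  have hE := hF.1
  have hsq' : ∀ w ∈ zpowers ρ, w * w ∈ sqClosure E := by
    rintro _ ⟨i, rfl⟩
    simp only
    rw [← zpow_add, ← two_mul, zpow_mul, zpow_two]
    exact zpow_mem hsq i
  intro x hx
  have hxD := ((σ.mem_proj₁ hE).1 hx).1
  refine family_mem_of_sq hF (σ.le₁ hxD) fun e he => ?_
  obtain ⟨c, hc, d, hd, rfl⟩ := σ.exists_mul (hE he)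
  have hcp := σ.fst_mem_proj₁ hE hc hd he
  rw [σ.comm_pair hxD hd]
  by_cases hxr : x ∈ zpowers σ.d₁.r
  · by_cases hcr : c ∈ zpowers σ.d₁.r
    · rw [σ.d₁.rot_comm hxr hcr, mul_inv_cancel_right, mul_inv_cancel]
      exact one_mem _
    · rw [show x * c * x⁻¹ * c⁻¹ = x * (c * x⁻¹ * c⁻¹) by group,
        σ.d₁.refl_inv hc hcr (inv_mem hxr), inv_inv]
      exact hsq' x (hall x hx hxr)
  · by_cases hcr : c ∈ zpowers σ.d₁.r
    · rw [σ.d₁.refl_inv hxD hxr hcr]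
      exact hsq' _ (inv_mem (hall c hcp hcr))
    · rw [inv_eq_of_mul_eq_one_right (σ.d₁.refl_sq hxD hxr),
        inv_eq_of_mul_eq_one_right (σ.d₁.refl_sq hc hcr), mul_assoc (x * c)]
      exact hsq' _ (hall _ (mul_mem hx hcp) (σ.d₁.refl_mul_refl hxD hxr hc hcr))

/-- A reflection in `E` of the first factor puts the projection into `E`. -/
theorem proj₁_le_of_refl (hF : Family σ.P E) {w : G} (hw : w ∈ σ.D₁) (hwr : w ∉ zpowers σ.d₁.r)
    (hwE : w ∈ E) {ρ : G} (hρ : ρ ∈ σ.proj₁ E) (hρr : ρ ∈ zpowers σ.d₁.r)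
    (hall : ∀ c ∈ σ.proj₁ E, c ∈ zpowers σ.d₁.r → c ∈ zpowers ρ) : σ.proj₁ E ≤ E := by
  refine σ.proj₁_le_of_sq hF hρ hall ?_
  obtain ⟨y, hy, hρy⟩ := ((σ.mem_proj₁ hF.1).1 hρ).2
  have h := comm_mem_sqClosure hwE hρy
  rw [σ.comm_pair hw hy, σ.d₁.refl_inv hw hwr hρr] at h
  have := inv_mem h
  rwa [← mul_inv_rev, inv_inv] at this

theorem proj₁_le (hF : Family σ.P E) : σ.proj₁ E ≤ E := by
  have hE := hF.1
  obtain ⟨b, hb, hbr⟩ := σ.exists_refl₁ hF
  rcases σ.rot_dichotomy₁ E with hQ | ⟨ρ, hρ, hρr, hρ2, hall⟩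
  · exact (σ.proj₁_four hF hQ hb hbr).2
  by_contra hcon
  have hlift : ∀ y ∈ σ.D₂, ρ * y ∈ E → y ∈ zpowers σ.d₂.r ∧ y * y ≠ 1 := by
    intro y hy hρy
    have h2 : y * y ≠ 1 := fun h2 => hcon (σ.proj₁_le_of_sq hF hρ hall (by
      have := sq_mem_sqClosure hρy
      rwa [σ.pair_mul ((σ.mem_proj₁ hE).1 hρ).1 hy, h2, mul_one] at this))
    exact ⟨by_contra fun hyr => h2 (σ.d₂.refl_sq hy hyr), h2⟩
  have hρD := ((σ.mem_proj₁ hE).1 hρ).1
  obtain ⟨y, hy, hρy⟩ := ((σ.mem_proj₁ hE).1 hρ).2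
  obtain ⟨hyr, hy2⟩ := hlift y hy hρy
  have hcon₂ : ¬ σ.swap.proj₁ E ≤ E := by
    intro h
    have hyE := h (σ.snd_mem_proj₂ hE hρD hy hρy)
    have hρE := mul_mem hρy (inv_mem hyE)
    rw [mul_inv_cancel_right] at hρE
    exact (hlift 1 (one_mem _) (by rwa [mul_one])).2 (mul_one 1)
  obtain ⟨ρ', hρ', hρ'r, hρ'2, hall'⟩ := (σ.swap.rot_dichotomy₁ E).resolve_left fun h =>
    hy2 (h y (σ.snd_mem_proj₂ hE hρD hy hρy) hyr)
  obtain ⟨x, hx, hxρ'⟩ := ((σ.swap.mem_proj₁ hE).1 hρ').2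
  have hρ'D : ρ' ∈ σ.D₂ := ((σ.swap.mem_proj₁ hE).1 hρ').1
  have hx2 : x * x ≠ 1 := fun h2 => hcon₂ (σ.swap.proj₁_le_of_sq hF hρ' hall' (by
    have := sq_mem_sqClosure hxρ'
    rwa [σ.swap.pair_mul hρ'D hx, h2, mul_one] at this))
  have hxr : x ∈ zpowers σ.d₁.r := by_contra fun h => hx2 (σ.d₁.refl_sq hx h)
  have hxρ'' : x * ρ' ∈ E := by rw [σ.comm x hx ρ' hρ'D]; exact hxρ'
  have hno₁ : ∀ w ∈ σ.D₁, w ∈ E → w ∈ zpowers σ.d₁.r := fun w hw hwE => by_contra fun hwr =>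
    hcon (σ.proj₁_le_of_refl hF hw hwr hwE hρ hρr hall)
  have hno₂ : ∀ w ∈ σ.D₂, w ∈ E → w ∈ zpowers σ.d₂.r := fun w hw hwE => by_contra fun hwr =>
    hcon₂ (σ.swap.proj₁_le_of_refl hF hw hwr hwE hρ' hρ'r hall')
  have hpow : ∀ (u v : G), u ∈ σ.D₁ → v ∈ σ.D₂ → ∀ i : ℤ, (u * v) ^ i = u ^ i * v ^ i := fun u v hu hv i =>
    (show Commute u v from σ.comm u hu v hv).mul_zpow i
  have hmixed : ∀ c ∈ σ.D₁, ∀ d ∈ σ.D₂, c * d ∈ E →
      (c ∈ zpowers σ.d₁.r ↔ d ∈ zpowers σ.d₂.r) := by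
    intro c hc d hd hcd
    constructor
    · intro hcr
      obtain ⟨i, hi⟩ := hall c (σ.fst_mem_proj₁ hE hc hd hcd) hcr
      simp only at hi
      have h := mul_mem hcd (inv_mem (zpow_mem hρy i))
      rw [hpow ρ y hρD hy, hi] at h
      have e : c * d * (c * y ^ i)⁻¹ = d * (y ^ i)⁻¹ := by
        rw [σ.comm c hc d hd, mul_inv_rev, ← mul_inv_rev, σ.comm c hc (y ^ i) (zpow_mem hy i)]
        group
      rw [e] at h
      have hm := hno₂ _ (mul_mem hd (inv_mem (zpow_mem hy i))) h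
      exact (mul_mem_cancel_right (inv_mem (zpow_mem hyr i))).1 hm
    · intro hdr
      obtain ⟨i, hi⟩ := hall' d (σ.snd_mem_proj₂ hE hc hd hcd) hdr
      simp only at hi
      have h := mul_mem hcd (inv_mem (zpow_mem hxρ'' i))
      rw [hpow x ρ' hx hρ'D, hi] at h
      have e : c * d * (x ^ i * d)⁻¹ = c * (x ^ i)⁻¹ := by group
      rw [e] at h
      have hm := hno₁ _ (mul_mem hc (inv_mem (zpow_mem hx i))) h
      exact (mul_mem_cancel_right (inv_mem (zpow_mem hxr i))).1 hm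
  -- a characteristic abelian subgroup
  let X : Set G := {e | e ∈ E ∧ e * e ≠ 1}
  have hXrot : ∀ e ∈ X, ∀ c ∈ σ.D₁, ∀ d ∈ σ.D₂, e = c * d → c ∈ zpowers σ.d₁.r := by
    rintro e ⟨he, he2⟩ c hc d hd rfl
    by_contra hcr
    have hdr : d ∉ zpowers σ.d₂.r := fun h => hcr ((hmixed c hc d hd he).2 h)
    exact he2 (by rw [σ.pair_mul hc hd, σ.d₁.refl_sq hc hcr, σ.d₂.refl_sq hd hdr, mul_one])
  have hA : normalizer (E : Set G) ≤ normalizer (closure X : Set G) := by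
    rw [le_normalizer_closure_iff]
    rintro g hg e ⟨he, he2⟩
    exact subset_closure ⟨(mem_normalizer_iff.1 hg e).1 he, fun h => he2 (by
      rwa [show g * e * g⁻¹ * (g * e * g⁻¹) = g * (e * e) * g⁻¹ by group, conj_eq_one_iff] at h)⟩
  have hAE : closure X ≤ E := (closure_le E).2 fun e he => he.1
  -- an element just outside `E`
  obtain ⟨r', hr', hr'E, hr'2⟩ : ∃ r' ∈ zpowers ρ, r' ∉ E ∧ r' * r' ∈ E := by
    have hρE : ρ ∉ E := fun h => (hlift 1 (one_mem _) (by rwa [mul_one])).2 (mul_one 1)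
    obtain ⟨k, hk⟩ := IsPGroup.iff_orderOf.1 σ.P.isPGroup' ⟨ρ, σ.le₁ hρD⟩
    rw [orderOf_mk] at hk
    have hlast : ρ ^ 2 ^ k ∈ E := by rw [← hk, pow_orderOf_eq_one]; exact one_mem _
    classical
    have hex : ∃ j, ρ ^ 2 ^ j ∈ E := ⟨k, hlast⟩
    have h0 : 1 ≤ Nat.find hex := Nat.one_le_iff_ne_zero.2 fun h => hρE (by
      simpa [h] using Nat.find_spec hex)
    refine ⟨ρ ^ 2 ^ (Nat.find hex - 1), pow_mem (mem_zpowers _) _, Nat.find_min hex (by omega), ?_⟩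
    rw [← pow_add, ← two_mul, ← pow_succ', Nat.sub_add_cancel h0]
    exact Nat.find_spec hex
  have hr'r : r' ∈ zpowers σ.d₁.r := (zpowers_le.2 hρr) hr'
  have hr'D : r' ∈ σ.D₁ := σ.d₁.rot_le hr'r
  refine hr'E (family_mem_of_series hF hAE hA (σ.le₁ hr'D) ?_ ?_)
  · intro a ha
    have : closure X ≤ centralizer ({r'} : Set G) := (closure_le _).2 fun e he => by
      obtain ⟨c, hc, d, hd, h⟩ := σ.exists_mul (hE he.1)
      rw [SetLike.mem_coe, mem_centralizer_singleton_iff, h]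
      exact (((show Commute r' c from σ.d₁.rot_comm hr'r (hXrot e he c hc d hd h)).mul_right
        (σ.comm r' hr'D d hd)).eq).symm
    exact (mem_centralizer_singleton_iff.1 (this ha)).symm
  · intro e he
    obtain ⟨c, hc, d, hd, rfl⟩ := σ.exists_mul (hE he)
    rw [σ.comm_pair hr'D hd]
    by_cases hcr : c ∈ zpowers σ.d₁.r
    · rw [σ.d₁.rot_comm hr'r hcr, mul_inv_cancel_right, mul_inv_cancel]
      exact one_mem _
    · rw [show r' * c * r'⁻¹ * c⁻¹ = r' * (c * r'⁻¹ * c⁻¹) by group,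
        σ.d₁.refl_inv hc hcr (inv_mem hr'r), inv_inv]
      by_cases h4 : r' * r' * (r' * r') = 1
      · have hm : r' * r' * (ρ * y) ∈ X := by
          refine ⟨mul_mem hr'2 hρy, ?_⟩
          rw [show r' * r' * (ρ * y) * (r' * r' * (ρ * y)) = r' * r' * ρ * y * (r' * r' * ρ * y) by group,
            σ.pair_mul (mul_mem (mul_mem hr'D hr'D) hρD) hy,
            show r' * r' * ρ * (r' * r' * ρ) = r' * r' * (ρ * (r' * r')) * ρ by group,
            σ.d₁.rot_comm hρr (mul_mem hr'r hr'r),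
            show r' * r' * (r' * r' * ρ) * ρ = r' * r' * (r' * r') * (ρ * ρ) by group, h4, one_mul]
          intro h
          exact hρ2 (σ.mul_unique (c' := 1) (d' := 1) (mul_mem hρD hρD) (one_mem _) (mul_mem hy hy)
            (one_mem _) (by rw [h, one_mul])).1
        have hρX : ρ * y ∈ X := ⟨hρy, by
          rw [σ.pair_mul hρD hy]
          intro h
          exact hρ2 (σ.mul_unique (c' := 1) (d' := 1) (mul_mem hρD hρD) (one_mem _) (mul_mem hy hy)
            (one_mem _) (by rw [h, one_mul])).1⟩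
        have := mul_mem (subset_closure hm) (inv_mem (subset_closure hρX))
        rwa [mul_inv_cancel_right] at this
      · exact subset_closure ⟨hr'2, h4⟩

theorem proj₁_isPart (hF : Family σ.P E) : IsPart σ.d₁ (σ.proj₁ E) := by
  have hE := hF.1
  obtain ⟨b, hb, hbr⟩ := σ.exists_refl₁ hF
  have hbD := ((σ.mem_proj₁ hE).1 hb).1
  rcases σ.rot_dichotomy₁ E with hQ | ⟨ρ, hρ, hρr, hρ2, hall⟩
  · exact Or.inr ⟨b, hbD, hbr, (σ.proj₁_four hF hQ hb hbr).1⟩
  by_contra hcon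
  have hle := σ.proj₁_le hF
  have hρE := hle hρ
  have hρD := ((σ.mem_proj₁ hE).1 hρ).1
  have hr : σ.d₁.r ∉ σ.proj₁ E := by
    intro hr
    refine hcon (Or.inl (le_antisymm inf_le_right fun x hx => ?_))
    by_cases hxr : x ∈ zpowers σ.d₁.r
    · exact (zpowers_le.2 hr) hxr
    · have h := mul_mem ((zpowers_le.2 hr) (σ.d₁.refl_mul_refl hx hxr hbD hbr)) hb
      rwa [mul_assoc, σ.d₁.refl_sq hbD hbr, mul_one] at h
  obtain ⟨i, hi⟩ := hρr
  simp only at hi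
  obtain ⟨r', hr'r, hr'2, hr'p⟩ : ∃ r' ∈ zpowers σ.d₁.r, r' * r' = ρ ∧ r' ∉ σ.proj₁ E := by
    rcases Int.even_or_odd i with ⟨j, hj⟩ | hodd
    · refine ⟨σ.d₁.r ^ j, zpow_mem (mem_zpowers _) _, by rw [← zpow_add, ← hj, hi], fun hp => ?_⟩
      obtain ⟨l, hl⟩ := hall _ hp (zpow_mem (mem_zpowers _) _)
      simp only at hl
      rw [← hi, ← zpow_mul, hj] at hl
      have hz : σ.d₁.r ^ (j * (2 * l - 1)) = 1 := by
        rw [show j * (2 * l - 1) = (j + j) * l - j by ring, zpow_sub, hl, mul_inv_cancel]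
      rw [← orderOf_dvd_iff_zpow_eq_one, σ.d₁.order] at hz
      have hj' : ((2 ^ (σ.d₁.k + 1) : ℕ) : ℤ) ∣ j := by
        refine IsCoprime.dvd_of_dvd_mul_right ?_ hz
        push_cast
        exact (show IsCoprime (2 : ℤ) (2 * l - 1) from ⟨l, -1, by ring⟩).pow_left
      rw [← σ.d₁.order, orderOf_dvd_iff_zpow_eq_one] at hj'
      have h1 : ρ = 1 := by rw [← hi, hj, zpow_add, hj', one_mul]
      exact hρ2 (by rw [h1, one_mul])
    · exfalso
      apply hr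
      obtain ⟨u, v, huv⟩ : IsCoprime i ((2 ^ (σ.d₁.k + 1) : ℕ) : ℤ) := by
        obtain ⟨l, rfl⟩ := hodd
        push_cast
        exact (show IsCoprime (2 * l + 1) (2 : ℤ) from ⟨1, -l, by ring⟩).pow_right
      have h := zpow_mem hρ u
      rw [← hi, ← zpow_mul] at h
      have e : σ.d₁.r ^ (i * u) = σ.d₁.r := by
        conv_rhs => rw [← zpow_one σ.d₁.r, ← huv, zpow_add, mul_comm v, zpow_mul _ _ v, ← σ.d₁.order,
          zpow_natCast, pow_orderOf_eq_one, one_zpow, mul_one, mul_comm u]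
      rwa [e] at h
  have hr'D : r' ∈ σ.D₁ := σ.d₁.rot_le hr'r
  have hr'E : r' ∉ E := fun h => hr'p (σ.fst_mem_proj₁ hE hr'D (one_mem _) (by rwa [mul_one]))
  let X : Set G := {e | e ∈ E ∧ e * e ≠ 1 ∧
    ∀ u ∈ E, ∀ v ∈ E, ¬ Commute u e → ¬ Commute v e → Commute (u * v) e}
  have hAE : closure X ≤ E := (closure_le E).2 fun e he => he.1
  have hA : normalizer (E : Set G) ≤ normalizer (closure X : Set G) := by
    rw [le_normalizer_closure_iff]
    rintro g hg e ⟨he, he2, hec⟩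
    refine subset_closure ⟨(mem_normalizer_iff.1 hg e).1 he, fun h => he2 (by
      rwa [show g * e * g⁻¹ * (g * e * g⁻¹) = g * (e * e) * g⁻¹ by group, conj_eq_one_iff] at h), ?_⟩
    intro u hu v hv hu' hv'
    have hcj : ∀ w : G, Commute (g⁻¹ * w * g) e ↔ Commute w (g * e * g⁻¹) := fun w => by
      rw [commute_iff_eq, commute_iff_eq]
      constructor
      · intro h
        have := congrArg (fun x => g * x * g⁻¹) h
        simpa [mul_assoc] using this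
      · intro h
        have := congrArg (fun x => g⁻¹ * x * g) h
        simpa [mul_assoc] using this
    have hmem : ∀ w ∈ E, g⁻¹ * w * g ∈ E := fun w hw => by
      have := (mem_normalizer_iff.1 (inv_mem hg) w).1 hw
      rwa [inv_inv] at this
    have := hec _ (hmem u hu) _ (hmem v hv) (fun h => hu' ((hcj u).1 h)) (fun h => hv' ((hcj v).1 h))
    rw [show g⁻¹ * u * g * (g⁻¹ * v * g) = g⁻¹ * (u * v) * g by group] at this
    exact (hcj _).1 this
  have hρX : ρ ∈ X := by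
    refine ⟨hρE, hρ2, fun u hu v hv hu' hv' => ?_⟩
    obtain ⟨cu, hcu, du, hdu, rfl⟩ := σ.exists_mul (hE hu)
    obtain ⟨cv, hcv, dv, hdv, rfl⟩ := σ.exists_mul (hE hv)
    have hρr' : ρ ∈ zpowers σ.d₁.r := ⟨i, hi⟩
    have hrefl : ∀ c ∈ σ.D₁, ∀ d ∈ σ.D₂, ¬ Commute (c * d) ρ → c ∉ zpowers σ.d₁.r := fun c _ d hd h hcr =>
      h (Commute.mul_left (σ.d₁.rot_comm hcr hρr') (σ.comm ρ hρD d hd).symm)
    rw [σ.pair_mul hcv hdu]
    exact Commute.mul_left (σ.d₁.rot_comm (σ.d₁.refl_mul_refl hcu (hrefl _ hcu _ hdu hu') hcv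
      (hrefl _ hcv _ hdv hv')) hρr') (σ.comm ρ hρD _ (mul_mem hdu hdv)).symm
  refine hr'E (family_mem_of_series hF hAE hA (σ.le₁ hr'D) ?_ ?_)
  · intro a ha
    have : closure X ≤ centralizer ({r'} : Set G) := (closure_le _).2 fun e he => by
      obtain ⟨heE, he2, hec⟩ := he
      obtain ⟨c, hc, d, hd, rfl⟩ := σ.exists_mul (hE heE)
      have hcr : c ∈ zpowers σ.d₁.r := by
        by_contra hcr
        rw [σ.pair_mul hc hd, σ.d₁.refl_sq hc hcr, one_mul] at he2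
        have hdr : d ∈ zpowers σ.d₂.r := by_contra fun h => he2 (σ.d₂.refl_sq hd h)
        obtain ⟨w, hw, hwr⟩ := σ.swap.exists_refl₁ hF
        have hwE : w ∈ E := σ.swap.proj₁_le hF hw
        have hwD : w ∈ σ.D₂ := ((σ.swap.mem_proj₁ hE).1 hw).1
        have h1 : ¬ Commute ρ (c * d) := fun h => hρ2 (by
          have h' : ρ * c = c * ρ := (σ.mul_unique (mul_mem hρD hc) (mul_mem hc hρD) hd hd (by
            rw [mul_assoc ρ, h.eq, mul_assoc c d, ← σ.comm ρ hρD d hd, ← mul_assoc])).1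
          have h'' := σ.d₁.refl_inv hc hcr ⟨i, hi⟩
          rw [← h', mul_inv_cancel_right] at h''
          nth_rewrite 2 [h'']
          rw [mul_inv_cancel])
        have h2 : ¬ Commute w (c * d) := fun h => he2 (by
          have h' : w * d = d * w := (σ.mul_unique hc hc (mul_mem hwD hd) (mul_mem hd hwD) (by
            rw [← mul_assoc, σ.comm c hc w hwD, mul_assoc w c d, h.eq, mul_assoc])).2
          have h'' := σ.d₂.refl_inv hwD hwr hdr
          rw [h', mul_inv_cancel_right] at h''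
          nth_rewrite 2 [h'']
          rw [mul_inv_cancel])
        have h3 := hec ρ hρE w hwE h1 h2
        refine he2 ?_
        have h' : w * d = d * w := (σ.mul_unique (mul_mem hρD hc) (mul_mem hc hρD)
          (mul_mem hwD hd) (mul_mem hd hwD) (by
            rw [← σ.pair_mul hc hwD, h3.eq, σ.pair_mul hρD hd])).2
        have h'' := σ.d₂.refl_inv hwD hwr hdr
        rw [h', mul_inv_cancel_right] at h''
        nth_rewrite 2 [h'']
        rw [mul_inv_cancel]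
      rw [SetLike.mem_coe, mem_centralizer_singleton_iff]
      exact (((show Commute r' c from σ.d₁.rot_comm hr'r hcr).mul_right (σ.comm r' hr'D d hd)).eq).symm
    exact (mem_centralizer_singleton_iff.1 (this ha)).symm
  · intro e he
    obtain ⟨c, hc, d, hd, rfl⟩ := σ.exists_mul (hE he)
    rw [σ.comm_pair hr'D hd]
    by_cases hcr : c ∈ zpowers σ.d₁.r
    · rw [σ.d₁.rot_comm hr'r hcr, mul_inv_cancel_right, mul_inv_cancel]
      exact one_mem _
    · rw [show r' * c * r'⁻¹ * c⁻¹ = r' * (c * r'⁻¹ * c⁻¹) by group,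
        σ.d₁.refl_inv hc hcr (inv_mem hr'r), inv_inv, hr'2]
      exact subset_closure hρX

/-- A member of the family is the product of two parts. -/
theorem member_eq (hF : Family σ.P E) :
    ∃ V W, IsPart σ.d₁ V ∧ IsPart σ.d₂ W ∧ E = V ⊔ W := by
  refine ⟨σ.proj₁ E, σ.swap.proj₁ E, σ.proj₁_isPart hF, σ.swap.proj₁_isPart hF,
    le_antisymm (fun e he => ?_) (sup_le (σ.proj₁_le hF) (σ.swap.proj₁_le hF))⟩
  obtain ⟨c, hc, d, hd, rfl⟩ := σ.exists_mul (hF.1 he)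
  exact mul_mem (mem_sup_left (σ.fst_mem_proj₁ hF.1 hc hd he))
    (mem_sup_right (σ.snd_mem_proj₂ hF.1 hc hd he))

end Setting

end CfsgLib.DihProduct
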