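import Cfsg.Agent.Lib.DihProduct.Setting

/-!
Elements of odd order normalising a product of two dihedral groups.
-/

set_option autoImplicit false
set_option linter.unusedSectionVars false

namespace CfsgLib.DihProduct

open Subgroup

variable {G : Type*} [Group G] [Finite G]

local instance : Fact (Nat.Prime 2) := ⟨Nat.prime_two⟩

theorem mem_of_pow_mem_coprime {Z : Subgroup G} {c : G} {a b : ℕ} (hab : a.Coprime b) (ha : c ^ a ∈ Z)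
    (hb : c ^ b ∈ Z) : c ∈ Z := by
  have h := Nat.gcd_eq_gcd_ab a b
  rw [hab.gcd_eq_one, Nat.cast_one] at h
  have := mul_mem (zpow_mem ha (a.gcdA b)) (zpow_mem hb (a.gcdB b))
  rwa [← zpow_natCast, ← zpow_mul, ← zpow_natCast, ← zpow_mul, ← zpow_add, ← h, zpow_one] at this

/-- The displacement of an element by `n` of odd order, fixed modulo `Z`, lies in `Z`. -/
theorem odd_mod {Z : Subgroup G} {n x c : G} (hn : ¬ 2 ∣ orderOf n) (hZ : n ∈ normalizer (Z : Set G))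
    (hc : ∀ ζ ∈ Z, c * ζ = ζ * c) (hx : n * x * n⁻¹ = x * c) (hnc : c⁻¹ * (n * c * n⁻¹) ∈ Z)
    {m : ℕ} (h2 : c ^ 2 ^ m ∈ Z) : c ∈ Z := by
  have key : ∀ j : ℕ, (c ^ j)⁻¹ * (x⁻¹ * (n ^ j * x * (n ^ j)⁻¹)) ∈ Z := by
    intro j
    induction j with
    | zero => simp
    | succ j ih =>
      set ζ := (c ^ j)⁻¹ * (x⁻¹ * (n ^ j * x * (n ^ j)⁻¹)) with hζ
      set ζ₀ := c⁻¹ * (n * c * n⁻¹) with hζ₀
      have e1 : n ^ j * x * (n ^ j)⁻¹ = x * (c ^ j * ζ) := by rw [hζ]; group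
      have e2 : n * c * n⁻¹ = c * ζ₀ := by rw [hζ₀]; group
      have e3 : n * c ^ j * n⁻¹ = c ^ j * ζ₀ ^ j := by
        rw [← conj_pow, e2, (show Commute c ζ₀ from hc _ hnc).mul_pow]
      have e4 : n ^ (j + 1) * x * (n ^ (j + 1))⁻¹ = x * (c ^ (j + 1) * (ζ₀ ^ j * (n * ζ * n⁻¹))) := by
        rw [pow_succ' n, show n * n ^ j * x * (n * n ^ j)⁻¹ = n * (n ^ j * x * (n ^ j)⁻¹) * n⁻¹ by group, e1,
          show n * (x * (c ^ j * ζ)) * n⁻¹ = (n * x * n⁻¹) * (n * c ^ j * n⁻¹) * (n * ζ * n⁻¹) by group,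
          hx, e3, pow_succ' c]
        group
      rw [e4, inv_mul_cancel_left, inv_mul_cancel_left]
      exact mul_mem (pow_mem hnc j) ((mem_normalizer_iff.1 hZ ζ).1 ih)
  have h1 := key (orderOf n)
  rw [pow_orderOf_eq_one, one_mul, inv_one, mul_one, inv_mul_cancel, mul_one, inv_mem_iff] at h1
  exact mem_of_pow_mem_coprime
    ((Nat.prime_two.coprime_iff_not_dvd.2 hn).symm.pow_right m) h1 h2

/-- An element of odd order fixing the displacement fixes the element. -/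
theorem odd_fix {n x c : G} (hn : ¬ 2 ∣ orderOf n) (hx : n * x * n⁻¹ = x * c) (hnc : n * c * n⁻¹ = c)
    {m : ℕ} (h2 : c ^ 2 ^ m = 1) : n * x * n⁻¹ = x := by
  have h := odd_mod (Z := ⊥) hn (mem_normalizer_of_conj_mem fun e he => by
      rw [mem_bot] at he ⊢; rw [he, mul_one, mul_inv_cancel])
    (fun ζ hζ => by rw [mem_bot.1 hζ, mul_one, one_mul]) hx (by rw [hnc, inv_mul_cancel]; exact one_mem _)
    (m := m) (mem_bot.2 h2)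
  rw [hx, mem_bot.1 h, mul_one]

/-- An element of odd order commutes with what its square commutes with. -/
theorem commute_of_sq {M : Type*} [Group M] {n z : M} (hn : ¬ 2 ∣ orderOf n)
    (h : Commute (n * n) z) : Commute n z := by
  obtain ⟨l, hl⟩ : Odd (orderOf n) := Nat.not_even_iff_odd.1 fun e => hn (even_iff_two_dvd.1 e)
  have e : n = (n * n) ^ (l + 1) := by
    rw [← pow_two, ← pow_mul, show 2 * (l + 1) = orderOf n + 1 by omega, pow_succ, pow_orderOf_eq_one,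
      one_mul]
  rw [e]
  exact h.pow_left _

theorem fix_of_sq_fix {n z : G} (hn : ¬ 2 ∣ orderOf n) (h : n * (n * z * n⁻¹) * n⁻¹ = z) :
    n * z * n⁻¹ = z := by
  rw [show n * (n * z * n⁻¹) * n⁻¹ = (n * n) * z * (n * n)⁻¹ by group, mul_inv_eq_iff_eq_mul] at h
  exact mul_inv_eq_iff_eq_mul.2 (commute_of_sq hn h).eq

/-- An element of odd order normalising a cyclic 2-group centralises it. -/
theorem fix_cyclic {n : G} (hn : ¬ 2 ∣ orderOf n) : ∀ (m : ℕ) {y : G}, y ^ 2 ^ m = 1 →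
    n * y * n⁻¹ ∈ zpowers y → n * y * n⁻¹ = y
  | 0, y, hy, _ => by rw [pow_zero, pow_one] at hy; rw [hy, mul_one, mul_inv_cancel]
  | m + 1, y, hy, ⟨i, hi⟩ => by
    simp only at hi
    have hy2 : n * (y * y) * n⁻¹ = y * y := fix_cyclic hn m
      (by rw [← pow_two, ← pow_mul, ← pow_succ']; exact hy)
      ⟨i, by simp only; rw [show n * (y * y) * n⁻¹ = (n * y * n⁻¹) * (n * y * n⁻¹) by group, ← hi,
        (Commute.refl y).mul_zpow]⟩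
    have hfix : ∀ l : ℤ, n * (y * y) ^ l * n⁻¹ = (y * y) ^ l := fun l => by rw [← conj_zpow, hy2]
    rcases Int.even_or_odd i with ⟨l, rfl⟩ | ⟨l, rfl⟩
    · have e : y ^ (l + l) = (y * y) ^ l := by rw [(Commute.refl y).mul_zpow, ← zpow_add]
      rw [e] at hi
      have h := hfix l
      nth_rewrite 1 [hi] at h
      rw [hi] at h
      exact mul_left_cancel (mul_right_cancel h)
    · have e : y ^ (2 * l + 1) = y * (y * y) ^ l := by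
        rw [(Commute.refl y).mul_zpow, ← zpow_add, ← two_mul, ← zpow_one_add, add_comm]
      rw [e] at hi
      refine odd_fix hn hi.symm (hfix l) (m := 1) ?_
      have h2 : n * y * n⁻¹ * (n * y * n⁻¹) = y * y := by
        rw [show n * y * n⁻¹ * (n * y * n⁻¹) = n * (y * y) * n⁻¹ by group, hy2]
      rw [← hi, show y * (y * y) ^ l * (y * (y * y) ^ l) = y * y * ((y * y) ^ l * (y * y) ^ l) by
        rw [(Commute.refl y).mul_zpow]; group] at h2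
      rw [pow_one, pow_two]
      exact mul_eq_left.1 h2

namespace Setting

variable (σ : Setting G) {n : G}

/-- The centre of `P`. -/
def Z : Subgroup G := (σ.P : Subgroup G) ⊓ centralizer ((σ.P : Subgroup G) : Set G)

theorem Z_le : σ.Z ≤ (σ.P : Subgroup G) := inf_le_left

theorem Z_comm {x y : G} (hx : x ∈ σ.Z) (hy : y ∈ (σ.P : Subgroup G)) : x * y = y * x :=
  (mem_centralizer_iff.1 hx.2 y hy).symm

theorem Z_swap : σ.swap.Z = σ.Z := rfl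

theorem mem_Z {x : G} (hx : x ∈ (σ.P : Subgroup G)) (h₁ : ∀ y ∈ σ.D₁, x * y = y * x)
    (h₂ : ∀ y ∈ σ.D₂, x * y = y * x) : x ∈ σ.Z := by
  refine ⟨hx, mem_centralizer_iff.2 fun y hy => ?_⟩
  obtain ⟨c, hc, d, hd, rfl⟩ := σ.exists_mul hy
  exact ((show Commute x c from h₁ c hc).mul_right (h₂ d hd)).eq.symm

theorem z₁_mem_Z : σ.d₁.z ∈ σ.Z :=
  σ.mem_Z (σ.le₁ σ.d₁.z_mem) (fun _ hy => (σ.d₁.z_central hy).symm) (fun y hy => σ.comm _ σ.d₁.z_mem y hy)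

theorem D₂_le_Z (hk : σ.d₂.k = 0) : σ.D₂ ≤ σ.Z := fun x hx =>
  σ.mem_Z (σ.le₂ hx) (fun y hy => (σ.comm y hy x hx).symm) (fun _ hy => σ.d₂.comm_of_four hk hx hy)

theorem fst_central {c d : G} (hd : d ∈ σ.D₂) (h : c * d ∈ σ.Z) {y : G} (hy : y ∈ σ.D₁) :
    c * y = y * c := by
  have h1 := σ.Z_comm h (σ.le₁ hy)
  rw [mul_assoc, ← σ.comm y hy d hd, ← mul_assoc, ← mul_assoc] at h1
  exact mul_right_cancel h1

theorem Z_mem_normalizer (hn : n ∈ normalizer ((σ.P : Subgroup G) : Set G)) :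
    n ∈ normalizer (σ.Z : Set G) :=
  Techniques.mem_normalizer_inf hn (Techniques.normalizer_le_normalizer_centralizer _ hn)

theorem pow_two_pow_eq_one {x : G} (hx : x ∈ (σ.P : Subgroup G)) : ∃ m : ℕ, x ^ 2 ^ m = 1 := by
  obtain ⟨m, hm⟩ := σ.P.isPGroup' ⟨x, hx⟩
  exact ⟨m, congrArg Subtype.val hm⟩

/-- At most two conjugates under `P`. -/
def Small (x : G) : Prop :=
  ∀ s ∈ (σ.P : Subgroup G), ∀ s' ∈ (σ.P : Subgroup G),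
    s * x * s⁻¹ = x ∨ s' * x * s'⁻¹ = x ∨ s * x * s⁻¹ = s' * x * s'⁻¹

theorem small_of_rot {x : G} (hx : x ∈ zpowers σ.d₁.r) : σ.Small x := by
  have hc : ∀ s ∈ (σ.P : Subgroup G), s * x * s⁻¹ = x ∨ s * x * s⁻¹ = x⁻¹ := by
    intro s hs
    obtain ⟨c, hc, d, hd, rfl⟩ := σ.exists_mul hs
    rw [show c * d * x * (c * d)⁻¹ = c * (d * x * d⁻¹) * c⁻¹ by group,
      ← σ.comm x (σ.d₁.rot_le hx) d hd, mul_inv_cancel_right]
    by_cases hcr : c ∈ zpowers σ.d₁.r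
    · left; rw [σ.d₁.rot_comm hcr hx, mul_inv_cancel_right]
    · exact Or.inr (σ.d₁.refl_inv hc hcr hx)
  intro s hs s' hs'
  rcases hc s hs with h | h
  · exact Or.inl h
  · rcases hc s' hs' with h' | h'
    · exact Or.inr (Or.inl h')
    · exact Or.inr (Or.inr (h.trans h'.symm))

theorem small_conj (hn : n ∈ normalizer ((σ.P : Subgroup G) : Set G)) {x : G} (hx : σ.Small x) :
    σ.Small (n * x * n⁻¹) := by
  intro s hs s' hs'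
  have e : ∀ u, u * (n * x * n⁻¹) * u⁻¹ = n * ((n⁻¹ * u * n) * x * (n⁻¹ * u * n)⁻¹) * n⁻¹ := fun u => by
    group
  have hm : ∀ u ∈ (σ.P : Subgroup G), n⁻¹ * u * n ∈ (σ.P : Subgroup G) := fun u hu => by
    simpa using (mem_normalizer_iff.1 (inv_mem hn) u).1 hu
  rw [e s, e s']
  rcases hx _ (hm s hs) _ (hm s' hs') with h | h | h
  · exact Or.inl (by rw [h])
  · exact Or.inr (Or.inl (by rw [h]))
  · exact Or.inr (Or.inr (by rw [h]))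

theorem small_cases (hk₁ : 1 ≤ σ.d₁.k) (hk₂ : 1 ≤ σ.d₂.k) {c d : G} (hc : c ∈ σ.D₁) (hd : d ∈ σ.D₂)
    (hs : σ.Small (c * d)) (h2 : c * d * (c * d) ≠ 1) :
    (c ∈ zpowers σ.d₁.r ∧ c * c ≠ 1 ∧ (d = 1 ∨ d = σ.d₂.z)) ∨
      ((c = 1 ∨ c = σ.d₁.z) ∧ d ∈ zpowers σ.d₂.r ∧ d * d ≠ 1) := by
  rw [σ.pair_mul hc hd] at h2
  have hor : (∀ y ∈ σ.D₁, c * y = y * c) ∨ (∀ y ∈ σ.D₂, d * y = y * d) := by
    by_contra hno
    push Not at hno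
    obtain ⟨⟨u, hu, hcu⟩, ⟨v, hv, hdv⟩⟩ := hno
    have e1 : u * (c * d) * u⁻¹ = u * c * u⁻¹ * d := by
      rw [show u * (c * d) * u⁻¹ = u * c * (d * u⁻¹) by group, ← σ.comm _ (inv_mem hu) d hd]; group
    have e2 : v * (c * d) * v⁻¹ = c * (v * d * v⁻¹) := by
      rw [← mul_assoc v, ← σ.comm c hc v hv]; group
    rcases hs u (σ.le₁ hu) v (σ.le₂ hv) with h | h | h
    · rw [e1] at h
      exact hcu (mul_inv_eq_iff_eq_mul.1 (mul_right_cancel h)).symm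
    · rw [e2] at h
      exact hdv (mul_inv_eq_iff_eq_mul.1 (mul_left_cancel h)).symm
    · rw [e1, e2] at h
      exact hcu (mul_inv_eq_iff_eq_mul.1 (σ.mul_unique (mul_mem (mul_mem hu hc) (inv_mem hu)) hc hd
        (mul_mem (mul_mem hv hd) (inv_mem hv)) h).1).symm
  rcases hor with h | h
  · have hc' := σ.d₁.central_cases hk₁ hc h
    have hcc : c * c = 1 := by
      rcases hc' with rfl | rfl
      · exact mul_one _
      · exact σ.d₁.z_sq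
    rw [hcc, one_mul] at h2
    exact Or.inr ⟨hc', by_contra fun hr => h2 (σ.d₂.refl_sq hd hr), h2⟩
  · have hd' := σ.d₂.central_cases hk₂ hd h
    have hdd : d * d = 1 := by
      rcases hd' with rfl | rfl
      · exact mul_one _
      · exact σ.d₂.z_sq
    rw [hdd, mul_one] at h2
    exact Or.inl ⟨by_contra fun hr => h2 (σ.d₁.refl_sq hc hr), h2, hd'⟩

theorem z_ne : σ.d₁.z ≠ σ.d₂.z := fun e => σ.d₁.z_ne_one (by
  have h : σ.d₁.z ∈ σ.D₁ ⊓ σ.D₂ := ⟨σ.d₁.z_mem, e ▸ σ.d₂.z_mem⟩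
  rwa [σ.disj, mem_bot] at h)

theorem conj_z₁_cases (hn : n ∈ normalizer ((σ.P : Subgroup G) : Set G)) (hk₁ : 1 ≤ σ.d₁.k)
    (hk₂ : 1 ≤ σ.d₂.k) : n * σ.d₁.z * n⁻¹ = σ.d₁.z ∨ n * σ.d₁.z * n⁻¹ = σ.d₂.z := by
  have hm := (mem_normalizer_iff.1 hn σ.d₁.t).1 (σ.le₁ σ.d₁.t_mem)
  obtain ⟨c, hc, d, hd, e⟩ := σ.exists_mul hm
  have hz : n * σ.d₁.z * n⁻¹ = c * c * (d * d) := by
    rw [← σ.pair_mul hc hd, ← e, ← σ.d₁.t_sq hk₁]; group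
  have hsq : n * σ.d₁.z * n⁻¹ * (n * σ.d₁.z * n⁻¹) = 1 := by
    rw [show n * σ.d₁.z * n⁻¹ * (n * σ.d₁.z * n⁻¹) = n * (σ.d₁.z * σ.d₁.z) * n⁻¹ by group, σ.d₁.z_sq,
      mul_one, mul_inv_cancel]
  have h2 : c * d * (c * d) ≠ 1 := by
    rw [σ.pair_mul hc hd, ← hz, Ne, conj_eq_one_iff]; exact σ.d₁.z_ne_one
  rcases σ.small_cases hk₁ hk₂ hc hd (e ▸ σ.small_conj hn (σ.small_of_rot σ.d₁.t_rot)) h2 with
    ⟨hcr, hc2, hd'⟩ | ⟨hc', hdr, hd2⟩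
  · left
    have hdd : d * d = 1 := by
      rcases hd' with rfl | rfl
      · exact mul_one _
      · exact σ.d₂.z_sq
    rw [hdd, mul_one] at hz
    rw [hz] at hsq ⊢
    exact (σ.d₁.rot_sq_eq_one (mul_mem hcr hcr) hsq).resolve_left hc2
  · right
    have hcc : c * c = 1 := by
      rcases hc' with rfl | rfl
      · exact mul_one _
      · exact σ.d₁.z_sq
    rw [hcc, one_mul] at hz
    rw [hz] at hsq ⊢
    exact (σ.d₂.rot_sq_eq_one (mul_mem hdr hdr) hsq).resolve_left hd2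

theorem odd_fix_z₁ (hn : n ∈ normalizer ((σ.P : Subgroup G) : Set G)) (ho : ¬ 2 ∣ orderOf n)
    (hk₁ : 1 ≤ σ.d₁.k) (hk₂ : 1 ≤ σ.d₂.k) : n * σ.d₁.z * n⁻¹ = σ.d₁.z := by
  rcases σ.conj_z₁_cases hn hk₁ hk₂ with h | h
  · exact h
  refine fix_of_sq_fix ho ?_
  rw [h]
  refine ((σ.swap.conj_z₁_cases hn hk₂ hk₁)).resolve_left fun h' => σ.z_ne ?_
  exact mul_left_cancel (mul_right_cancel (h.trans h'.symm))

theorem odd_fix_r₁ (hn : n ∈ normalizer ((σ.P : Subgroup G) : Set G)) (ho : ¬ 2 ∣ orderOf n)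
    (hk₁ : 1 ≤ σ.d₁.k) (hk₂ : 1 ≤ σ.d₂.k) : n * σ.d₁.r * n⁻¹ = σ.d₁.r := by
  obtain ⟨c, hc, d, hd, e⟩ := σ.exists_mul ((mem_normalizer_iff.1 hn σ.d₁.r).1 (σ.le₁ σ.d₁.r_mem))
  have h2 : c * d * (c * d) ≠ 1 := by
    rw [← e, show n * σ.d₁.r * n⁻¹ * (n * σ.d₁.r * n⁻¹) = n * (σ.d₁.r * σ.d₁.r) * n⁻¹ by group, Ne,
      conj_eq_one_iff]
    exact σ.d₁.r_sq_ne_one hk₁
  obtain ⟨hcr, -, hd'⟩ := (σ.small_cases hk₁ hk₂ hc hd
    (e ▸ σ.small_conj hn (σ.small_of_rot (mem_zpowers _))) h2).resolve_right (by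
    rintro ⟨hc', -, -⟩
    have hpow : n * σ.d₁.z * n⁻¹ = c ^ 2 ^ σ.d₁.k * d ^ 2 ^ σ.d₁.k := by
      rw [Dih.z, ← conj_pow, e, (show Commute c d from σ.comm c hc d hd).mul_pow]
    have hc1 : c ^ 2 ^ σ.d₁.k = 1 := by
      rw [← Nat.sub_add_cancel hk₁, pow_succ', pow_mul]
      rcases hc' with rfl | rfl
      · rw [one_pow, one_pow]
      · rw [pow_two, σ.d₁.z_sq, one_pow]
    rw [σ.odd_fix_z₁ hn ho hk₁ hk₂, hc1, one_mul] at hpow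
    have h3 : σ.d₁.z ∈ σ.D₁ ⊓ σ.D₂ := ⟨σ.d₁.z_mem, hpow ▸ pow_mem hd _⟩
    rw [σ.disj, mem_bot] at h3
    exact σ.d₁.z_ne_one h3)
  have hdd : d * d = 1 := by
    rcases hd' with rfl | rfl
    · exact mul_one _
    · exact σ.d₂.z_sq
  obtain ⟨i, rfl⟩ := hcr
  simp only at e h2 hc ⊢
  have h22 : n * (σ.d₁.r * σ.d₁.r) * n⁻¹ = σ.d₁.r ^ i * σ.d₁.r ^ i := by
    rw [show n * (σ.d₁.r * σ.d₁.r) * n⁻¹ = (n * σ.d₁.r * n⁻¹) * (n * σ.d₁.r * n⁻¹) by group, e,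
      σ.pair_mul hc hd, hdd, mul_one]
  have hr2 : n * (σ.d₁.r * σ.d₁.r) * n⁻¹ = σ.d₁.r * σ.d₁.r := by
    refine fix_cyclic ho σ.d₁.k ?_ ⟨i, ?_⟩
    · rw [← pow_two, ← pow_mul, ← pow_succ', ← σ.d₁.order, pow_orderOf_eq_one]
    · simp only
      rw [h22, (Commute.refl σ.d₁.r).mul_zpow]
  rw [hr2] at h22
  set ρ := σ.d₁.r⁻¹ * σ.d₁.r ^ i with hρ
  have hρr : ρ ∈ zpowers σ.d₁.r := mul_mem (inv_mem (mem_zpowers _)) (zpow_mem (mem_zpowers _) i)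
  have hρD : ρ ∈ σ.D₁ := σ.d₁.rot_le hρr
  have hρ2 : ρ * ρ = 1 := by
    rw [hρ, show σ.d₁.r⁻¹ * σ.d₁.r ^ i * (σ.d₁.r⁻¹ * σ.d₁.r ^ i) = (σ.d₁.r * σ.d₁.r)⁻¹ * (σ.d₁.r ^ i * σ.d₁.r ^ i)
      by group, ← h22, inv_mul_cancel]
  refine odd_fix ho (c := ρ * d) (by rw [e, hρ]; group) ?_ (m := 1) ?_
  · have h1 : n * ρ * n⁻¹ = ρ := by
      rcases σ.d₁.rot_sq_eq_one hρr hρ2 with h | h <;> rw [h]
      · rw [mul_one, mul_inv_cancel]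
      · exact σ.odd_fix_z₁ hn ho hk₁ hk₂
    have h2 : n * d * n⁻¹ = d := by
      rcases hd' with rfl | rfl
      · rw [mul_one, mul_inv_cancel]
      · exact σ.swap.odd_fix_z₁ hn ho hk₂ hk₁
    rw [show n * (ρ * d) * n⁻¹ = (n * ρ * n⁻¹) * (n * d * n⁻¹) by group, h1, h2]
  · rw [pow_one, pow_two, σ.pair_mul hρD hd, hρ2, hdd, mul_one]

/-- Both factors of order at least 8: the odd part of `N(P)` centralises `P`. -/
theorem odd_centralizes (hn : n ∈ normalizer ((σ.P : Subgroup G) : Set G)) (ho : ¬ 2 ∣ orderOf n)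
    (hk₁ : 1 ≤ σ.d₁.k) (hk₂ : 1 ≤ σ.d₂.k) {x : G} (hx : x ∈ (σ.P : Subgroup G)) : n * x * n⁻¹ = x := by
  have f₁ := σ.odd_fix_r₁ hn ho hk₁ hk₂
  have f₂ : n * σ.d₂.r * n⁻¹ = σ.d₂.r := σ.swap.odd_fix_r₁ hn ho hk₂ hk₁
  have hz : ∀ (r : G), n * r * n⁻¹ = r → ∀ y ∈ zpowers r, n * y * n⁻¹ = y := by
    rintro r hr _ ⟨i, rfl⟩
    simp only
    rw [← conj_zpow, hr]
  obtain ⟨w, hw, hwc⟩ : ∃ w, w = x⁻¹ * (n * x * n⁻¹) ∧ n * x * n⁻¹ = x * w :=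
    ⟨_, rfl, (mul_inv_cancel_left _ _).symm⟩
  have hwP : w ∈ (σ.P : Subgroup G) := hw ▸ mul_mem (inv_mem hx) ((mem_normalizer_iff.1 hn x).1 hx)
  have hcomm : ∀ r ∈ (σ.P : Subgroup G), n * r * n⁻¹ = r → n * (x * r * x⁻¹) * n⁻¹ = x * r * x⁻¹ →
      w * r = r * w := by
    intro r _ h h'
    rw [show n * (x * r * x⁻¹) * n⁻¹ = (n * x * n⁻¹) * (n * r * n⁻¹) * (n * x * n⁻¹)⁻¹ by group, h, hwc,
      show x * w * r * (x * w)⁻¹ = x * (w * r * w⁻¹) * x⁻¹ by group] at h'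
    exact mul_inv_eq_iff_eq_mul.1 (mul_left_cancel (mul_right_cancel h'))
  obtain ⟨a, ha, b, hb, rfl⟩ := σ.exists_mul hx
  have e₁ : a * b * σ.d₁.r * (a * b)⁻¹ = a * σ.d₁.r * a⁻¹ := by
    rw [show a * b * σ.d₁.r * (a * b)⁻¹ = a * (b * σ.d₁.r * b⁻¹) * a⁻¹ by group,
      ← σ.comm _ σ.d₁.r_mem b hb, mul_inv_cancel_right]
  have e₂ : a * b * σ.d₂.r * (a * b)⁻¹ = b * σ.d₂.r * b⁻¹ := by
    rw [show a * b * σ.d₂.r * (a * b)⁻¹ = a * (b * σ.d₂.r * b⁻¹) * a⁻¹ by group,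
      σ.comm a ha _ (mul_mem (mul_mem hb σ.d₂.r_mem) (inv_mem hb)), mul_inv_cancel_right]
  have h₁ := hcomm _ (σ.le₁ σ.d₁.r_mem) f₁
    (by rw [e₁]; exact hz _ f₁ _ (σ.d₁.conj_rot_mem ha (mem_zpowers _)))
  have h₂ := hcomm _ (σ.le₂ σ.d₂.r_mem) f₂
    (by rw [e₂]; exact hz _ f₂ _ (σ.d₂.conj_rot_mem hb (mem_zpowers _)))
  obtain ⟨p, hp, q, hq, rfl⟩ := σ.exists_mul hwP
  have hpr : p ∈ zpowers σ.d₁.r := by
    by_contra hpr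
    refine σ.d₁.r_sq_ne_one hk₁ ?_
    have h := σ.d₁.refl_inv hp hpr (mem_zpowers σ.d₁.r)
    rw [mul_assoc, ← σ.comm _ σ.d₁.r_mem q hq, ← mul_assoc, ← mul_assoc] at h₁
    rw [mul_right_cancel h₁, mul_inv_cancel_right] at h
    nth_rewrite 2 [h]
    rw [mul_inv_cancel]
  have hqr : q ∈ zpowers σ.d₂.r := by
    by_contra hqr
    refine σ.d₂.r_sq_ne_one hk₂ ?_
    have h := σ.d₂.refl_inv hq hqr (mem_zpowers σ.d₂.r)
    rw [← mul_assoc, ← σ.comm p hp _ σ.d₂.r_mem, mul_assoc, mul_assoc] at h₂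
    rw [mul_left_cancel h₂, mul_inv_cancel_right] at h
    nth_rewrite 2 [h]
    rw [mul_inv_cancel]
  obtain ⟨m, hm⟩ := σ.pow_two_pow_eq_one hwP
  refine odd_fix ho hwc ?_ hm
  rw [show n * (p * q) * n⁻¹ = (n * p * n⁻¹) * (n * q * n⁻¹) by group, hz _ f₁ p hpr, hz _ f₂ q hqr]

theorem Z_sq (hk₁ : 1 ≤ σ.d₁.k) (hk₂ : σ.d₂.k = 0) {x : G} (hx : x ∈ σ.Z) : x * x = 1 := by
  obtain ⟨c, hc, d, hd, rfl⟩ := σ.exists_mul (σ.Z_le hx)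
  rw [σ.pair_mul hc hd, σ.d₂.sq_eq_one_of_four hk₂ hd, mul_one]
  rcases σ.d₁.central_cases hk₁ hc (fun y hy => σ.fst_central hd hx hy) with rfl | rfl
  · exact mul_one _
  · exact σ.d₁.z_sq

/-- A four-group factor: `r₁ ^ 2` is fixed. -/
theorem odd_fix_r₁_sq (hn : n ∈ normalizer ((σ.P : Subgroup G) : Set G)) (ho : ¬ 2 ∣ orderOf n)
    (hk₁ : 1 ≤ σ.d₁.k) (hk₂ : σ.d₂.k = 0) :
    n * (σ.d₁.r * σ.d₁.r) * n⁻¹ = σ.d₁.r * σ.d₁.r := by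
  obtain ⟨c, hc, d, hd, e⟩ := σ.exists_mul ((mem_normalizer_iff.1 hn σ.d₁.r).1 (σ.le₁ σ.d₁.r_mem))
  have hz : n * (σ.d₁.r * σ.d₁.r) * n⁻¹ = c * c := by
    rw [show n * (σ.d₁.r * σ.d₁.r) * n⁻¹ = (n * σ.d₁.r * n⁻¹) * (n * σ.d₁.r * n⁻¹) by group, e,
      σ.pair_mul hc hd, σ.d₂.sq_eq_one_of_four hk₂ hd, mul_one]
  have hcr : c ∈ zpowers σ.d₁.r := by
    by_contra hcr
    rw [σ.d₁.refl_sq hc hcr, conj_eq_one_iff] at hz
    exact σ.d₁.r_sq_ne_one hk₁ hz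
  obtain ⟨i, rfl⟩ := hcr
  simp only at hz
  refine fix_cyclic ho σ.d₁.k ?_ ⟨i, ?_⟩
  · rw [← pow_two, ← pow_mul, ← pow_succ', ← σ.d₁.order, pow_orderOf_eq_one]
  · simp only
    rw [hz, (Commute.refl σ.d₁.r).mul_zpow]

theorem odd_fix_z₁' (hn : n ∈ normalizer ((σ.P : Subgroup G) : Set G)) (ho : ¬ 2 ∣ orderOf n)
    (hk₁ : 1 ≤ σ.d₁.k) (hk₂ : σ.d₂.k = 0) : n * σ.d₁.z * n⁻¹ = σ.d₁.z := by
  obtain ⟨i, hi⟩ := σ.d₁.z_mem_sq hk₁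
  simp only at hi
  rw [← hi, ← conj_zpow, σ.odd_fix_r₁_sq hn ho hk₁ hk₂]

/-- A four-group factor: `N(P)` acts trivially on `P / Z(P)` through its odd part. -/
theorem odd_mod_Z (hn : n ∈ normalizer ((σ.P : Subgroup G) : Set G)) (ho : ¬ 2 ∣ orderOf n)
    (hk₁ : 1 ≤ σ.d₁.k) (hk₂ : σ.d₂.k = 0) {x : G} (hx : x ∈ (σ.P : Subgroup G)) :
    x⁻¹ * (n * x * n⁻¹) ∈ σ.Z := by
  have hNZ := σ.Z_mem_normalizer hn
  have hmulZ : ∀ u ∈ (σ.P : Subgroup G), ∀ v ∈ (σ.P : Subgroup G), u⁻¹ * (n * u * n⁻¹) ∈ σ.Z →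
      v⁻¹ * (n * v * n⁻¹) ∈ σ.Z → (u * v)⁻¹ * (n * (u * v) * n⁻¹) ∈ σ.Z := by
    intro u _ v hv hu' hv'
    rw [show (u * v)⁻¹ * (n * (u * v) * n⁻¹) =
      v⁻¹ * (u⁻¹ * (n * u * n⁻¹)) * (n * v * n⁻¹) by group, ← σ.Z_comm hu' (inv_mem hv), mul_assoc]
    exact mul_mem hu' hv'
  have hD₂ : ∀ d ∈ σ.D₂, d⁻¹ * (n * d * n⁻¹) ∈ σ.Z := fun d hd =>
    mul_mem (inv_mem (σ.D₂_le_Z hk₂ hd)) ((mem_normalizer_iff.1 hNZ d).1 (σ.D₂_le_Z hk₂ hd))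
  -- the rotations
  have hr : σ.d₁.r⁻¹ * (n * σ.d₁.r * n⁻¹) ∈ σ.Z := by
    obtain ⟨c, hc, d, hd, e⟩ := σ.exists_mul ((mem_normalizer_iff.1 hn σ.d₁.r).1 (σ.le₁ σ.d₁.r_mem))
    have hz : c * c = σ.d₁.r * σ.d₁.r := by
      rw [← σ.odd_fix_r₁_sq hn ho hk₁ hk₂,
        show n * (σ.d₁.r * σ.d₁.r) * n⁻¹ = (n * σ.d₁.r * n⁻¹) * (n * σ.d₁.r * n⁻¹) by group, e,
        σ.pair_mul hc hd, σ.d₂.sq_eq_one_of_four hk₂ hd, mul_one]
    have hcr : c ∈ zpowers σ.d₁.r := by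
      by_contra hcr
      rw [σ.d₁.refl_sq hc hcr] at hz
      exact σ.d₁.r_sq_ne_one hk₁ hz.symm
    have hs : σ.d₁.r⁻¹ * c * (σ.d₁.r⁻¹ * c) = 1 := by
      rw [show σ.d₁.r⁻¹ * c * (σ.d₁.r⁻¹ * c) = σ.d₁.r⁻¹ * (c * σ.d₁.r⁻¹) * c by group,
        σ.d₁.rot_comm hcr (inv_mem (mem_zpowers _)),
        show σ.d₁.r⁻¹ * (σ.d₁.r⁻¹ * c) * c = (σ.d₁.r * σ.d₁.r)⁻¹ * (c * c) by group, hz, inv_mul_cancel]
    rw [e, ← mul_assoc]
    refine mul_mem ?_ (σ.D₂_le_Z hk₂ hd)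
    rcases σ.d₁.rot_sq_eq_one (mul_mem (inv_mem (mem_zpowers _)) hcr) hs with h | h <;> rw [h]
    · exact one_mem _
    · exact σ.z₁_mem_Z
  have hrot : ∀ y ∈ zpowers σ.d₁.r, y⁻¹ * (n * y * n⁻¹) ∈ σ.Z := by
    rintro _ ⟨i, rfl⟩
    simp only
    set ζ := σ.d₁.r⁻¹ * (n * σ.d₁.r * n⁻¹) with hζ
    rw [← conj_zpow, show n * σ.d₁.r * n⁻¹ = σ.d₁.r * ζ by rw [hζ]; group,
      (show Commute σ.d₁.r ζ from (σ.Z_comm hr (σ.le₁ σ.d₁.r_mem)).symm).mul_zpow, inv_mul_cancel_left]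
    exact zpow_mem hr i
  -- the reflection
  have ha : σ.d₁.a⁻¹ * (n * σ.d₁.a * n⁻¹) ∈ σ.Z := by
    have haP := σ.le₁ σ.d₁.a_mem
    obtain ⟨w, hw, hwc⟩ : ∃ w, w = σ.d₁.a⁻¹ * (n * σ.d₁.a * n⁻¹) ∧ n * σ.d₁.a * n⁻¹ = σ.d₁.a * w :=
      ⟨_, rfl, (mul_inv_cancel_left _ _).symm⟩
    rw [← hw]
    have hwP : w ∈ (σ.P : Subgroup G) :=
      hw ▸ mul_mem (inv_mem haP) ((mem_normalizer_iff.1 hn _).1 haP)
    set ζ := σ.d₁.r⁻¹ * (n * σ.d₁.r * n⁻¹) with hζ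
    have hnr : n * σ.d₁.r * n⁻¹ = σ.d₁.r * ζ := by rw [hζ]; group
    have h1 := congrArg (fun y => n * y * n⁻¹) σ.d₁.inv
    try simp only at h1
    rw [show n * (σ.d₁.a * σ.d₁.r * σ.d₁.a⁻¹) * n⁻¹ =
        (n * σ.d₁.a * n⁻¹) * (n * σ.d₁.r * n⁻¹) * (n * σ.d₁.a * n⁻¹)⁻¹ by group,
      show n * σ.d₁.r⁻¹ * n⁻¹ = (n * σ.d₁.r * n⁻¹)⁻¹ by group, hnr, hwc, mul_inv_rev σ.d₁.r ζ] at h1
    have hwr : w * σ.d₁.r = σ.d₁.r * w := by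
      have hζi : ζ⁻¹ = ζ := inv_eq_of_mul_eq_one_right (σ.Z_sq hk₁ hk₂ hr)
      have hawP : σ.d₁.a * w ∈ (σ.P : Subgroup G) := mul_mem haP hwP
      have h2 : σ.d₁.a * w * (σ.d₁.r * ζ) * (σ.d₁.a * w)⁻¹ =
          σ.d₁.a * w * σ.d₁.r * (σ.d₁.a * w)⁻¹ * ζ := by
        rw [mul_assoc (σ.d₁.a * w * σ.d₁.r) _ ζ, ← σ.Z_comm hr (inv_mem hawP)]
        group
      rw [h2, hζi, σ.Z_comm hr (inv_mem (σ.le₁ σ.d₁.r_mem))] at h1
      have h3 := mul_right_cancel h1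
      rw [← σ.d₁.inv, show σ.d₁.a * w * σ.d₁.r * (σ.d₁.a * w)⁻¹ = σ.d₁.a * (w * σ.d₁.r * w⁻¹) * σ.d₁.a⁻¹
        by group] at h3
      exact mul_inv_eq_iff_eq_mul.1 (mul_left_cancel (mul_right_cancel h3))
    obtain ⟨p, hp, q, hq, rfl⟩ := σ.exists_mul hwP
    have hpr : p ∈ zpowers σ.d₁.r := by
      by_contra hpr
      refine σ.d₁.r_sq_ne_one hk₁ ?_
      have h := σ.d₁.refl_inv hp hpr (mem_zpowers σ.d₁.r)
      rw [mul_assoc, ← σ.comm _ σ.d₁.r_mem q hq, ← mul_assoc, ← mul_assoc] at hwr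
      rw [mul_right_cancel hwr, mul_inv_cancel_right] at h
      nth_rewrite 2 [h]
      rw [mul_inv_cancel]
    obtain ⟨m, hm⟩ := σ.pow_two_pow_eq_one hwP
    exact odd_mod ho hNZ (fun ζ' hζ' => (σ.Z_comm hζ' hwP).symm) hwc
      (hmulZ p (σ.le₁ hp) q (σ.le₂ hq) (hrot p hpr) (hD₂ q hq)) (m := m) (by rw [hm]; exact one_mem _)
  obtain ⟨c, hc, d, hd, rfl⟩ := σ.exists_mul hx
  refine hmulZ c (σ.le₁ hc) d (σ.le₂ hd) ?_ (hD₂ d hd)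
  by_cases hcr : c ∈ zpowers σ.d₁.r
  · exact hrot c hcr
  · have h := (σ.d₁.cases c hc).resolve_left hcr
    have e : c = c * σ.d₁.a * σ.d₁.a := by rw [mul_assoc, σ.d₁.sq, mul_one]
    rw [e]
    exact hmulZ _ (σ.le₁ (σ.d₁.rot_le h)) _ (σ.le₁ σ.d₁.a_mem) (hrot _ h) ha

/-- The odd part of `N(P)` fixes the squares in each factor. -/
theorem odd_fix_sq (hn : n ∈ normalizer ((σ.P : Subgroup G) : Set G)) (ho : ¬ 2 ∣ orderOf n) :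
    n * (σ.d₁.r * σ.d₁.r) * n⁻¹ = σ.d₁.r * σ.d₁.r := by
  by_cases hk₁ : σ.d₁.k = 0
  · rw [σ.d₁.sq_eq_one_of_four hk₁ σ.d₁.r_mem, mul_one, mul_inv_cancel]
  by_cases hk₂ : σ.d₂.k = 0
  · exact σ.odd_fix_r₁_sq hn ho (Nat.one_le_iff_ne_zero.2 hk₁) hk₂
  · exact σ.odd_centralizes hn ho (Nat.one_le_iff_ne_zero.2 hk₁) (Nat.one_le_iff_ne_zero.2 hk₂)
      (σ.le₁ (mul_mem σ.d₁.r_mem σ.d₁.r_mem))

/-- An element of `N(P)` is an element of `P` times one of odd order. -/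
theorem exists_odd_factor (hn : n ∈ normalizer ((σ.P : Subgroup G) : Set G)) :
    ∃ s ∈ (σ.P : Subgroup G), ∃ n' ∈ normalizer ((σ.P : Subgroup G) : Set G),
      ¬ 2 ∣ orderOf n' ∧ n = s * n' := by
  obtain ⟨j, o, ho, hjo⟩ := Nat.exists_eq_pow_mul_and_not_dvd (orderOf_pos n).ne' 2 (by norm_num)
  have ho0 : o ≠ 0 := fun h => ho (h ▸ dvd_zero 2)
  have hoP : n ^ o ∈ (σ.P : Subgroup G) := by
    have hp : IsPGroup 2 ↥(zpowers (n ^ o)) := by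
      refine IsPGroup.of_card (n := j) ?_
      rw [Nat.card_zpowers, orderOf_pow_of_dvd ho0 (hjo ▸ dvd_mul_left _ _), hjo,
        Nat.mul_div_cancel _ (by omega)]
    have hsup := σ.P.isPGroup'.to_sup_of_normal_left' hp (zpowers_le.2 (pow_mem hn o))
    exact σ.P.3 hsup le_sup_left ▸ mem_sup_right (mem_zpowers _)
  have hcop : (2 ^ j).Coprime o := (Nat.prime_two.coprime_iff_not_dvd.2 ho).pow_left j
  have hg := Nat.gcd_eq_gcd_ab (2 ^ j) o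
  rw [hcop.gcd_eq_one, Nat.cast_one] at hg
  refine ⟨(n ^ o) ^ ((2 ^ j).gcdB o), zpow_mem hoP _, (n ^ 2 ^ j) ^ ((2 ^ j).gcdA o),
    zpow_mem (pow_mem hn _) _, ?_, ?_⟩
  · intro h
    refine ho (h.trans ((orderOf_dvd_of_mem_zpowers ⟨_, rfl⟩).trans ?_))
    exact orderOf_dvd_of_pow_eq_one (by rw [← pow_mul, ← hjo, pow_orderOf_eq_one])
  · conv_lhs => rw [← zpow_one n, hg]
    rw [← zpow_natCast n o, ← zpow_natCast n (2 ^ j), ← zpow_mul, ← zpow_mul, ← zpow_add, add_comm]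

end Setting

end CfsgLib.DihProduct
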