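import Cfsg.Agent.Lib.DihProduct.Member

/-!
`P` contains a Sylow 2-subgroup of the normaliser of a product of four-groups and factors, since the larger
subgroup `P ∩ N(E)` lies in no proper member of the family.
-/

set_option autoImplicit false
set_option linter.unusedSectionVars false

namespace CfsgLib.DihProduct

open Subgroup Cfsg.Tech46.AlpGold

variable {G : Type*} [Group G] [Finite G]

local instance : Fact (Nat.Prime 2) := ⟨Nat.prime_two⟩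

namespace Setting

variable (σ : Setting G)

/-- A set in no proper member of the family. -/
def Wide (A : Set G) : Prop :=
  (1 ≤ σ.d₂.k → ∃ x ∈ A, ∃ y ∈ A, x * x ≠ 1 ∧ y * y ≠ 1 ∧ x * x ≠ y * y ∧
    x * x * (x * x) = 1 ∧ y * y * (y * y) = 1) ∧
  (σ.d₂.k = 0 → ∃ x ∈ A, ∃ y ∈ A, x * y ≠ y * x)

theorem wide_cj {A : Set G} (h : σ.Wide A) (g : G) : σ.Wide (cj g A) := by
  have inj : ∀ u v : G, g⁻¹ * u * g = g⁻¹ * v * g → u = v := fun u v e =>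
    mul_left_cancel (mul_right_cancel e)
  have hmul : ∀ u v : G, g⁻¹ * u * g * (g⁻¹ * v * g) = g⁻¹ * (u * v) * g := fun u v => by group
  have h1 : g⁻¹ * 1 * g = 1 := by group
  refine ⟨fun hk => ?_, fun hk => ?_⟩
  · obtain ⟨x, hx, y, hy, a, b, c, d, e⟩ := h.1 hk
    refine ⟨_, ⟨x, hx, rfl⟩, _, ⟨y, hy, rfl⟩, ?_, ?_, ?_, ?_, ?_⟩ <;> simp only [hmul]
    · exact fun e' => a (inj _ _ (e'.trans h1.symm))
    · exact fun e' => b (inj _ _ (e'.trans h1.symm))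
    · exact fun e' => c (inj _ _ e')
    · rw [d, h1]
    · rw [e, h1]
  · obtain ⟨x, hx, y, hy, a⟩ := h.2 hk
    refine ⟨_, ⟨x, hx, rfl⟩, _, ⟨y, hy, rfl⟩, ?_⟩
    simp only [hmul]
    exact fun e' => a (inj _ _ e')

theorem mul_decomp {V W : Subgroup G} (hV : V ≤ σ.D₁) (hW : W ≤ σ.D₂) {x : G} (hx : x ∈ V ⊔ W) :
    ∃ c ∈ V, ∃ d ∈ W, x = c * d := by
  obtain ⟨c, hc, d, hd, h⟩ := CfsgLib.Techniques.exists_mul_of_mem_sup
    (fun a ha => centralizer_le_normalizer _ (mem_centralizer_iff.2 fun y hy =>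
      (σ.comm a (hV ha) y (hW hy)).symm)) hx
  exact ⟨c, hc, d, hd, h.symm⟩

theorem sq_unique {D : Subgroup G} (d : Dih D) {x : G} (hx : x ∈ D) (h1 : x * x ≠ 1)
    (h2 : x * x * (x * x) = 1) : x * x = d.z := by
  have hxr : x ∈ zpowers d.r := by_contra fun h => h1 (d.refl_sq hx h)
  exact (d.rot_sq_eq_one (mul_mem hxr hxr) h2).resolve_left h1

theorem member_eq_P (hk₁ : 1 ≤ σ.d₁.k) {E : Subgroup G} (hF : Family σ.P E) {A : Set G}
    (hA : A ⊆ (E : Set G)) (hW : σ.Wide A) : E = (σ.P : Subgroup G) := by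
  obtain ⟨V, W, hV, hW', rfl⟩ := σ.member_eq hF
  rcases hV with rfl | ⟨b, hb, hbr, rfl⟩
  · rcases hW' with rfl | ⟨w, hw, hwr, rfl⟩
    · exact σ.gen
    · rcases Nat.eq_zero_or_pos σ.d₂.k with hk | hk
      · rw [σ.d₂.four_eq_of_k hk hw hwr]; exact σ.gen
      exfalso
      obtain ⟨x, hx, y, hy, h1, h2, h3, h4, h5⟩ := hW.1 hk
      have key : ∀ v ∈ A, v * v ≠ 1 → v * v * (v * v) = 1 → v * v = σ.d₁.z := by
        intro v hv e1 e2
        obtain ⟨c, hc, d, hd, rfl⟩ := σ.mul_decomp le_rfl (σ.d₂.four_le hw) (hA hv)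
        rw [σ.pair_mul hc (σ.d₂.four_le hw hd), σ.d₂.four_sq hw hwr hd, mul_one] at e1 e2 ⊢
        exact sq_unique σ.d₁ hc e1 e2
      exact h3 ((key x hx h1 h4).trans (key y hy h2 h5).symm)
  · exfalso
    have hWle : W ≤ σ.D₂ := by
      rcases hW' with rfl | ⟨w, hw, -, rfl⟩
      · exact le_rfl
      · exact σ.d₂.four_le hw
    rcases Nat.eq_zero_or_pos σ.d₂.k with hk | hk
    · obtain ⟨x, hx, y, hy, h⟩ := hW.2 hk
      obtain ⟨c, hc, d, hd, rfl⟩ := σ.mul_decomp (σ.d₁.four_le hb) hWle (hA hx)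
      obtain ⟨c', hc', d', hd', rfl⟩ := σ.mul_decomp (σ.d₁.four_le hb) hWle (hA hy)
      apply h
      rw [σ.pair_mul (σ.d₁.four_le hb hc') (hWle hd), σ.pair_mul (σ.d₁.four_le hb hc) (hWle hd'),
        σ.d₁.four_comm hb hbr hc hc', σ.d₂.comm_of_four hk (hWle hd) (hWle hd')]
    · obtain ⟨x, hx, y, hy, h1, h2, h3, h4, h5⟩ := hW.1 hk
      have key : ∀ v ∈ A, v * v ≠ 1 → v * v * (v * v) = 1 → v * v = σ.d₂.z := by
        intro v hv e1 e2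
        obtain ⟨c, hc, d, hd, rfl⟩ := σ.mul_decomp (σ.d₁.four_le hb) hWle (hA hv)
        rw [σ.pair_mul (σ.d₁.four_le hb hc) (hWle hd), σ.d₁.four_sq hb hbr hc, one_mul] at e1 e2 ⊢
        exact sq_unique σ.d₂ (hWle hd) e1 e2
      exact h3 ((key x hx h1 h4).trans (key y hy h2 h5).symm)

theorem val_mem_normalizer (hk₁ : 1 ≤ σ.d₁.k) : ∀ (L : List (Subgroup G × G)) (A : Set G),
    Moves σ.P A L → σ.Wide A → val L ∈ normalizer ((σ.P : Subgroup G) : Set G)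
  | [], _, _, _ => by rw [show val ([] : List (Subgroup G × G)) = 1 from rfl]; exact one_mem _
  | s :: L, A, ⟨⟨hF, hs⟩, hA, hL⟩, hW => by
    rw [σ.member_eq_P hk₁ hF hA hW] at hs
    rw [val_cons]
    exact mul_mem hs (val_mem_normalizer hk₁ L _ hL (σ.wide_cj hW _))

/-- Fusion of a wide subset of `P` is effected by `N(P)`. -/
theorem rigid (hk₁ : 1 ≤ σ.d₁.k) {A : Set G} (hA : A ⊆ ((σ.P : Subgroup G) : Set G)) (hW : σ.Wide A)
    {g : G} (hg : ∀ a ∈ A, g * a * g⁻¹ ∈ (σ.P : Subgroup G)) :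
    ∃ n ∈ normalizer ((σ.P : Subgroup G) : Set G), ∀ a ∈ A, g * a * g⁻¹ = n * a * n⁻¹ := by
  obtain ⟨L, w, hw, hgw, hL, -⟩ := conjugation_family σ.P A hA g⁻¹ (by
    rintro _ ⟨a, ha, rfl⟩
    show g⁻¹⁻¹ * a * g⁻¹ ∈ _
    rw [inv_inv]
    exact hg a ha)
  refine ⟨(val L)⁻¹, inv_mem (σ.val_mem_normalizer hk₁ L A hL hW), fun a ha => ?_⟩
  have hg' : g = (val L)⁻¹ * w⁻¹ := by rw [← mul_inv_rev, ← hgw, inv_inv]
  rw [hg', show (val L)⁻¹ * w⁻¹ * a * ((val L)⁻¹ * w⁻¹)⁻¹ = (val L)⁻¹ * (w⁻¹ * (a * w)) * val L by group,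
    mem_centralizer_iff.1 hw a ha, inv_mul_cancel_left, inv_inv]

/-- `P ∩ N(E)` is a Sylow 2-subgroup of `N(E)`. -/
theorem sylow_norm (hk₁ : 1 ≤ σ.d₁.k) {E : Subgroup G} (hE : E ≤ (σ.P : Subgroup G)) {b : G}
    (hb : b ∈ σ.D₁) (hbr : b ∉ zpowers σ.d₁.r) (ht : σ.d₁.t ∈ normalizer (E : Set G))
    (hbN : b ∈ normalizer (E : Set G)) (ht₂ : 1 ≤ σ.d₂.k → σ.d₂.t ∈ normalizer (E : Set G)) :
    ¬ 2 ∣ ((σ.P : Subgroup G) ⊓ normalizer (E : Set G)).relIndex (normalizer (E : Set G)) := by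
  set N := normalizer (E : Set G) with hN
  set A := (σ.P : Subgroup G) ⊓ N with hA
  have hW : σ.Wide (A : Set G) := by
    refine ⟨fun hk => ⟨_, ⟨σ.le₁ σ.d₁.t_mem, ht⟩, _, ⟨σ.le₂ σ.d₂.t_mem, ht₂ hk⟩, ?_⟩, fun _ =>
      ⟨_, ⟨σ.le₁ σ.d₁.t_mem, ht⟩, b, ⟨σ.le₁ hb, hbN⟩, fun e => ?_⟩⟩
    · rw [σ.d₁.t_sq hk₁, σ.d₂.t_sq hk]
      refine ⟨σ.d₁.z_ne_one, σ.d₂.z_ne_one, fun e => σ.d₁.z_ne_one ?_, σ.d₁.z_sq, σ.d₂.z_sq⟩
      have h : σ.d₁.z ∈ σ.D₁ ⊓ σ.D₂ := ⟨σ.d₁.z_mem, e ▸ σ.d₂.z_mem⟩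
      rwa [σ.disj, mem_bot] at h
    · have h := σ.d₁.t_conj_refl hk₁ hb hbr
      rw [e, mul_inv_cancel_right, left_eq_mul] at h
      exact σ.d₁.z_ne_one h
  obtain ⟨R, hR⟩ := ((σ.P.isPGroup'.to_le inf_le_left).comap_subtype :
    IsPGroup 2 (A.subgroupOf N)).exists_le_sylow
  have hRA : (R : Subgroup N) ≤ A.subgroupOf N := by
    obtain ⟨g, -, hg⟩ := CfsgLib.Techniques.exists_conj_le_sylow_of (X := ⊤) le_top
      (R.isPGroup'.map N.subtype) le_top σ.P.isPGroup' (by rw [relIndex_top_right]; exact σ.P.not_dvd_index)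
    have hg' : ∀ y ∈ (R : Subgroup N), g * (y : G) * g⁻¹ ∈ (σ.P : Subgroup G) := fun y hy =>
      hg ⟨_, ⟨y, hy, rfl⟩, rfl⟩
    obtain ⟨n, hn, hna⟩ := σ.rigid hk₁ (fun a ha => ha.1) hW (g := g)
      (fun a ha => hg' ⟨a, ha.2⟩ (hR (mem_subgroupOf.2 ha)))
    have hfix : ∀ a ∈ A, n⁻¹ * g * a * (n⁻¹ * g)⁻¹ = a := fun a ha => by
      rw [show n⁻¹ * g * a * (n⁻¹ * g)⁻¹ = n⁻¹ * (g * a * g⁻¹) * n by group, hna a ha]
      group
    intro y hy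
    set h := n⁻¹ * g with hh
    have h1 : h * y * h⁻¹ ∈ A := by
      refine ⟨?_, mem_normalizer_of_conj_mem fun e he => ?_⟩
      · rw [show h * (y : G) * h⁻¹ = n⁻¹ * (g * y * g⁻¹) * n⁻¹⁻¹ by rw [hh]; group]
        exact (mem_normalizer_iff.1 (inv_mem hn) _).1 (hg' y hy)
      · have he' := (mem_normalizer_iff.1 y.2 e).1 he
        have e1 := hfix e ⟨hE he, le_normalizer he⟩
        have e2 := hfix _ ⟨hE he', le_normalizer he'⟩
        have e3 : h * y * h⁻¹ * e * (h * y * h⁻¹)⁻¹ = y * e * (y : G)⁻¹ :=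
          calc h * y * h⁻¹ * e * (h * y * h⁻¹)⁻¹
              = h * y * h⁻¹ * (h * e * h⁻¹) * (h * y * h⁻¹)⁻¹ := by rw [e1]
            _ = h * (y * e * (y : G)⁻¹) * h⁻¹ := by group
            _ = y * e * (y : G)⁻¹ := e2
        rw [e3]
        exact he'
    have h2 := hfix _ h1
    rw [show h * (h * y * h⁻¹) * h⁻¹ = h * (h * y * h⁻¹) * h⁻¹ from rfl] at h2
    have h3 : (y : G) = h * y * h⁻¹ := (mul_left_cancel (mul_right_cancel h2)).symm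
    exact mem_subgroupOf.2 (h3 ▸ h1)
  rw [relIndex, show A.subgroupOf N = (R : Subgroup N) from le_antisymm hR hRA]
  exact R.not_dvd_index

end Setting

end CfsgLib.DihProduct
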