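import Cfsg.Agent.Lib.DihProduct.Fours
import Cfsg.Agent.Lib.DihProduct.Rigid
import Cfsg.Agent.Lib.DihProduct.Normalizer

/-!
The conjugates of `t₁` in `N(V × D₂)` commute with those of `t₂` in `N(D₁ × W)` and with the odd part of
`N(P)`, as far as their action on the small members goes.
-/

set_option autoImplicit false
set_option linter.unusedSectionVars false
set_option linter.style.haveILetI false

namespace CfsgLib.DihProduct

open Subgroup Cfsg.Tech46.AlpGold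

variable {G : Type*} [Group G] [Finite G]

local instance : Fact (Nat.Prime 2) := ⟨Nat.prime_two⟩

theorem act_conj_eq {E : Subgroup G} {a b : ↥(normalizer (E : Set G))} (h : act E a = act E b) {x : G}
    (hx : x ∈ E) : (a : G) * x * (a : G)⁻¹ = b * x * (b : G)⁻¹ := by
  have h1 := congrArg Subtype.val (DFunLike.congr_fun h (⟨x, hx⟩ : ↥E))
  rw [act_apply, act_apply] at h1
  exact h1

namespace Setting

variable (σ : Setting G) {b w n : G}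

section Full

variable (hk₁ : 1 ≤ σ.d₁.k) (hb : b ∈ σ.D₁) (hbr : b ∉ zpowers σ.d₁.r)
  (hn : n ∈ normalizer ((σ.d₁.four b ⊔ σ.D₂ : Subgroup G) : Set G))

include hk₁ hb hbr

theorem full_sylow :
    ¬ 2 ∣ ((σ.P : Subgroup G) ⊓ normalizer ((σ.d₁.four b ⊔ σ.D₂ : Subgroup G) : Set G)).relIndex
      (normalizer ((σ.d₁.four b ⊔ σ.D₂ : Subgroup G) : Set G)) :=
  σ.sylow_norm hk₁ (σ.four_sup_le_P hb le_rfl) hb hbr (σ.t_mem_normalizer hk₁ hb hbr le_rfl)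
    (le_normalizer (mem_sup_left (σ.d₁.mem_four_right b)))
    fun _ => le_normalizer (mem_sup_right σ.d₂.t_mem)

theorem full_tvClass : TvClass (tClass (σ.d₁.four b ⊔ σ.D₂)
    ⟨σ.d₁.t, σ.t_mem_normalizer hk₁ hb hbr le_rfl⟩) :=
  tvClass (σ.full_sylow hk₁ hb hbr) (σ.t_tv hk₁ hb hbr le_rfl) (σ.unique_full hk₁ hb hbr)

include hn

theorem mover_mem_normalizer :
    n * σ.d₁.t * n⁻¹ ∈ normalizer ((σ.d₁.four b ⊔ σ.D₂ : Subgroup G) : Set G) :=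
  mul_mem (mul_mem hn (σ.t_mem_normalizer hk₁ hb hbr le_rfl)) (inv_mem hn)

theorem mover_cases {x : G} (hx : x ∈ σ.d₁.four b ⊔ σ.D₂) :
    n * σ.d₁.t * n⁻¹ * x * (n * σ.d₁.t * n⁻¹)⁻¹ = x ∨
      n * σ.d₁.t * n⁻¹ * x * (n * σ.d₁.t * n⁻¹)⁻¹ = x * (n * σ.d₁.z * n⁻¹) := by
  have h := (mem_normalizer_iff.1 (inv_mem hn) x).1 hx
  rw [inv_inv] at h
  rw [show n * σ.d₁.t * n⁻¹ * x * (n * σ.d₁.t * n⁻¹)⁻¹ =
    n * (σ.d₁.t * (n⁻¹ * x * n) * σ.d₁.t⁻¹) * n⁻¹ by group]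
  rcases σ.t_conj_four_sup hk₁ hb hbr le_rfl h with e | e <;> rw [e]
  · left; group
  · right; group

theorem centre_mem : n * σ.d₁.z * n⁻¹ ∈ σ.d₁.four b ⊔ σ.D₂ :=
  (mem_normalizer_iff.1 hn _).1 (mem_sup_left (σ.d₁.mem_four_left b))

theorem centre_comm {x : G} (hx : x ∈ σ.d₁.four b ⊔ σ.D₂) :
    n * σ.d₁.z * n⁻¹ * x = x * (n * σ.d₁.z * n⁻¹) := by
  have h := (mem_normalizer_iff.1 (inv_mem hn) x).1 hx
  rw [inv_inv] at h
  have h1 := σ.z_comm_P (σ.four_sup_le_P hb le_rfl h)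
  calc n * σ.d₁.z * n⁻¹ * x = n * (σ.d₁.z * (n⁻¹ * x * n)) * n⁻¹ := by group
    _ = n * (n⁻¹ * x * n * σ.d₁.z) * n⁻¹ := by rw [h1]
    _ = x * (n * σ.d₁.z * n⁻¹) := by group

theorem centre_decomp : ∃ c ∈ σ.d₁.four b, ∃ d ∈ σ.D₂, n * σ.d₁.z * n⁻¹ = c * d ∧
    ∀ y ∈ σ.D₂, d * y = y * d := by
  obtain ⟨c, hc, d, hd, e⟩ := σ.sup_decomp (σ.d₁.four_le hb) le_rfl (σ.centre_mem hk₁ hb hbr hn)
  refine ⟨c, hc, d, hd, e, fun y hy => ?_⟩
  have h := σ.centre_comm hk₁ hb hbr hn (mem_sup_right hy)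
  rw [e, mul_assoc, ← mul_assoc y, ← σ.comm c (σ.d₁.four_le hb hc) y hy, mul_assoc] at h
  exact mul_left_cancel h

theorem mover_act :
    act (σ.d₁.four b ⊔ σ.D₂) ⟨_, σ.mover_mem_normalizer hk₁ hb hbr hn⟩ =
        act (σ.d₁.four b ⊔ σ.D₂) ⟨σ.d₁.t, σ.t_mem_normalizer hk₁ hb hbr le_rfl⟩ ∨
      act (σ.d₁.four b ⊔ σ.D₂) ((⟨σ.d₁.t, σ.t_mem_normalizer hk₁ hb hbr le_rfl⟩ *
          ⟨_, σ.mover_mem_normalizer hk₁ hb hbr hn⟩) * ⟨σ.d₁.t, σ.t_mem_normalizer hk₁ hb hbr le_rfl⟩ *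
          (⟨σ.d₁.t, σ.t_mem_normalizer hk₁ hb hbr le_rfl⟩ *
            ⟨_, σ.mover_mem_normalizer hk₁ hb hbr hn⟩)⁻¹) =
        act (σ.d₁.four b ⊔ σ.D₂) ⟨_, σ.mover_mem_normalizer hk₁ hb hbr hn⟩ := by
  rw [or_iff_not_imp_left]
  intro hne
  rw [map_mul, map_mul, map_inv, map_mul]
  exact (σ.full_tvClass hk₁ hb hbr).mul_conj ⟨⟨n, hn⟩, congrArg _ (Subtype.ext rfl)⟩
    ⟨1, by rw [one_mul, inv_one, mul_one]⟩ hne

/-- A mover different from `t` moves `z₁` by its centre. -/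
theorem mover_z₁ (hne : n * σ.d₁.z * n⁻¹ ≠ σ.d₁.z) :
    n * σ.d₁.t * n⁻¹ * σ.d₁.z * (n * σ.d₁.t * n⁻¹)⁻¹ = σ.d₁.z * (n * σ.d₁.z * n⁻¹) := by
  have htv := σ.t_tv hk₁ hb hbr (B := σ.D₂) le_rfl
  set T : ↥(normalizer ((σ.d₁.four b ⊔ σ.D₂ : Subgroup G) : Set G)) :=
    ⟨σ.d₁.t, σ.t_mem_normalizer hk₁ hb hbr le_rfl⟩
  set N' : ↥(normalizer ((σ.d₁.four b ⊔ σ.D₂ : Subgroup G) : Set G)) := ⟨n, hn⟩
  have hU : Tv (act _ (N' * T * N'⁻¹)) (act _ N' ⟨σ.d₁.z, mem_sup_left (σ.d₁.mem_four_left b)⟩) := by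
    rw [map_mul, map_mul, map_inv]; exact htv.conj _
  have hdiff : act _ (N' * T * N'⁻¹) ≠ act (σ.d₁.four b ⊔ σ.D₂) T := by
    intro e
    rw [e] at hU
    exact hne (congrArg Subtype.val (hU.centre_unique htv))
  exact congrArg Subtype.val
    ((σ.full_tvClass hk₁ hb hbr).apply_centre hU htv ⟨N', rfl⟩ ⟨1, by rw [one_mul, inv_one, mul_one]⟩ hdiff)

/-- The centre of a mover lies in `four b ⊔ four w` and the mover normalises it. -/
theorem mover_fours (hw : w ∈ σ.D₂) (hwr : w ∉ zpowers σ.d₂.r) :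
    n * σ.d₁.z * n⁻¹ ∈ σ.d₁.four b ⊔ σ.d₂.four w ∧
    n * σ.d₁.t * n⁻¹ ∈ normalizer ((σ.d₁.four b ⊔ σ.d₂.four w : Subgroup G) : Set G) ∧
    ∃ v ∈ normalizer ((σ.d₁.four b ⊔ σ.d₂.four w : Subgroup G) : Set G),
      (n * σ.d₁.t * n⁻¹)⁻¹ * (v * σ.d₁.t * v⁻¹) ∈
        centralizer ((σ.d₁.four b ⊔ σ.d₂.four w : Subgroup G) : Set G) := by
  have hle : σ.d₁.four b ⊔ σ.d₂.four w ≤ σ.d₁.four b ⊔ σ.D₂ :=
    sup_le_sup_left (σ.d₂.four_le hw) _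
  have hp : n * σ.d₁.z * n⁻¹ ∈ σ.d₁.four b ⊔ σ.d₂.four w := by
    obtain ⟨c, hc, d, hd, e, hdc⟩ := σ.centre_decomp hk₁ hb hbr hn
    rw [e]
    refine mul_mem (mem_sup_left hc) (mem_sup_right ?_)
    by_cases hk₂ : σ.d₂.k = 0
    · rw [σ.d₂.four_eq_of_k hk₂ hw hwr]; exact hd
    · rcases σ.d₂.central_cases (Nat.one_le_iff_ne_zero.2 hk₂) hd hdc with rfl | rfl
      · exact one_mem _
      · exact σ.d₂.mem_four_left w
  have hu : n * σ.d₁.t * n⁻¹ ∈ normalizer ((σ.d₁.four b ⊔ σ.d₂.four w : Subgroup G) : Set G) :=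
    mem_normalizer_of_conj_mem fun x hx => by
      rcases σ.mover_cases hk₁ hb hbr hn (hle hx) with e | e <;> rw [e]
      · exact hx
      · exact mul_mem hx hp
  refine ⟨hp, hu, ?_⟩
  have ht := σ.t_mem_normalizer hk₁ hb hbr (σ.d₂.four_le hw)
  rcases σ.mover_act hk₁ hb hbr hn with e | e
  · exact ⟨1, one_mem _, by
      rw [one_mul, inv_one, mul_one]
      exact centralizer_le (SetLike.coe_subset_coe.2 hle) (act_eq_iff.1 e.symm)⟩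
  · exact ⟨σ.d₁.t * (n * σ.d₁.t * n⁻¹), mul_mem ht hu,
      centralizer_le (SetLike.coe_subset_coe.2 hle) (act_eq_iff.1 e)⟩

end Full

theorem fours_sylow (hk₁ : 1 ≤ σ.d₁.k) (hk₂ : 1 ≤ σ.d₂.k) (hb : b ∈ σ.D₁) (hbr : b ∉ zpowers σ.d₁.r)
    (hw : w ∈ σ.D₂) (hwr : w ∉ zpowers σ.d₂.r) :
    ¬ 2 ∣ ((σ.P : Subgroup G) ⊓ normalizer ((σ.d₁.four b ⊔ σ.d₂.four w : Subgroup G) : Set G)).relIndex
      (normalizer ((σ.d₁.four b ⊔ σ.d₂.four w : Subgroup G) : Set G)) :=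
  σ.sylow_norm hk₁ (σ.four_sup_le_P hb (σ.d₂.four_le hw)) hb hbr
    (σ.t_mem_normalizer hk₁ hb hbr (σ.d₂.four_le hw))
    (le_normalizer (mem_sup_left (σ.d₁.mem_four_right b))) fun _ => by
      have := σ.swap.t_mem_normalizer hk₂ hw hwr (σ.d₁.four_le hb)
      rwa [sup_comm]

theorem fours_tvClass (hk₁ : 1 ≤ σ.d₁.k) (hk₂ : 1 ≤ σ.d₂.k) (hb : b ∈ σ.D₁) (hbr : b ∉ zpowers σ.d₁.r)
    (hw : w ∈ σ.D₂) (hwr : w ∉ zpowers σ.d₂.r)
    {t₁ t₂ : ↥(normalizer ((σ.d₁.four b ⊔ σ.d₂.four w : Subgroup G) : Set G))}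
    (h₁ : (t₁ : G) = σ.d₁.t) (h₂ : (t₂ : G) = σ.d₂.t) :
    TvClass (tClass (σ.d₁.four b ⊔ σ.d₂.four w) t₁) := by
  have hsy := σ.fours_sylow hk₁ hk₂ hb hbr hw hwr
  obtain ⟨T, hT⟩ := exists_sylow_range hsy
  have hlist := σ.fours_list hk₁ hk₂ hb hbr hw hwr h₁ h₂ hT
  have hnc := σ.fours_not_conj hk₁ hk₂ hb hbr hw hwr h₁ h₂
  have hnb := not_isConj_of_four hlist (σ.fours_ne hk₁ hb hbr h₁ h₂) hnc
  have et : t₁ = ⟨σ.d₁.t, σ.t_mem_normalizer hk₁ hb hbr (σ.d₂.four_le hw)⟩ := Subtype.ext h₁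
  have htv := σ.t_tv hk₁ hb hbr (σ.d₂.four_le hw)
  rw [← et] at htv
  refine tvClass hsy htv fun g y hy h => ?_
  have hconj : ∀ t' : ↥(normalizer ((σ.d₁.four b ⊔ σ.d₂.four w : Subgroup G) : Set G)),
      act (σ.d₁.four b ⊔ σ.d₂.four w) y = act (σ.d₁.four b ⊔ σ.d₂.four w) t' →
      IsConj ((act (σ.d₁.four b ⊔ σ.d₂.four w)).rangeRestrict t₁)
        ((act (σ.d₁.four b ⊔ σ.d₂.four w)).rangeRestrict t') := fun t' e =>
    isConj_iff.2 ⟨(act (σ.d₁.four b ⊔ σ.d₂.four w)).rangeRestrict g, by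
      rw [← map_inv, ← map_mul, ← map_mul]
      exact Subtype.ext (h.trans e)⟩
  rcases σ.fours_cases hk₁ hk₂ hb hbr hw hwr h₁ h₂ hy with e | e | e | e
  · exfalso
    have hy1 : act (σ.d₁.four b ⊔ σ.d₂.four w) y = 1 := by
      rw [← map_one (act (σ.d₁.four b ⊔ σ.d₂.four w)), act_eq_iff, Subgroup.coe_one, inv_one, one_mul]
      exact e
    have hU := htv.conj (act (σ.d₁.four b ⊔ σ.d₂.four w) g)
    rw [← map_inv, ← map_mul, ← map_mul, h, hy1] at hU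
    obtain ⟨x, hx⟩ := hU.moved
    exact hx (MulAut.one_apply _ x)
  · exact act_eq_iff.2 e
  · exact absurd (hconj t₂ (act_eq_iff.2 e)) hnb
  · exact absurd (hconj (t₁ * t₂) (act_eq_iff.2 e)) hnc

/-- A mover on the first side fixes the centre of a mover on the second. -/
theorem mover_fix_centre (hk₁ : 1 ≤ σ.d₁.k) (hk₂ : 1 ≤ σ.d₂.k) (hb : b ∈ σ.D₁)
    (hbr : b ∉ zpowers σ.d₁.r) (hw : w ∈ σ.D₂) (hwr : w ∉ zpowers σ.d₂.r)
    (hn : n ∈ normalizer ((σ.d₁.four b ⊔ σ.D₂ : Subgroup G) : Set G)) {m : G}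
    (hm : m ∈ normalizer ((σ.d₂.four w ⊔ σ.D₁ : Subgroup G) : Set G)) :
    n * σ.d₁.t * n⁻¹ * (m * σ.d₂.z * m⁻¹) * (n * σ.d₁.t * n⁻¹)⁻¹ = m * σ.d₂.z * m⁻¹ := by
  set E₀ := σ.d₁.four b ⊔ σ.d₂.four w with hE₀
  obtain ⟨hp, hu, v, hv, hvu⟩ := σ.mover_fours hk₁ hb hbr hn hw hwr
  obtain ⟨hq, hu', v', hv', hvu'⟩ := σ.swap.mover_fours hk₂ hw hwr hm hb hbr
  have esym : σ.swap.d₁.four w ⊔ σ.swap.d₂.four b = E₀ :=
    show σ.d₂.four w ⊔ σ.d₁.four b = _ from sup_comm _ _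
  rw [esym] at hq hu' hv' hvu'
  change m * σ.d₂.z * m⁻¹ ∈ E₀ at hq
  change m * σ.d₂.t * m⁻¹ ∈ normalizer (E₀ : Set G) at hu'
  change (m * σ.d₂.t * m⁻¹)⁻¹ * (v' * σ.d₂.t * v'⁻¹) ∈ centralizer (E₀ : Set G) at hvu'
  have ht₁N := σ.t_mem_normalizer hk₁ hb hbr (σ.d₂.four_le hw)
  have ht₂N : σ.d₂.t ∈ normalizer (E₀ : Set G) := by
    have := σ.swap.t_mem_normalizer hk₂ hw hwr (σ.d₁.four_le hb)
    rwa [hE₀, sup_comm]
  obtain ⟨T₁, hT₁⟩ : ∃ T : ↥(normalizer (E₀ : Set G)), (T : G) = σ.d₁.t := ⟨⟨_, ht₁N⟩, rfl⟩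
  obtain ⟨T₂, hT₂⟩ : ∃ T : ↥(normalizer (E₀ : Set G)), (T : G) = σ.d₂.t := ⟨⟨_, ht₂N⟩, rfl⟩
  obtain ⟨U, hU⟩ : ∃ T : ↥(normalizer (E₀ : Set G)), (T : G) = n * σ.d₁.t * n⁻¹ := ⟨⟨_, hu⟩, rfl⟩
  obtain ⟨U', hU'⟩ : ∃ T : ↥(normalizer (E₀ : Set G)), (T : G) = m * σ.d₂.t * m⁻¹ := ⟨⟨_, hu'⟩, rfl⟩
  obtain ⟨V, hV⟩ : ∃ T : ↥(normalizer (E₀ : Set G)), (T : G) = v := ⟨⟨_, hv⟩, rfl⟩
  obtain ⟨V', hV'⟩ : ∃ T : ↥(normalizer (E₀ : Set G)), (T : G) = v' := ⟨⟨_, hv'⟩, rfl⟩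
  have eU : act E₀ (V * T₁ * V⁻¹) = act E₀ U := act_eq_iff.2 (by
    rw [Subgroup.coe_mul, Subgroup.coe_mul, Subgroup.coe_inv, hV, hT₁, hU]; exact hvu)
  have eU' : act E₀ (V' * T₂ * V'⁻¹) = act E₀ U' := act_eq_iff.2 (by
    rw [Subgroup.coe_mul, Subgroup.coe_mul, Subgroup.coe_inv, hV', hT₂, hU']; exact hvu')
  have hmain : act E₀ U ⟨_, hq⟩ = ⟨_, hq⟩ := by
    by_cases hUT : act E₀ U = act E₀ T₁
    · rw [hUT]
      refine Subtype.ext ?_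
      rw [act_apply, hT₁]
      simp only
      rw [← show m * σ.d₂.z * m⁻¹ * σ.d₁.t = σ.d₁.t * (m * σ.d₂.z * m⁻¹) from
        σ.swap.centre_comm hk₂ hw hwr hm (mem_sup_right σ.d₁.t_mem), mul_inv_cancel_right]
    have hcl := σ.fours_tvClass hk₁ hk₂ hb hbr hw hwr hT₁ hT₂
    have hT₁cl : act E₀ T₁ ∈ tClass E₀ T₁ := ⟨1, by rw [one_mul, inv_one, mul_one]⟩
    have hUcl : act E₀ U ∈ tClass E₀ T₁ := ⟨V, eU⟩
    have c₁ : Commute (act E₀ T₁) (act E₀ T₂) := by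
      rw [commute_iff_eq, ← map_mul, ← map_mul]
      refine congrArg _ (Subtype.ext ?_)
      rw [Subgroup.coe_mul, Subgroup.coe_mul, hT₁, hT₂]
      exact σ.comm _ σ.d₁.t_mem _ σ.d₂.t_mem
    have c₂ : Commute (act E₀ U) (act E₀ T₂) := by
      rw [commute_iff_eq, ← map_mul, ← map_mul, act_eq_iff, Subgroup.coe_mul, Subgroup.coe_mul, hU, hT₂]
      rcases σ.mover_cases hk₁ hb hbr hn (mem_sup_right σ.d₂.t_mem) with e | e <;>
        rw [mul_inv_eq_iff_eq_mul] at e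
      · rw [e, inv_mul_cancel]; exact one_mem _
      · rw [e]
        have hpC : n * σ.d₁.z * n⁻¹ ∈ centralizer (E₀ : Set G) := mem_centralizer_iff.2 fun x hx =>
          (σ.centre_comm hk₁ hb hbr hn (sup_le_sup_left (σ.d₂.four_le hw) _ hx)).symm
        have := (mem_normalizer_iff.1
          (Techniques.normalizer_le_normalizer_centralizer E₀ (inv_mem hu)) _).1 hpC
        rwa [inv_inv, show (n * σ.d₁.t * n⁻¹)⁻¹ * (n * σ.d₁.z * n⁻¹) * (n * σ.d₁.t * n⁻¹) =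
          (σ.d₂.t * (n * σ.d₁.t * n⁻¹))⁻¹ * (σ.d₂.t * (n * σ.d₁.z * n⁻¹) * (n * σ.d₁.t * n⁻¹))
          by group] at this
    have hall : ∀ X ∈ tClass E₀ T₁, Commute X (act E₀ T₂) := by
      intro X hX
      by_cases h1 : act E₀ T₁ = X
      · exact h1 ▸ c₁
      by_cases h2 : act E₀ U = X
      · exact h2 ▸ c₂
      rw [hcl.three hT₁cl hUcl hX (Ne.symm hUT) h1 h2]
      exact (c₁.mul_left c₂).mul_left c₁.inv_left
    have hX : act E₀ (V'⁻¹ * V * T₁ * (V'⁻¹ * V)⁻¹) ∈ tClass E₀ T₁ := ⟨_, rfl⟩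
    have hcU : Commute (act E₀ U) (act E₀ U') := by
      have h := (hall _ hX).map (MulAut.conj (act E₀ V')).toMonoidHom
      simp only [MulEquiv.coe_toMonoidHom, MulAut.conj_apply] at h
      rw [← map_inv, ← map_mul, ← map_mul, ← map_mul, ← map_mul, eU'] at h
      rwa [show V' * (V'⁻¹ * V * T₁ * (V'⁻¹ * V)⁻¹) * V'⁻¹ = V * T₁ * V⁻¹ by group, eU] at h
    have et₂ : (⟨_, hq⟩ : ↥E₀) = act E₀ V' ⟨σ.d₂.z, mem_sup_right (σ.d₂.mem_four_left w)⟩ ∧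
        Tv (act E₀ U') (act E₀ V' ⟨σ.d₂.z, mem_sup_right (σ.d₂.mem_four_left w)⟩) := by
      have htv₂ : Tv (act E₀ T₂) ⟨σ.d₂.z, mem_sup_right (σ.d₂.mem_four_left w)⟩ := by
        refine ⟨Subtype.ext σ.d₂.z_sq, fun e => σ.d₂.z_ne_one (congrArg Subtype.val e),
          fun x => Subtype.ext (σ.swap.z_comm_P (σ.four_sup_le_P hb (σ.d₂.four_le hw) x.2)),
          Subtype.ext ?_, fun x => ?_, ⟨⟨w, mem_sup_right (σ.d₂.mem_four_right w)⟩, fun e => ?_⟩⟩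
        · rw [act_apply, hT₂]
          simp only
          rw [σ.d₂.z_central σ.d₂.t_mem, mul_inv_cancel_right]
        · have hx : (x : G) ∈ σ.swap.d₁.four w ⊔ σ.d₁.four b := by
            show (x : G) ∈ σ.d₂.four w ⊔ σ.d₁.four b
            rw [sup_comm]; exact x.2
          rcases σ.swap.t_conj_four_sup hk₂ hw hwr (σ.d₁.four_le hb) hx with h | h
          · exact Or.inl (Subtype.ext (by rw [act_apply, hT₂]; exact h))
          · exact Or.inr (Subtype.ext (by rw [act_apply, hT₂]; exact h))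
        · have h1 := congrArg Subtype.val e
          rw [act_apply, hT₂] at h1
          simp only at h1
          rw [σ.d₂.t_conj_refl hk₂ hw hwr, mul_eq_left] at h1
          exact σ.d₂.z_ne_one h1
      have hTv' := htv₂.conj (act E₀ V')
      rw [← map_inv, ← map_mul, ← map_mul, eU'] at hTv'
      refine ⟨?_, hTv'⟩
      obtain ⟨x, hx⟩ := hTv'.moved
      have e1 := (hTv'.cases x).resolve_left hx
      have hx' : (x : G) ∈ σ.swap.d₁.four w ⊔ σ.swap.D₂ := by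
        show (x : G) ∈ σ.d₂.four w ⊔ σ.D₁
        obtain ⟨c, hc, d, hd, e⟩ := σ.sup_decomp (σ.d₁.four_le hb) (σ.d₂.four_le hw) x.2
        rw [e]
        exact mul_mem (mem_sup_right (σ.d₁.four_le hb hc)) (mem_sup_left hd)
      have e2 := (σ.swap.mover_cases hk₂ hw hwr hm hx').resolve_left fun h => hx (Subtype.ext (by
        rw [act_apply, hU']; exact h))
      change m * σ.d₂.t * m⁻¹ * (x : G) * (m * σ.d₂.t * m⁻¹)⁻¹ = x * (m * σ.d₂.z * m⁻¹) at e2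
      have e3 : act E₀ U' x = x * ⟨_, hq⟩ := Subtype.ext (by rw [act_apply, hU']; exact e2)
      exact mul_left_cancel (e3.symm.trans e1)
    rw [et₂.1]
    exact et₂.2.fix_of_commute hcU
  have := congrArg Subtype.val hmain
  rw [act_apply, hU] at this
  exact this

/-- A four-group second factor: the odd part of `N(P)` commutes with the movers. -/
theorem odd_commute_mover (hk₁ : 1 ≤ σ.d₁.k) (hk₂ : σ.d₂.k = 0) (hb : b ∈ σ.D₁)
    (hbr : b ∉ zpowers σ.d₁.r) (hn : n ∈ normalizer ((σ.d₁.four b ⊔ σ.D₂ : Subgroup G) : Set G)) {m : G}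
    (hm : m ∈ normalizer ((σ.P : Subgroup G) : Set G)) (ho : ¬ 2 ∣ orderOf m) :
    m * (n * σ.d₁.z * n⁻¹) * m⁻¹ = n * σ.d₁.z * n⁻¹ ∧
    ∀ x ∈ σ.d₁.four b ⊔ σ.D₂, n * σ.d₁.t * n⁻¹ * (m * x * m⁻¹) * (n * σ.d₁.t * n⁻¹)⁻¹ =
      m * (n * σ.d₁.t * n⁻¹ * x * (n * σ.d₁.t * n⁻¹)⁻¹) * m⁻¹ := by
  set E := σ.d₁.four b ⊔ σ.D₂ with hE
  have hEP : E ≤ (σ.P : Subgroup G) := σ.four_sup_le_P hb le_rfl
  have hZE : σ.Z ≤ E := by
    intro x hx
    obtain ⟨c, hc, d, hd, rfl⟩ := σ.exists_mul (σ.Z_le hx)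
    refine mul_mem (mem_sup_left ?_) (mem_sup_right hd)
    rcases σ.d₁.central_cases hk₁ hc (fun y hy => σ.fst_central hd hx hy) with rfl | rfl
    · exact one_mem _
    · exact σ.d₁.mem_four_left b
  have hmN : m ∈ normalizer (E : Set G) := mem_normalizer_of_conj_mem fun x hx => by
    have h := hZE (σ.odd_mod_Z hm ho hk₁ hk₂ (hEP hx))
    have := mul_mem hx h
    rwa [mul_inv_cancel_left] at this
  obtain ⟨T, hT⟩ : ∃ T : ↥(normalizer (E : Set G)), T = ⟨σ.d₁.t, σ.t_mem_normalizer hk₁ hb hbr le_rfl⟩ :=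
    ⟨_, rfl⟩
  obtain ⟨M, hM⟩ : ∃ M : ↥(normalizer (E : Set G)), M = ⟨m, hmN⟩ := ⟨_, rfl⟩
  obtain ⟨N, hN⟩ : ∃ N : ↥(normalizer (E : Set G)), N = ⟨n, hn⟩ := ⟨_, rfl⟩
  have hcl : TvClass (tClass E T) := hT ▸ σ.full_tvClass hk₁ hb hbr
  have htv : Tv (act E T) ⟨σ.d₁.z, mem_sup_left (σ.d₁.mem_four_left b)⟩ :=
    hT ▸ σ.t_tv hk₁ hb hbr le_rfl
  have hU : act E (N * T * N⁻¹) ∈ tClass E T := ⟨N, rfl⟩
  have hTcl : act E T ∈ tClass E T := ⟨1, by rw [one_mul, inv_one, mul_one]⟩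
  have hMT : Commute (act E M) (act E T) := by
    rw [commute_iff_eq, ← map_mul, ← map_mul, act_eq_iff, Subgroup.coe_mul, Subgroup.coe_mul, hM, hT]
    simp only
    have hζ := σ.odd_mod_Z hm ho hk₁ hk₂ (σ.le₁ σ.d₁.t_mem)
    have hC : σ.Z ≤ centralizer (E : Set G) := fun x hx => mem_centralizer_iff.2 fun y hy =>
      (σ.Z_comm hx (hEP hy)).symm
    have := (mem_normalizer_iff.1 (Techniques.normalizer_le_normalizer_centralizer E (inv_mem hmN)) _).1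
      (hC hζ)
    rwa [inv_inv, show m⁻¹ * (σ.d₁.t⁻¹ * (m * σ.d₁.t * m⁻¹)) * m = (σ.d₁.t * m)⁻¹ * (m * σ.d₁.t) by group]
      at this
  have hMo : ¬ 2 ∣ orderOf (act E M) := fun h => ho ((h.trans (orderOf_map_dvd _ _)).trans (by
    rw [← Subgroup.orderOf_coe, hM]))
  have hc : Commute (act E M) (act E (N * T * N⁻¹)) := by
    set U := act E (N * T * N⁻¹) with hUdef
    by_cases hUT : act E T = U
    · exact hUT ▸ hMT
    refine commute_of_sq hMo ?_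
    have himg : ∀ X ∈ tClass E T, act E M * X * (act E M)⁻¹ ∈ tClass E T := by
      rintro _ ⟨g, rfl⟩
      exact ⟨M * g, by rw [← map_inv, ← map_mul, ← map_mul]; congr 1; group⟩
    have hfixT : act E M * act E T * (act E M)⁻¹ = act E T := by rw [hMT.eq, mul_inv_cancel_right]
    have hinj : ∀ X, act E M * X * (act E M)⁻¹ = act E T → X = act E T := fun X h =>
      mul_left_cancel (mul_right_cancel (h.trans hfixT.symm))
    have hkey : act E M * (act E M * U * (act E M)⁻¹) * (act E M)⁻¹ = U := by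
      by_cases h : U = act E M * U * (act E M)⁻¹
      · rw [← h, ← h]
      have h3 := hcl.three hTcl hU (himg U hU) hUT (fun e => hUT (hinj U e.symm).symm) h
      rw [h3, show act E M * (act E T * U * (act E T)⁻¹) * (act E M)⁻¹ = (act E M * act E T * (act E M)⁻¹) *
        (act E M * U * (act E M)⁻¹) * (act E M * act E T * (act E M)⁻¹)⁻¹ by group, hfixT, h3, htv.inv_eq,
        show act E T * (act E T * U * act E T) * act E T = (act E T * act E T) * U * (act E T * act E T)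
          by group, htv.mul_self, one_mul, mul_one]
    rw [show act E M * (act E M * U * (act E M)⁻¹) * (act E M)⁻¹ =
      act E M * act E M * U * (act E M * act E M)⁻¹ by group, mul_inv_eq_iff_eq_mul] at hkey
    exact hkey
  refine ⟨?_, fun x hx => ?_⟩
  · have hTv := htv.conj (act E N)
    rw [← map_inv, ← map_mul, ← map_mul] at hTv
    have h := congrArg Subtype.val (hTv.fix_of_commute hc)
    rw [act_apply, act_apply, hM, hN] at h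
    exact h
  · have h := congrArg Subtype.val (DFunLike.congr_fun hc.eq ⟨x, hx⟩)
    rw [MulAut.mul_apply, MulAut.mul_apply, act_apply, act_apply, act_apply, act_apply, hM, Subgroup.coe_mul,
      Subgroup.coe_mul, Subgroup.coe_inv, hN, hT] at h
    exact h.symm

end Setting

end CfsgLib.DihProduct
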