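import Cfsg.Agent.Lib.DihProduct.Dihedral
import Cfsg.Agent.Lib.Tech46.AlperinGoldschmidt
import Cfsg.Agent.Lib.Coprime.Commutator
import Cfsg.Agent.Lib.PGroup.Frattini

/-!
A Sylow 2-subgroup that is the product of two dihedral groups: projections and the radical conditions on
the members of the Alperin–Goldschmidt family.
-/

set_option autoImplicit false
set_option linter.unusedSectionVars false

namespace CfsgLib.DihProduct

open Subgroup

variable {G : Type*} [Group G]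

/-- A Sylow 2-subgroup which is the direct product of two dihedral groups. -/
structure Setting (G : Type*) [Group G] where
  P : Sylow 2 G
  D₁ : Subgroup G
  D₂ : Subgroup G
  d₁ : Dih D₁
  d₂ : Dih D₂
  le₁ : D₁ ≤ (P : Subgroup G)
  le₂ : D₂ ≤ (P : Subgroup G)
  comm : ∀ x ∈ D₁, ∀ y ∈ D₂, x * y = y * x
  disj : D₁ ⊓ D₂ = ⊥
  gen : D₁ ⊔ D₂ = (P : Subgroup G)

namespace Setting

variable (σ : Setting G)

/-- Exchange the factors. -/
def swap : Setting G where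
  P := σ.P
  D₁ := σ.D₂
  D₂ := σ.D₁
  d₁ := σ.d₂
  d₂ := σ.d₁
  le₁ := σ.le₂
  le₂ := σ.le₁
  comm x hx y hy := (σ.comm y hy x hx).symm
  disj := by rw [inf_comm]; exact σ.disj
  gen := by rw [sup_comm]; exact σ.gen

theorem D₁_le_centralizer : σ.D₁ ≤ centralizer (σ.D₂ : Set G) :=
  fun x hx => mem_centralizer_iff.2 fun y hy => (σ.comm x hx y hy).symm

theorem exists_mul {x : G} (hx : x ∈ (σ.P : Subgroup G)) : ∃ c ∈ σ.D₁, ∃ d ∈ σ.D₂, x = c * d := by
  rw [← σ.gen] at hx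
  obtain ⟨c, hc, d, hd, h⟩ := CfsgLib.Techniques.exists_mul_of_mem_sup
    (σ.D₁_le_centralizer.trans (centralizer_le_normalizer _)) hx
  exact ⟨c, hc, d, hd, h.symm⟩

theorem mul_unique {c c' d d' : G} (hc : c ∈ σ.D₁) (hc' : c' ∈ σ.D₁) (hd : d ∈ σ.D₂) (hd' : d' ∈ σ.D₂)
    (h : c * d = c' * d') : c = c' ∧ d = d' := by
  have e : c'⁻¹ * c = d' * d⁻¹ := by
    rw [eq_mul_inv_iff_mul_eq, mul_assoc, h, inv_mul_cancel_left]
  have h1 : c'⁻¹ * c ∈ σ.D₁ ⊓ σ.D₂ :=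
    mem_inf.2 ⟨mul_mem (inv_mem hc') hc, e ▸ mul_mem hd' (inv_mem hd)⟩
  rw [σ.disj, mem_bot, inv_mul_eq_one] at h1
  exact ⟨h1.symm, by rw [h1] at h; exact mul_left_cancel h⟩

theorem mul_mem_P {c d : G} (hc : c ∈ σ.D₁) (hd : d ∈ σ.D₂) : c * d ∈ (σ.P : Subgroup G) :=
  mul_mem (σ.le₁ hc) (σ.le₂ hd)

theorem pair_mul {c c' d d' : G} (hc' : c' ∈ σ.D₁) (hd : d ∈ σ.D₂) :
    c * d * (c' * d') = c * c' * (d * d') := by
  rw [mul_assoc c, ← mul_assoc d, ← σ.comm c' hc' d hd]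
  group

theorem conj_pair {c c' d d' : G} (hc : c ∈ σ.D₁) (hc' : c' ∈ σ.D₁) (hd : d ∈ σ.D₂) (hd' : d' ∈ σ.D₂) :
    c * d * (c' * d') * (c * d)⁻¹ = c * c' * c⁻¹ * (d * d' * d⁻¹) := by
  rw [σ.pair_mul hc' hd, mul_inv_rev, ← σ.comm c⁻¹ (inv_mem hc) d⁻¹ (inv_mem hd),
    σ.pair_mul (inv_mem hc) (mul_mem hd hd')]

theorem comm_pair {c x d : G} (hx : x ∈ σ.D₁) (hd : d ∈ σ.D₂) :
    x * (c * d) * x⁻¹ * (c * d)⁻¹ = x * c * x⁻¹ * c⁻¹ := by
  rw [← mul_assoc, mul_assoc (x * c) d, ← σ.comm x⁻¹ (inv_mem hx) d hd]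
  group

/-- The image of a subgroup of `P` in the first factor. -/
def proj₁ (E : Subgroup G) : Subgroup G := (E ⊔ σ.D₂) ⊓ σ.D₁

theorem le_normalizer₂ : (σ.P : Subgroup G) ≤ normalizer (σ.D₂ : Set G) := by
  rw [← σ.gen]
  exact sup_le (σ.D₁_le_centralizer.trans (centralizer_le_normalizer _)) le_normalizer

theorem mem_proj₁ {E : Subgroup G} (hE : E ≤ (σ.P : Subgroup G)) {c : G} :
    c ∈ σ.proj₁ E ↔ c ∈ σ.D₁ ∧ ∃ d ∈ σ.D₂, c * d ∈ E := by
  constructor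
  · intro h
    obtain ⟨h, hc⟩ := mem_inf.1 h
    refine ⟨hc, ?_⟩
    obtain ⟨e, he, d, hd, h'⟩ :=
      CfsgLib.Techniques.exists_mul_of_mem_sup (hE.trans σ.le_normalizer₂) h
    exact ⟨d⁻¹, inv_mem hd, by rw [← h', mul_inv_cancel_right]; exact he⟩
  · rintro ⟨hc, d, hd, h⟩
    refine ⟨?_, hc⟩
    have := mul_mem (mem_sup_left h : c * d ∈ E ⊔ σ.D₂) (mem_sup_right (inv_mem hd))
    rwa [mul_inv_cancel_right] at this

theorem fst_mem_proj₁ {E : Subgroup G} (hE : E ≤ (σ.P : Subgroup G)) {c d : G} (hc : c ∈ σ.D₁)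
    (hd : d ∈ σ.D₂) (h : c * d ∈ E) : c ∈ σ.proj₁ E := (σ.mem_proj₁ hE).2 ⟨hc, d, hd, h⟩

theorem snd_mem_proj₂ {E : Subgroup G} (hE : E ≤ (σ.P : Subgroup G)) {c d : G} (hc : c ∈ σ.D₁)
    (hd : d ∈ σ.D₂) (h : c * d ∈ E) : d ∈ σ.swap.proj₁ E :=
  (σ.swap.mem_proj₁ hE).2 ⟨hd, c, hc, show d * c ∈ E from σ.comm c hc d hd ▸ h⟩

/-- An element of the first factor commuting with the projection centralises `E`. -/
theorem mem_centralizer₁ {E : Subgroup G} (hE : E ≤ (σ.P : Subgroup G)) {x : G} (hx : x ∈ σ.D₁)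
    (h : ∀ c ∈ σ.proj₁ E, x * c = c * x) : x ∈ centralizer (E : Set G) := by
  rw [mem_centralizer_iff]
  intro e he
  obtain ⟨c, hc, d, hd, rfl⟩ := σ.exists_mul (hE he)
  have hc' := σ.fst_mem_proj₁ hE hc hd he
  exact (((show Commute x c from h c hc').mul_right (σ.comm x hx d hd)).eq).symm

end Setting

/-- The elements of `N(E) ∩ N(A)` acting trivially on `E / A`. -/
def trivOn (E A : Subgroup G) : Subgroup G where
  carrier := {n | n ∈ normalizer (E : Set G) ∧ n ∈ normalizer (A : Set G) ∧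
    ∀ e ∈ E, n * e * n⁻¹ * e⁻¹ ∈ A}
  mul_mem' := by
    rintro n m ⟨hn1, hn2, hn3⟩ ⟨hm1, hm2, hm3⟩
    refine ⟨mul_mem hn1 hm1, mul_mem hn2 hm2, fun e he => ?_⟩
    have h1 := (mem_normalizer_iff.1 hn2 _).1 (hm3 e he)
    have := mul_mem h1 (hn3 e he)
    rwa [show n * (m * e * m⁻¹ * e⁻¹) * n⁻¹ * (n * e * n⁻¹ * e⁻¹) = n * m * e * (n * m)⁻¹ * e⁻¹ by
      group] at this
  one_mem' := ⟨one_mem _, one_mem _, fun e _ => by simp⟩
  inv_mem' := by
    rintro n ⟨hn1, hn2, hn3⟩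
    refine ⟨inv_mem hn1, inv_mem hn2, fun e he => ?_⟩
    have h := (mem_normalizer_iff.1 (inv_mem hn2) _).1 (inv_mem (hn3 e he))
    rwa [show n⁻¹ * (n * e * n⁻¹ * e⁻¹)⁻¹ * n⁻¹⁻¹ = n⁻¹ * e * n⁻¹⁻¹ * e⁻¹ by group] at h

theorem trivOn_normalized (E A : Subgroup G) (hA : normalizer (E : Set G) ≤ normalizer (A : Set G)) :
    normalizer (E : Set G) ≤ normalizer (trivOn E A : Set G) := by
  refine le_normalizer_iff.2 ?_
  rintro g hg n ⟨hn1, hn2, hn3⟩
  refine ⟨mul_mem (mul_mem hg hn1) (inv_mem hg), mul_mem (mul_mem (hA hg) hn2) (inv_mem (hA hg)),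
    fun e he => ?_⟩
  have he' : g⁻¹ * e * g⁻¹⁻¹ ∈ E := (mem_normalizer_iff.1 (inv_mem hg) e).1 he
  have := (mem_normalizer_iff.1 (hA hg) _).1 (hn3 _ he')
  rwa [show g * (n * (g⁻¹ * e * g⁻¹⁻¹) * n⁻¹ * (g⁻¹ * e * g⁻¹⁻¹)⁻¹) * g⁻¹ =
    g * n * g⁻¹ * e * (g * n * g⁻¹)⁻¹ * e⁻¹ by group] at this

/-- The subgroup generated by the squares of `E`. -/
def sqClosure (E : Subgroup G) : Subgroup G := closure {w | ∃ e ∈ E, w = e * e}

theorem sq_mem_sqClosure {E : Subgroup G} {e : G} (he : e ∈ E) : e * e ∈ sqClosure E :=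
  subset_closure ⟨e, he, rfl⟩

theorem sqClosure_le (E : Subgroup G) : sqClosure E ≤ E :=
  (closure_le E).2 fun _ ⟨_, he, h⟩ => h ▸ E.mul_mem he he

theorem sqClosure_normalized (E : Subgroup G) :
    normalizer (E : Set G) ≤ normalizer (sqClosure E : Set G) := by
  rw [sqClosure, le_normalizer_closure_iff]
  rintro g hg w ⟨e, he, rfl⟩
  exact subset_closure ⟨g * e * g⁻¹, (mem_normalizer_iff.1 hg e).1 he, by group⟩

theorem comm_mem_sqClosure {E : Subgroup G} {a b : G} (ha : a ∈ E) (hb : b ∈ E) :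
    a * b * a⁻¹ * b⁻¹ ∈ sqClosure E := by
  rw [show a * b * a⁻¹ * b⁻¹ =
    (a * b) * (a * b) * ((b⁻¹ * a⁻¹ * b) * (b⁻¹ * a⁻¹ * b)) * (b⁻¹ * b⁻¹) by group]
  exact mul_mem (mul_mem (sq_mem_sqClosure (mul_mem ha hb))
    (sq_mem_sqClosure (mul_mem (mul_mem (inv_mem hb) (inv_mem ha)) hb))) (sq_mem_sqClosure (inv_mem hb))

section Radical

open Cfsg.Tech46.AlpGold

variable [Finite G]

local instance : Fact (Nat.Prime 2) := ⟨Nat.prime_two⟩

theorem mem_normalizer_of_conj_mem {E : Subgroup G} {x : G} (h : ∀ e ∈ E, x * e * x⁻¹ ∈ E) :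
    x ∈ normalizer (E : Set G) := by
  refine Techniques.map_conj_eq_self_iff.1 (eq_of_le_of_card_ge ?_ (le_of_eq (Techniques.card_map_conj E x).symm))
  rintro _ ⟨e, he, rfl⟩
  exact h e he

/-- A power of `m` by a power of two has odd order. -/
theorem exists_odd_pow (m : G) : ∃ j : ℕ, ¬ 2 ∣ orderOf (m ^ 2 ^ j) := by
  obtain ⟨j, o, ho, h⟩ := Nat.exists_eq_pow_mul_and_not_dvd (orderOf_pos m).ne' 2 (by norm_num)
  refine ⟨j, ?_⟩
  rw [orderOf_pow_of_dvd (by positivity) (h ▸ dvd_mul_right _ _), h, Nat.mul_div_cancel_left _ (by positivity)]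
  exact ho

theorem coprime_zpowers {w : G} (hw : ¬ 2 ∣ orderOf w) {K : Type*} [Group K] (hK : IsPGroup 2 K)
    [Finite K] : (Nat.card (zpowers w)).Coprime (Nat.card K) := by
  obtain ⟨n, hn⟩ := IsPGroup.iff_card.1 hK
  rw [Nat.card_zpowers, hn]
  exact ((Nat.prime_two.coprime_iff_not_dvd.2 hw).symm).pow_right n

variable {P : Sylow 2 G} {E : Subgroup G}

theorem family_inf_core_le (hF : Family P E) :
    (P : Subgroup G) ⊓ (Cfsg.pPrimePCore 2 ↥(normalizer (E : Set G))).map (normalizer (E : Set G)).subtype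
      ≤ E := by
  intro x hx
  obtain ⟨hEP, -, hidp, -⟩ := hF
  obtain ⟨-, -, hc, -, hsup⟩ := hidp
  obtain ⟨hxP, hxK⟩ := mem_inf.1 hx
  rw [← hsup] at hxK
  obtain ⟨o, ho, e, he, h⟩ := Techniques.exists_mul_of_mem_sup
    (fun a ha => centralizer_le_normalizer _ (mem_centralizer_iff.2 fun b hb => (hc a ha b hb).symm)) hxK
  have hoP : o ∈ (P : Subgroup G) := by
    have := mul_mem hxP (inv_mem (hEP he))
    rwa [← h, mul_inv_cancel_right] at this
  have hbot : (P : Subgroup G) ⊓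
      (Cfsg.pPrimeCore 2 ↥(normalizer (E : Set G))).map (normalizer (E : Set G)).subtype = ⊥ := by
    obtain ⟨k, hk⟩ := IsPGroup.iff_card.1 P.isPGroup'
    refine inf_eq_bot_of_coprime ?_
    rw [hk, card_map_of_injective (normalizer (E : Set G)).subtype_injective]
    exact Nat.Coprime.pow_left k (CfsgLib.PCore.pPrimeCore_coprime (p := 2)).symm
  have : o = 1 := (mem_bot).1 (hbot ▸ (⟨hoP, ho⟩ : o ∈ (P : Subgroup G) ⊓ _))
  rw [← h, this, one_mul]
  exact he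

theorem family_centric (hF : Family P E) : (P : Subgroup G) ⊓ centralizer (E : Set G) ≤ E :=
  (inf_le_inf_left _ hF.2.1).trans (family_inf_core_le hF)

/-- A normal subgroup of `N(E)` acting on `E` as a 2-group meets `P` inside `E`. -/
theorem family_radical (hF : Family P E) {M : Subgroup G} (hM : M ≤ normalizer (E : Set G))
    (hn : normalizer (E : Set G) ≤ normalizer (M : Set G))
    (hp : ∀ m ∈ M, ∃ j : ℕ, m ^ 2 ^ j ∈ centralizer (E : Set G)) :
    (P : Subgroup G) ⊓ M ≤ E := by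
  refine le_trans (inf_le_inf_left _ ?_) (family_inf_core_le hF)
  set N := normalizer (E : Set G) with hN
  haveI : (M.subgroupOf N).Normal := (normal_subgroupOf_iff_le_normalizer hM).2 hn
  let π := QuotientGroup.mk' (Cfsg.pPrimeCore 2 ↥N)
  have hle : (M.subgroupOf N).map π ≤ Cfsg.pCore 2 (↥N ⧸ Cfsg.pPrimeCore 2 ↥N) := by
    refine CfsgLib.PCore.le_pCore ((inferInstance : (M.subgroupOf N).Normal).map π
      (QuotientGroup.mk'_surjective _)) ?_
    rintro ⟨_, m, hm, rfl⟩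
    obtain ⟨j, hj⟩ := hp m (mem_subgroupOf.1 hm)
    obtain ⟨y, hy, hy'⟩ := hF.2.1 hj
    have he : y = m ^ 2 ^ j := Subtype.ext (by rw [Subgroup.coe_pow]; exact hy')
    rw [he] at hy
    obtain ⟨i, hi⟩ := (CfsgLib.PCore.pCore_isPGroup (p := 2)) ⟨π (m ^ 2 ^ j), hy⟩
    have hi' := congrArg Subtype.val hi
    rw [Subgroup.coe_pow, ← map_pow, ← pow_mul, ← pow_add] at hi'
    exact ⟨j + i, Subtype.ext (by rw [Subgroup.coe_pow, ← map_pow]; exact hi')⟩
  intro x hx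
  exact ⟨⟨x, hM hx⟩, hle (mem_map_of_mem π (show (⟨x, hM hx⟩ : ↥N) ∈ M.subgroupOf N from hx)), rfl⟩

/-- Acting trivially on `E` modulo squares forces membership. -/
theorem family_mem_of_sq (hF : Family P E) {x : G} (hxP : x ∈ (P : Subgroup G))
    (h : ∀ e ∈ E, x * e * x⁻¹ * e⁻¹ ∈ sqClosure E) : x ∈ E := by
  have hxN : x ∈ normalizer (E : Set G) := mem_normalizer_of_conj_mem fun e he => by
    have := mul_mem (sqClosure_le E (h e he)) he
    rwa [inv_mul_cancel_right] at this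
  refine family_radical hF (M := trivOn E (sqClosure E)) (fun n hn => hn.1)
    (trivOn_normalized _ _ (sqClosure_normalized E)) ?_ ⟨hxP, hxN, sqClosure_normalized E hxN, h⟩
  intro m hm
  obtain ⟨j, hj⟩ := exists_odd_pow m
  refine ⟨j, ?_⟩
  have hEp : IsPGroup 2 E := P.isPGroup'.to_le hF.1
  have hsq : sqClosure E ≤ (frattini E).map E.subtype := by
    rw [sqClosure, closure_le]
    rintro w ⟨e, he, rfl⟩
    exact ⟨_, CfsgLib.PGroup.pow_mem_frattini hEp ⟨e, he⟩, by simp [pow_two]⟩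
  have hmem := (trivOn E (sqClosure E)).pow_mem hm (2 ^ j)
  exact CfsgLib.Coprime.le_centralizer_of_trivial_on_frattini (zpowers (m ^ 2 ^ j)) E
    (zpowers_le.2 hmem.1) (coprime_zpowers hj (hEp.to_subgroup _))
    (fun a ha k hk => hsq (((zpowers_le.2 hmem) ha).2.2 k hk)) (mem_zpowers _)

/-- Stabilising an invariant series `1 < A ≤ E` forces membership. -/
theorem family_mem_of_series (hF : Family P E) {A : Subgroup G} (hAE : A ≤ E)
    (hA : normalizer (E : Set G) ≤ normalizer (A : Set G)) {x : G} (hxP : x ∈ (P : Subgroup G))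
    (hxA : ∀ a ∈ A, x * a = a * x) (h : ∀ e ∈ E, x * e * x⁻¹ * e⁻¹ ∈ A) : x ∈ E := by
  have hxN : x ∈ normalizer (E : Set G) := mem_normalizer_of_conj_mem fun e he => by
    have := mul_mem (hAE (h e he)) he
    rwa [inv_mul_cancel_right] at this
  refine family_radical hF (M := trivOn E A ⊓ centralizer (A : Set G)) (fun n hn => hn.1.1)
    ((le_inf (trivOn_normalized _ _ hA)
      (hA.trans (Techniques.normalizer_le_normalizer_centralizer A))).trans
      inf_normalizer_le_normalizer_inf) ?_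
    ⟨hxP, ⟨hxN, hA hxN, h⟩, mem_centralizer_iff.2 fun a ha => (hxA a ha).symm⟩
  intro m hm
  obtain ⟨j, hj⟩ := exists_odd_pow m
  refine ⟨j, ?_⟩
  have hEp : IsPGroup 2 E := P.isPGroup'.to_le hF.1
  have hmem := zpowers_le.2 ((trivOn E A ⊓ centralizer (A : Set G)).pow_mem hm (2 ^ j))
  refine CfsgLib.Coprime.le_centralizer_of_trivial_on_series (zpowers (m ^ 2 ^ j)) E
    (fun a ha => (hmem ha).1.1) (coprime_zpowers hj hEp)
    (Or.inl (Group.isSolvable_of_comm fun u v => by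
      obtain ⟨i, hi⟩ := u.2; obtain ⟨l, hl⟩ := v.2
      exact Subtype.ext (by
        rw [Subgroup.coe_mul, Subgroup.coe_mul, ← hi, ← hl]
        exact ((Commute.refl _).zpow_zpow i l).eq)))
    A hAE (fun a ha => (hmem ha).2) (fun a ha k hk => ?_) (mem_zpowers _)
  have h1 := (mem_normalizer_iff.1 (hA (inv_mem (le_normalizer hk))) _).1 ((hmem ha).1.2.2 k hk)
  rwa [show k⁻¹ * (a * k * a⁻¹ * k⁻¹) * k⁻¹⁻¹ = k⁻¹ * (a * k * a⁻¹) by group] at h1

end Radical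

end CfsgLib.DihProduct
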